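import Cfsg.Agent.H721.SR.Orth
import Cfsg.Agent.H160.QSemi
import Cfsg.Agent.H1.EightA
import Cfsg.Agent.H160.QFinal
import Mathlib
import Cfsg.Agent.H899.O7.Spec
import Cfsg.Agent.H382.Own5Lin
import Cfsg.Agent.H152.Tuple
import Cfsg.Agent.H152.Tilde
import Cfsg.Agent.H721.SR.Base
import Cfsg.Agent.S0241
import Cfsg.Agent.H413.JOneLocal
import Cfsg.Agent.J2Type.COdd
import Cfsg.Agent.KFacts.J2.Basic
import Cfsg.Agent.J2Type.ThreeA
import Cfsg.Agent.H646.FSOmega_mg
import Cfsg.Agent.H686.SR.Dye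
import Cfsg.Agent.Lib.FastPerm
import Cfsg.Agent.FastGrp
import Cfsg.Agent.Prune
set_option linter.all false

section
prune_inst 0x7fb1effa1bf829dfdfff7e6fa696edfdbbbd9fffa4dff943ffe061ff8bdf03124945f38589e010fe0ed6c23410a87803f97eeeffe26bd87ffffd1ff41ffbee4fe5f6b50011dc88240f340ffe03f0778e7f3fffffffffdfffffffffffffffffbeffbfffffffff

-- part: H388/SR/G1c
section
prune_inst 0x4e1005a407d400000000100148000004022000102004b800028a0070207c8884880428261aa9005121010000408340008111000000240000004000000011901801000940000490108000000000000000000000000020000000000000000000000000000000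
set_option linter.all false
open scoped Cfsg.Agent.FastGrp

-- part: H388/SR/Nil
section
/-!
# TEAM SR, task SR-G1c (helper388): tools for the generalised eigenspace of `σ = ±1`

* `NN g σ` : the linear map `g - σ`; `cyc_eq` : `cyc g v` is spanned by the `(g - σ)^j v` (finite dimension);
* `pow_star` : `(g⁻¹ - σ)^i x ∈ (-1)^i (g - σ)^i x + cyc g ((g - σ)^(i+1) x)`.
-/

set_option autoImplicit false
set_option linter.unusedSectionVars false

namespace Cfsg.Agent.H388.SR

open Polynomial Module Cfsg.Agent.H721.SR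

variable {F V : Type*} [Field F] [AddCommGroup V] [Module F V]

/-- `g - σ` -/
def NN (g : V ≃ₗ[F] V) (σ : F) : V →ₗ[F] V := (g : V →ₗ[F] V) - σ • LinearMap.id

variable {g : V ≃ₗ[F] V} {σ : F}

theorem NN_apply (x : V) : NN g σ x = g x - σ • x := rfl

theorem g_eq (x : V) : g x = σ • x + NN g σ x := by rw [NN_apply]; abel

theorem ginv_g (x : V) : g⁻¹ (g x) = x := g.symm_apply_apply x

theorem g_ginv (x : V) : g (g⁻¹ x) = x := g.apply_symm_apply x

theorem NN_ginv (x : V) : NN g σ (g⁻¹ x) = g⁻¹ (NN g σ x) := by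
  rw [NN_apply, NN_apply, map_sub, map_smul, g_ginv, ginv_g]

theorem NN_zpow (i : ℤ) (x : V) : NN g σ ((g ^ i) x) = (g ^ i) (NN g σ x) := by
  have h : g * g ^ i = g ^ i * g := by rw [← zpow_one_add, ← zpow_add_one, add_comm]
  rw [NN_apply, NN_apply, map_sub, map_smul, ← LinearEquiv.mul_apply, h, LinearEquiv.mul_apply]

theorem mem_cyc (v : V) : v ∈ cyc g v := Submodule.subset_span ⟨0, rfl⟩

theorem zpow_mem_cyc (v : V) (i : ℤ) : (g ^ i) v ∈ cyc g v := Submodule.subset_span ⟨i, rfl⟩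

theorem zpow_cyc {v x : V} (hx : x ∈ cyc g v) (i : ℤ) : (g ^ i) x ∈ cyc g v := by
  unfold cyc at hx
  induction hx using Submodule.span_induction with
  | mem y hy =>
    obtain ⟨j, rfl⟩ := hy
    show (g ^ i) ((g ^ j) v) ∈ _
    rw [← LinearEquiv.mul_apply, ← zpow_add]
    exact zpow_mem_cyc v _
  | zero => rw [map_zero]; exact zero_mem _
  | add x y _ _ hx hy => rw [map_add]; exact add_mem hx hy
  | smul a x _ hx => rw [map_smul]; exact Submodule.smul_mem _ _ hx

theorem g_cyc {v x : V} (hx : x ∈ cyc g v) : g x ∈ cyc g v := by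
  have := zpow_cyc hx 1
  rwa [zpow_one] at this

theorem ginv_cyc {v x : V} (hx : x ∈ cyc g v) : g⁻¹ x ∈ cyc g v := by
  have := zpow_cyc hx (-1)
  rwa [zpow_neg_one] at this

/-- `cyc g v` is the smallest subspace invariant under `g` and `g⁻¹` -/
theorem cyc_le {v : V} {U : Submodule F V} (hv : v ∈ U) (hg : ∀ x ∈ U, g x ∈ U) (hg' : ∀ x ∈ U, g⁻¹ x ∈ U) :
    cyc g v ≤ U := by
  unfold cyc
  rw [Submodule.span_le]
  rintro _ ⟨i, rfl⟩
  show (g ^ i) v ∈ U
  induction i using Int.induction_on with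
  | zero => exact hv
  | succ i ih =>
    have : g ^ ((i : ℤ) + 1) = g * g ^ (i : ℤ) := by rw [zpow_add_one]; exact (Commute.self_zpow g i).symm.eq
    rw [this, LinearEquiv.mul_apply]
    exact hg _ ih
  | pred i ih =>
    have : g ^ (-(i : ℤ) - 1) = g⁻¹ * g ^ (-(i : ℤ)) := by
      rw [zpow_sub_one]
      exact (Commute.zpow_self g _).inv_right.eq
    rw [this, LinearEquiv.mul_apply]
    exact hg' _ ih

theorem cyc_zero : cyc g (0 : V) = ⊥ := by
  rw [eq_bot_iff]
  refine cyc_le (zero_mem _) ?_ ?_ <;>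
  · intro x hx
    rw [Submodule.mem_bot] at hx ⊢
    rw [hx, map_zero]

theorem NN_cyc {v x : V} (hx : x ∈ cyc g v) : NN g σ x ∈ cyc g (NN g σ v) := by
  unfold cyc at hx
  induction hx using Submodule.span_induction with
  | mem y hy =>
    obtain ⟨j, rfl⟩ := hy
    show NN g σ ((g ^ j) v) ∈ _
    rw [NN_zpow]
    exact zpow_mem_cyc _ _
  | zero => rw [map_zero]; exact zero_mem _
  | add x y _ _ hx hy => rw [map_add]; exact add_mem hx hy
  | smul a x _ hx => rw [map_smul]; exact Submodule.smul_mem _ _ hx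

theorem NN_mem_cyc {v x : V} (hx : x ∈ cyc g v) : NN g σ x ∈ cyc g v :=
  sub_mem (g_cyc hx) (Submodule.smul_mem _ _ hx)

theorem NN_pow_mem_cyc {v x : V} (hx : x ∈ cyc g v) (i : ℕ) : (NN g σ ^ i) x ∈ cyc g v := by
  induction i with
  | zero => exact hx
  | succ i ih => rw [pow_succ']; exact NN_mem_cyc ih

/-- invariance under `g⁻¹` in finite dimension -/
theorem ginv_of_fin [FiniteDimensional F V] {U : Submodule F V} (hU : ∀ x ∈ U, g x ∈ U) : ∀ x ∈ U, g⁻¹ x ∈ U := by
  have h1 : U.map (g : V →ₗ[F] V) = U := by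
    refine Submodule.eq_of_le_of_finrank_eq ?_ ?_
    · rintro _ ⟨x, hx, rfl⟩
      exact hU x hx
    · exact LinearEquiv.finrank_map_eq g U
  intro x hx
  rw [← h1] at hx
  obtain ⟨y, hy, rfl⟩ := hx
  show g⁻¹ (g y) ∈ U
  rw [ginv_g]
  exact hy

/-- `cyc g v` is spanned by the `(g - σ)^j v`. -/
theorem cyc_eq [FiniteDimensional F V] (v : V) :
    cyc g v = Submodule.span F (Set.range fun j : ℕ => (NN g σ ^ j) v) := by
  refine le_antisymm ?_ ?_
  · have hg : ∀ x ∈ Submodule.span F (Set.range fun j : ℕ => (NN g σ ^ j) v),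
        g x ∈ Submodule.span F (Set.range fun j : ℕ => (NN g σ ^ j) v) := by
      intro x hx
      rw [g_eq (σ := σ)]
      refine add_mem (Submodule.smul_mem _ _ hx) ?_
      induction hx using Submodule.span_induction with
      | mem y hy =>
        obtain ⟨j, rfl⟩ := hy
        exact Submodule.subset_span ⟨j + 1, by
          show (NN g σ ^ (j + 1)) v = NN g σ ((NN g σ ^ j) v)
          rw [pow_succ']; rfl⟩
      | zero => rw [map_zero]; exact zero_mem _
      | add x y _ _ hx hy => rw [map_add]; exact add_mem hx hy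
      | smul a x _ hx => rw [map_smul]; exact Submodule.smul_mem _ _ hx
    exact cyc_le (Submodule.subset_span ⟨0, rfl⟩) hg (ginv_of_fin hg)
  · rw [Submodule.span_le]
    rintro _ ⟨j, rfl⟩
    exact NN_pow_mem_cyc (mem_cyc v) j

/-- the adjoint of `g - σ` -/
theorem star_eq (hσ : σ * σ = 1) (x : V) : NN g⁻¹ σ x = -NN g σ x + g⁻¹ (NN g σ (NN g σ x)) := by
  have h1 : ∀ y : V, g⁻¹ (NN g σ y) = y - σ • g⁻¹ y := by
    intro y
    rw [NN_apply, map_sub, map_smul, ginv_g]
  rw [h1, h1, NN_apply (g := g⁻¹), smul_sub, smul_smul, hσ, one_smul]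
  abel

theorem star_cyc (hσ : σ * σ = 1) {v x : V} (hx : x ∈ cyc g v) : NN g⁻¹ σ x ∈ cyc g (NN g σ v) := by
  rw [star_eq hσ]
  exact add_mem (neg_mem (NN_cyc hx)) (ginv_cyc (NN_mem_cyc (NN_cyc hx)))

theorem pow_star (hσ : σ * σ = 1) (i : ℕ) (x : V) :
    ∃ z ∈ cyc g ((NN g σ ^ (i + 1)) x), (NN g⁻¹ σ ^ i) x = (-1 : F) ^ i • (NN g σ ^ i) x + z := by
  induction i with
  | zero => exact ⟨0, zero_mem _, by simp⟩
  | succ i ih =>
    obtain ⟨z, hz, h⟩ := ih
    have e1 : (NN g σ ^ (i + 1)) x = NN g σ ((NN g σ ^ i) x) := by rw [pow_succ']; rfl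
    have e2 : (NN g σ ^ (i + 1 + 1)) x = NN g σ ((NN g σ ^ (i + 1)) x) := by rw [pow_succ']; rfl
    refine ⟨(-1 : F) ^ i • g⁻¹ (NN g σ ((NN g σ ^ (i + 1)) x)) + NN g⁻¹ σ z, ?_, ?_⟩
    · refine add_mem (Submodule.smul_mem _ _ (ginv_cyc ?_)) ?_
      · rw [e2]; exact mem_cyc _
      · rw [e2]
        exact star_cyc hσ hz
    · rw [pow_succ']
      show NN g⁻¹ σ ((NN g⁻¹ σ ^ i) x) = _
      rw [h, map_add, map_smul, star_eq hσ, ← e1, smul_add, pow_succ (-1 : F)]
      simp only [mul_neg, mul_one, neg_smul, smul_neg]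
      abel

theorem pow_star_of_zero (hσ : σ * σ = 1) {i : ℕ} {x : V} (hx : (NN g σ ^ (i + 1)) x = 0) :
    (NN g⁻¹ σ ^ i) x = (-1 : F) ^ i • (NN g σ ^ i) x := by
  obtain ⟨z, hz, h⟩ := pow_star (g := g) hσ i x
  rw [hx, cyc_zero, Submodule.mem_bot] at hz
  rw [h, hz, add_zero]

end Cfsg.Agent.H388.SR
end

-- part: H388/SR/G1c
section
/-!
# TEAM SR, task SR-G1c (helper388, S4971): pieces for the eigenvalues `±1`, characteristic not 2

`g1c` : `g` an isometry of the `ε`-symmetric form `B`, `X - σ` (`σ = ±1`) a divisor of the minimal polynomial: there is a cyclic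
piece with `ε = (-1)^(k+1)` or a pair piece with `ε = (-1)^k`.
-/

set_option autoImplicit false
set_option linter.unusedSectionVars false

namespace Cfsg.Agent.H388.SR

open Polynomial Module Cfsg.Agent.H721.SR

variable {F V : Type*} [Field F] [AddCommGroup V] [Module F V] {g : V ≃ₗ[F] V} {σ : F}

theorem aeval_X_sub (p : ℕ) : aeval (g : V →ₗ[F] V) ((X - C σ : F[X]) ^ p) = NN g σ ^ p := by
  rw [map_pow]
  congr 1
  rw [map_sub, aeval_X, aeval_C]
  rfl

/-- annihilators -/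
theorem ann_of {f : F[X]} (hf : Irreducible f) {k : ℕ} (hk : 0 < k) {v : V} (h0 : aeval (g : V →ₗ[F] V) (f ^ k) v = 0)
    (h1 : aeval (g : V →ₗ[F] V) (f ^ (k - 1)) v ≠ 0) : Ann g v (f ^ k) := by
  intro p
  constructor
  · intro hp
    by_contra hnd
    have hp0 : p ≠ 0 := by
      rintro rfl
      exact hnd (dvd_zero _)
    have hfin : FiniteMultiplicity f p := FiniteMultiplicity.of_not_isUnit hf.not_isUnit hp0
    obtain ⟨q, hq, hfq⟩ := hfin.exists_eq_pow_mul_and_not_dvd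
    set j := multiplicity f p with hj
    have hjk : j < k := by
      by_contra hle
      push Not at hle
      exact hnd ((pow_dvd_pow f hle).trans ⟨q, hq⟩)
    have hco : IsCoprime q (f ^ k) := (IsCoprime.pow_left ((hf.coprime_iff_not_dvd).2 hfq)).symm
    obtain ⟨a, b, hab⟩ := hco
    have h2 : f ^ j = a * p + b * f ^ j * f ^ k := by
      calc f ^ j = f ^ j * (a * q + b * f ^ k) := by rw [hab, mul_one]
        _ = a * (f ^ j * q) + b * f ^ j * f ^ k := by ring
        _ = _ := by rw [← hq]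
    have h3 : aeval (g : V →ₗ[F] V) (f ^ j) v = 0 := by
      rw [h2, map_add, map_mul, map_mul, LinearMap.add_apply, Module.End.mul_apply, Module.End.mul_apply, hp, h0, map_zero,
        map_zero, add_zero]
    apply h1
    have h4 : f ^ (k - 1) = f ^ (k - 1 - j) * f ^ j := by
      rw [← pow_add]
      congr 1
      omega
    rw [h4, map_mul, Module.End.mul_apply, h3, map_zero]
  · rintro ⟨q, rfl⟩
    rw [mul_comm, map_mul, Module.End.mul_apply, h0, map_zero]

section form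

variable {B : V →ₗ[F] V →ₗ[F] F} {ε : F}

theorem B_ginv (hS : St B ε g) (x y : V) : B (g x) y = B x (g⁻¹ y) := by
  rw [← hS.isom x (g⁻¹ y), g_ginv]

theorem B_g (hS : St B ε g) (x y : V) : B x (g y) = B (g⁻¹ x) y := by
  rw [← hS.isom (g⁻¹ x) y, g_ginv]

theorem B_zpow (hS : St B ε g) (i : ℤ) (x y : V) : B x ((g ^ i) y) = B ((g ^ (-i)) x) y := by
  have h : ∀ i : ℤ, ∀ x y : V, B ((g ^ i) x) ((g ^ i) y) = B x y := by
    intro i
    induction i using Int.induction_on with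
    | zero => intro x y; rfl
    | succ i ih =>
      intro x y
      rw [zpow_add_one, LinearEquiv.mul_apply, LinearEquiv.mul_apply, ih, hS.isom]
    | pred i ih =>
      intro x y
      rw [zpow_sub_one, LinearEquiv.mul_apply, LinearEquiv.mul_apply, ih, ← hS.isom, g_ginv, g_ginv]
  rw [← h i ((g ^ (-i)) x) y, ← LinearEquiv.mul_apply, ← zpow_add, add_neg_cancel, zpow_zero]
  rfl

theorem adj (hS : St B ε g) (x y : V) : B (NN g σ x) y = B x (NN g⁻¹ σ y) := by
  rw [NN_apply, NN_apply, map_sub, map_smul, map_sub, map_smul, LinearMap.sub_apply, LinearMap.smul_apply, B_ginv hS]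

theorem adj' (hS : St B ε g) (x y : V) : B x (NN g σ y) = B (NN g⁻¹ σ x) y := by
  rw [NN_apply, NN_apply, map_sub, map_smul, map_sub, map_smul, LinearMap.sub_apply, LinearMap.smul_apply, B_g hS]

theorem adj_pow (hS : St B ε g) (i : ℕ) (x y : V) : B ((NN g σ ^ i) x) y = B x ((NN g⁻¹ σ ^ i) y) := by
  induction i generalizing x y with
  | zero => rfl
  | succ i ih =>
    rw [pow_succ', pow_succ]
    show B (NN g σ ((NN g σ ^ i) x)) y = B x ((NN g⁻¹ σ ^ i) (NN g⁻¹ σ y))
    rw [adj hS, ih]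

theorem adj_pow' (hS : St B ε g) (i : ℕ) (x y : V) : B x ((NN g σ ^ i) y) = B ((NN g⁻¹ σ ^ i) x) y := by
  induction i generalizing x y with
  | zero => rfl
  | succ i ih =>
    rw [pow_succ', pow_succ]
    show B x (NN g σ ((NN g σ ^ i) y)) = B ((NN g⁻¹ σ ^ i) (NN g⁻¹ σ x)) y
    rw [adj' hS, ih]

theorem NN_pow_add (i j : ℕ) (x : V) : (NN g σ ^ i) ((NN g σ ^ j) x) = (NN g σ ^ (i + j)) x := by
  rw [pow_add]; rfl

theorem NN_pow_zero_of_le {i j : ℕ} (h : i ≤ j) {x : V} (hx : (NN g σ ^ i) x = 0) : (NN g σ ^ j) x = 0 := by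
  obtain ⟨m, rfl⟩ := Nat.exists_eq_add_of_le h
  rw [add_comm, ← NN_pow_add, hx, map_zero]

theorem star_mem_cyc {v x : V} (hx : x ∈ cyc g v) : NN g⁻¹ σ x ∈ cyc g v :=
  sub_mem (ginv_cyc hx) (Submodule.smul_mem _ _ hx)

theorem star_pow_mem_cyc {v x : V} (hx : x ∈ cyc g v) (i : ℕ) : (NN g⁻¹ σ ^ i) x ∈ cyc g v := by
  induction i with
  | zero => exact hx
  | succ i ih => rw [pow_succ']; exact star_mem_cyc ih

/-- `x = a v + y`, `y ∈ cyc g (N v)` -/
theorem decomp [FiniteDimensional F V] {v x : V} (hx : x ∈ cyc g v) :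
    ∃ (a : F) (y : V), y ∈ cyc g (NN g σ v) ∧ x = a • v + y := by
  rw [cyc_eq (σ := σ)] at hx
  induction hx using Submodule.span_induction with
  | mem y hy =>
    obtain ⟨j, rfl⟩ := hy
    rcases j with _ | j
    · exact ⟨1, 0, zero_mem _, by simp⟩
    · refine ⟨0, (NN g σ ^ (j + 1)) v, ?_, by simp⟩
      rw [pow_succ]
      exact NN_pow_mem_cyc (mem_cyc _) j
  | zero => exact ⟨0, 0, zero_mem _, by simp⟩
  | add x y _ _ hx hy =>
    obtain ⟨a, x', hx', rfl⟩ := hx
    obtain ⟨b, y', hy', rfl⟩ := hy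
    exact ⟨a + b, x' + y', add_mem hx' hy', by module⟩
  | smul c x _ hx =>
    obtain ⟨a, x', hx', rfl⟩ := hx
    exact ⟨c * a, c • x', Submodule.smul_mem _ _ hx', by module⟩

theorem NN_pow_cyc_zero {k : ℕ} {v : V} (hv : (NN g σ ^ k) v = 0) {x : V} (hx : x ∈ cyc g v) : (NN g σ ^ k) x = 0 := by
  have h : ∀ (i : ℕ), (NN g σ ^ i) x ∈ cyc g ((NN g σ ^ i) v) := by
    intro i
    induction i with
    | zero => exact hx
    | succ i ih =>
      rw [pow_succ']
      exact NN_cyc ih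
  have := h k
  rw [hv, cyc_zero, Submodule.mem_bot] at this
  exact this

theorem socle_one [FiniteDimensional F V] (k : ℕ) : ∀ {v x : V}, (NN g σ ^ (k + 1)) v = 0 → x ∈ cyc g v → x ≠ 0 →
    ∃ (t : ℕ) (a : F), a ≠ 0 ∧ (NN g σ ^ t) x = a • (NN g σ ^ k) v := by
  induction k with
  | zero =>
    intro v x hv hx hx0
    obtain ⟨a, y, hy, rfl⟩ := decomp (σ := σ) hx
    rw [zero_add, pow_one] at hv
    rw [hv, cyc_zero, Submodule.mem_bot] at hy
    subst hy
    refine ⟨0, a, ?_, by simp⟩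
    rintro rfl
    simp at hx0
  | succ k ih =>
    intro v x hv hx hx0
    obtain ⟨a, y, hy, rfl⟩ := decomp (σ := σ) hx
    by_cases ha : a = 0
    · subst ha
      rw [zero_smul, zero_add] at hx0 ⊢
      obtain ⟨t, a, ha, h⟩ := ih (v := NN g σ v) (x := y) (by rw [pow_succ] at hv; exact hv) hy hx0
      refine ⟨t, a, ha, ?_⟩
      rw [h, pow_succ (NN g σ) k]
      rfl
    · refine ⟨k + 1, a, ha, ?_⟩
      rw [map_add, map_smul, NN_pow_cyc_zero (v := NN g σ v) (by rw [pow_succ] at hv; exact hv) hy, add_zero]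

theorem socle_two [FiniteDimensional F V] (k : ℕ) : ∀ {u v x : V}, (NN g σ ^ (k + 1)) u = 0 → (NN g σ ^ (k + 1)) v = 0 →
    x ∈ cyc g u ⊔ cyc g v → x ≠ 0 →
    ∃ (t : ℕ) (a b : F), (a ≠ 0 ∨ b ≠ 0) ∧ (NN g σ ^ t) x = a • (NN g σ ^ k) u + b • (NN g σ ^ k) v := by
  induction k with
  | zero =>
    intro u v x hu hv hx hx0
    obtain ⟨x1, hx1, x2, hx2, rfl⟩ := Submodule.mem_sup.1 hx
    obtain ⟨a, y, hy, rfl⟩ := decomp (σ := σ) hx1
    obtain ⟨b, z, hz, rfl⟩ := decomp (σ := σ) hx2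
    rw [zero_add, pow_one] at hu hv
    rw [hu, cyc_zero, Submodule.mem_bot] at hy
    rw [hv, cyc_zero, Submodule.mem_bot] at hz
    subst hy hz
    refine ⟨0, a, b, ?_, by simp⟩
    by_contra hcon
    push Not at hcon
    rw [hcon.1, hcon.2] at hx0
    simp at hx0
  | succ k ih =>
    intro u v x hu hv hx hx0
    obtain ⟨x1, hx1, x2, hx2, rfl⟩ := Submodule.mem_sup.1 hx
    obtain ⟨a, y, hy, rfl⟩ := decomp (σ := σ) hx1
    obtain ⟨b, z, hz, rfl⟩ := decomp (σ := σ) hx2
    by_cases hab : a ≠ 0 ∨ b ≠ 0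
    · refine ⟨k + 1, a, b, hab, ?_⟩
      rw [map_add, map_add, map_add, map_smul, map_smul,
        NN_pow_cyc_zero (v := NN g σ u) (by rw [pow_succ] at hu; exact hu) hy,
        NN_pow_cyc_zero (v := NN g σ v) (by rw [pow_succ] at hv; exact hv) hz, add_zero, add_zero]
    · push Not at hab
      obtain ⟨rfl, rfl⟩ := hab
      simp only [zero_smul, zero_add] at hx0 ⊢
      obtain ⟨t, a, b, ha, h⟩ := ih (u := NN g σ u) (v := NN g σ v) (x := y + z) (by rw [pow_succ] at hu; exact hu)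
        (by rw [pow_succ] at hv; exact hv) (Submodule.add_mem_sup hy hz) hx0
      refine ⟨t, a, b, ha, ?_⟩
      rw [h, pow_succ (NN g σ) k]
      rfl

/-- `B(N^j u, u) = 0` for all `j`: `cyc g u` is totally isotropic -/
theorem iso_of [FiniteDimensional F V] (hS : St B ε g) {u : V} (h : ∀ j, B ((NN g σ ^ j) u) u = 0) : Iso0 B (cyc g u) := by
  have h1 : ∀ x ∈ cyc g u, B x u = 0 := by
    intro x hx
    rw [cyc_eq (σ := σ)] at hx
    induction hx using Submodule.span_induction with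
    | mem y hy => obtain ⟨j, rfl⟩ := hy; exact h j
    | zero => rw [map_zero]; rfl
    | add x y _ _ hx hy => rw [map_add, LinearMap.add_apply, hx, hy, add_zero]
    | smul c x _ hx => rw [map_smul, LinearMap.smul_apply, hx, smul_zero]
  intro x hx y hy
  unfold cyc at hy
  induction hy using Submodule.span_induction with
  | mem y hy =>
    obtain ⟨j, rfl⟩ := hy
    show B x ((g ^ j) u) = 0
    rw [B_zpow hS]
    exact h1 _ (zpow_cyc hx _)
  | zero => rw [map_zero]
  | add x y _ _ hx hy => rw [map_add, hx, hy, add_zero]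
  | smul c x _ hx => rw [map_smul, hx, smul_zero]

/-- the form `β(x, y) = B(N^(k-1) x, y)` -/
theorem beta_symm (hS : St B ε g) (hσ : σ * σ = 1) {k : ℕ} {x y : V} (hx : (NN g σ ^ (k + 1)) x = 0) :
    B ((NN g σ ^ k) y) x = (-1) ^ k * ε * B ((NN g σ ^ k) x) y := by
  rw [adj_pow hS, pow_star_of_zero hσ hx, map_smul, smul_eq_mul, hS.symm y, mul_assoc]

/-- one vector made isotropic -/
theorem exists_iso [FiniteDimensional F V] (h2 : (2 : F) ≠ 0) (hS : St B ε g) (hσ : σ * σ = 1) {k : ℕ} {u v : V}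
    (hε : (-1) ^ k * ε = -1) (hu : (NN g σ ^ (k + 1)) u = 0) (hv : (NN g σ ^ (k + 1)) v = 0)
    (huv : B ((NN g σ ^ k) u) v ≠ 0) :
    ∃ u', (NN g σ ^ (k + 1)) u' = 0 ∧ B ((NN g σ ^ k) u') v ≠ 0 ∧ ∀ j, B ((NN g σ ^ j) u') u' = 0 := by
  have key : ∀ i ≤ k + 1, ∃ u', (NN g σ ^ (k + 1)) u' = 0 ∧ B ((NN g σ ^ k) u') v ≠ 0 ∧
      ∀ j, k + 1 ≤ j + i → B ((NN g σ ^ j) u') u' = 0 := by
    intro i
    induction i with
    | zero =>
      intro _
      refine ⟨u, hu, huv, fun j hj => ?_⟩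
      rw [NN_pow_zero_of_le (by omega : k + 1 ≤ j) hu, map_zero]
      rfl
    | succ m ih =>
      intro hm
      obtain ⟨w, hw, hwv, hiso⟩ := ih (by omega)
      obtain ⟨l, hl⟩ : ∃ l, l + m = k := ⟨k - m, by omega⟩
      by_cases hc : B ((NN g σ ^ l) w) w = 0
      · refine ⟨w, hw, hwv, fun j hj => ?_⟩
        rcases Nat.lt_or_ge l j with h | h
        · exact hiso j (by omega)
        · have : j = l := by omega
          rw [this]; exact hc
      -- the sign
      have hsgn : (-1 : F) ^ l * ε = 1 := by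
        obtain ⟨z, hz, hz'⟩ := pow_star (g := g) hσ l w
        have hBz : B w z = 0 := by
          have h1 : ∀ x ∈ cyc g ((NN g σ ^ (l + 1)) w), B x w = 0 := by
            intro x hx
            rw [cyc_eq (σ := σ)] at hx
            induction hx using Submodule.span_induction with
            | mem y hy =>
              obtain ⟨j, rfl⟩ := hy
              show B ((NN g σ ^ j) ((NN g σ ^ (l + 1)) w)) w = 0
              rw [NN_pow_add]
              exact hiso _ (by omega)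
            | zero => rw [map_zero]; rfl
            | add x y _ _ hx hy => rw [map_add, LinearMap.add_apply, hx, hy, add_zero]
            | smul c x _ hx => rw [map_smul, LinearMap.smul_apply, hx, smul_zero]
          rw [hS.symm w z, h1 z hz, mul_zero]
        have h3 : B ((NN g σ ^ l) w) w = (-1) ^ l * ε * B ((NN g σ ^ l) w) w := by
          conv_lhs => rw [adj_pow hS, hz', map_add, map_smul, smul_eq_mul, hBz, add_zero, hS.symm w, ← mul_assoc]
        have h4 : ((-1) ^ l * ε - 1) * B ((NN g σ ^ l) w) w = 0 := by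
          rw [sub_mul, ← h3, one_mul, sub_self]
        rcases mul_eq_zero.1 h4 with h | h
        · exact sub_eq_zero.1 h
        · exact absurd h hc
      have hm1 : (-1 : F) ^ m = -1 := by
        have h5 : (-1 : F) ^ m * ((-1) ^ l * ε) = -1 := by
          rw [← mul_assoc, ← pow_add, add_comm m l, hl, hε]
        rwa [hsgn, mul_one] at h5
      have hm0 : m ≠ 0 := by
        rintro rfl
        rw [pow_zero] at hm1
        apply h2
        have : (2 : F) = 1 + 1 := by norm_num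
        rw [this]
        nth_rewrite 1 [hm1]
        rw [neg_add_cancel]
      set b := B ((NN g σ ^ k) w) v with hb
      set c := B ((NN g σ ^ l) w) w with hcdef
      have hvz : ∀ j, k < j → (NN g σ ^ j) v = 0 := fun j hj => NN_pow_zero_of_le hj hv
      have hwz : ∀ j, k < j → (NN g σ ^ j) w = 0 := fun j hj => NN_pow_zero_of_le hj hw
      have hadd : ∀ j, (NN g σ ^ j) (w + (c / (2 * b)) • (NN g σ ^ m) v) =
          (NN g σ ^ j) w + (c / (2 * b)) • (NN g σ ^ (j + m)) v := by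
        intro j
        rw [map_add, map_smul, NN_pow_add]
      refine ⟨w + (c / (2 * b)) • (NN g σ ^ m) v, ?_, ?_, ?_⟩
      · rw [hadd, hwz _ (by omega), hvz _ (by omega), smul_zero, add_zero]
      · rw [hadd, hvz _ (by omega), smul_zero, add_zero]
        exact hwv
      · intro j hj
        have e1 : B ((NN g σ ^ j) w) ((NN g σ ^ m) v) = (-1) ^ m * B ((NN g σ ^ (j + m)) w) v := by
          rw [adj_pow' hS, pow_star_of_zero hσ (x := (NN g σ ^ j) w) (by rw [NN_pow_add]; exact hwz _ (by omega)), map_smul,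
            LinearMap.smul_apply, smul_eq_mul, NN_pow_add, add_comm m j]
        have e2 : B ((NN g σ ^ (j + m)) v) ((NN g σ ^ m) v) = 0 := by
          rw [adj_pow' hS, pow_star_of_zero hσ (x := (NN g σ ^ (j + m)) v) (by rw [NN_pow_add]; exact hvz _ (by omega)), map_smul,
            LinearMap.smul_apply, smul_eq_mul, NN_pow_add, hvz _ (by omega), map_zero, LinearMap.zero_apply, mul_zero]
        rw [hadd]
        simp only [map_add, map_smul, LinearMap.add_apply, LinearMap.smul_apply, e1, e2, hm1, smul_eq_mul, mul_zero, add_zero]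
        rcases Nat.lt_or_ge l j with h | h
        · rw [hiso j (by omega), hwz _ (by omega), hvz _ (by omega)]
          simp
        · have hjl : j = l := by omega
          subst hjl
          have e3 : B ((NN g σ ^ (j + m)) v) w = -b := by
            rw [hl, beta_symm hS hσ hw, hε, hb, neg_one_mul]
          rw [e3, hl, ← hcdef, ← hb]
          field_simp
          ring
  obtain ⟨u', h1, h3, h4⟩ := key (k + 1) le_rfl
  exact ⟨u', h1, h3, fun j => h4 j (by omega)⟩

theorem NN_star_pow (hσ : σ * σ = 1) (i : ℕ) (x : V) :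
    (NN g⁻¹ σ ^ i) x = (-σ) ^ i • (g⁻¹ ^ i) ((NN g σ ^ i) x) := by
  have h1 : ∀ y : V, NN g⁻¹ σ y = (-σ) • g⁻¹ (NN g σ y) := by
    intro y
    rw [NN_apply, NN_apply, map_sub, map_smul, ginv_g, smul_sub, smul_smul, neg_mul, hσ]
    module
  induction i generalizing x with
  | zero => simp
  | succ i ih =>
    rw [pow_succ, pow_succ (NN g σ)]
    show (NN g⁻¹ σ ^ i) (NN g⁻¹ σ x) = (-σ) ^ (i + 1) • (g⁻¹ ^ (i + 1)) ((NN g σ ^ i) (NN g σ x))
    have h3 : ∀ j : ℕ, ∀ y : V, (NN g σ ^ j) (g⁻¹ y) = g⁻¹ ((NN g σ ^ j) y) := by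
      intro j
      induction j with
      | zero => intro y; rfl
      | succ j ihj =>
        intro y
        rw [pow_succ']
        show NN g σ ((NN g σ ^ j) (g⁻¹ y)) = g⁻¹ (NN g σ ((NN g σ ^ j) y))
        rw [ihj, NN_ginv]
    rw [ih, h1, map_smul, map_smul, h3, smul_smul, ← pow_succ, pow_succ g⁻¹]
    rfl

/-- **SR-G1c.** -/
theorem g1c [FiniteDimensional F V] (h2 : (2 : F) ≠ 0) (hS : St B ε g) (hσ : σ = 1 ∨ σ = -1)
    (hf : (X - C σ : F[X]) ∣ minpoly F (g : V →ₗ[F] V)) :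
    (∃ (k : ℕ) (v : V), CPiece B g (X - C σ) k v ∧ ε = (-1) ^ (k + 1)) ∨
      (∃ (k : ℕ) (v w : V), PPiece B g (X - C σ) k v w ∧ ε = (-1) ^ k) := by
  classical
  have hσσ : σ * σ = 1 := by rcases hσ with rfl | rfl <;> norm_num
  have hirr : Irreducible (X - C σ : F[X]) := irreducible_X_sub_C σ
  -- an eigenvector
  obtain ⟨x0, hx00, hx0⟩ : ∃ x : V, x ≠ 0 ∧ NN g σ x = 0 := by
    have h1 : (minpoly F (g : V →ₗ[F] V)).IsRoot σ := dvd_iff_isRoot.1 hf
    obtain ⟨x, hx⟩ := (Module.End.hasEigenvalue_of_isRoot h1).exists_hasEigenvector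
    refine ⟨x, hx.2, ?_⟩
    rw [NN_apply, sub_eq_zero]
    exact hx.apply_eq_smul
  -- Fitting
  obtain ⟨n, hn1, hn⟩ : ∃ n, 1 ≤ n ∧ IsCompl (LinearMap.ker (NN g σ ^ n)) (LinearMap.range (NN g σ ^ n)) := by
    obtain ⟨m, hm⟩ := Filter.eventually_atTop.1 (LinearMap.eventually_isCompl_ker_pow_range_pow (NN g σ))
    exact ⟨m + 1, by omega, hm _ (by omega)⟩
  have hex : ∃ k, ∀ x : V, (NN g σ ^ n) x = 0 → (NN g σ ^ k) x = 0 := ⟨n, fun _ h => h⟩
  obtain ⟨k, hk, hmin⟩ : ∃ k, (∀ x : V, (NN g σ ^ n) x = 0 → (NN g σ ^ k) x = 0) ∧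
      ∀ j < k, ¬ ∀ x : V, (NN g σ ^ n) x = 0 → (NN g σ ^ j) x = 0 :=
    ⟨Nat.find hex, Nat.find_spec hex, fun j hj => Nat.find_min hex hj⟩
  have hk0 : k ≠ 0 := by
    rintro rfl
    refine hx00 (hk x0 ?_)
    obtain ⟨m, rfl⟩ := Nat.exists_eq_add_of_le hn1
    rw [add_comm, pow_succ]
    show (NN g σ ^ m) (NN g σ x0) = 0
    rw [hx0, map_zero]
  obtain ⟨k, rfl⟩ := Nat.exists_eq_succ_of_ne_zero hk0
  have hkn : k + 1 ≤ n := by
    by_contra hlt
    push Not at hlt
    exact hmin n hlt fun _ h => h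
  obtain ⟨u, hun, huk⟩ : ∃ u : V, (NN g σ ^ n) u = 0 ∧ (NN g σ ^ k) u ≠ 0 := by
    have := hmin k (Nat.lt_succ_self k)
    push Not at this
    exact this
  have hu : (NN g σ ^ (k + 1)) u = 0 := hk u hun
  -- a partner
  obtain ⟨v, hv, huv⟩ : ∃ v : V, (NN g σ ^ (k + 1)) v = 0 ∧ B ((NN g σ ^ k) u) v ≠ 0 := by
    obtain ⟨y, hy⟩ : ∃ y, B ((NN g σ ^ k) u) y ≠ 0 := by
      by_contra hcon
      push Not at hcon
      exact huk (hS.nondeg _ hcon)
    have hytop : y ∈ LinearMap.ker (NN g σ ^ n) ⊔ LinearMap.range (NN g σ ^ n) := by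
      rw [hn.sup_eq_top]; exact Submodule.mem_top
    obtain ⟨y0, hy0, y1, ⟨z, rfl⟩, rfl⟩ := Submodule.mem_sup.1 hytop
    refine ⟨y0, hk y0 (LinearMap.mem_ker.1 hy0), ?_⟩
    have h1 : B ((NN g σ ^ k) u) ((NN g σ ^ n) z) = 0 := by
      rw [adj_pow' hS, NN_star_pow hσσ, NN_pow_add, NN_pow_zero_of_le (by omega : k + 1 ≤ n + k) hu, map_zero, smul_zero,
        map_zero, LinearMap.zero_apply]
    rwa [map_add, h1, add_zero] at hy
  have hne : ∀ {x y : V}, B ((NN g σ ^ k) x) y ≠ 0 → (NN g σ ^ k) x ≠ 0 := by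
    intro x y h h0
    rw [h0, map_zero] at h
    exact h rfl
  have hann : ∀ {x : V}, (NN g σ ^ (k + 1)) x = 0 → (NN g σ ^ k) x ≠ 0 → Ann g x ((X - C σ) ^ (k + 1)) := by
    intro x h0 h1
    refine ann_of hirr (Nat.succ_pos k) ?_ ?_
    · rw [aeval_X_sub]; exact h0
    · rw [Nat.succ_sub_one, aeval_X_sub]; exact h1
  have hpm : (-1 : F) ^ k * ε = 1 ∨ (-1 : F) ^ k * ε = -1 := by
    rcases neg_one_pow_eq_or F k with h | h <;> rcases hS.eps with h' | h' <;> rw [h, h'] <;> norm_num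
  have hkk : (-1 : F) ^ k * (-1) ^ k = 1 := by rw [← mul_pow]; norm_num
  rcases hpm with hε | hε
  · -- cyclic piece
    left
    have hε' : ε = (-1) ^ (k + 1 + 1) := by
      have : (-1 : F) ^ k * ((-1) ^ k * ε) = (-1) ^ k := by rw [hε, mul_one]
      rw [← mul_assoc, hkk, one_mul] at this
      rw [this, pow_succ, pow_succ]
      ring
    obtain ⟨w, hw, hww⟩ : ∃ w : V, (NN g σ ^ (k + 1)) w = 0 ∧ B ((NN g σ ^ k) w) w ≠ 0 := by
      by_cases h1 : B ((NN g σ ^ k) u) u = 0
      swap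
      · exact ⟨u, hu, h1⟩
      by_cases h3 : B ((NN g σ ^ k) v) v = 0
      swap
      · exact ⟨v, hv, h3⟩
      refine ⟨u + v, by rw [map_add, hu, hv, add_zero], ?_⟩
      have h4 : B ((NN g σ ^ k) v) u = B ((NN g σ ^ k) u) v := by
        rw [beta_symm hS hσσ hu, hε, one_mul]
      simp only [map_add, LinearMap.add_apply]
      rw [h1, h3, h4, zero_add, add_zero, ← two_mul]
      exact mul_ne_zero h2 huv
    refine ⟨k + 1, w, ⟨hirr, Nat.succ_pos k, hann hw (hne hww), ?_⟩, hε'⟩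
    intro x hx hxr
    by_contra hx0
    obtain ⟨t, a, ha, h⟩ := socle_one k hw hx hx0
    have h1 : B ((NN g σ ^ t) x) w = 0 := by
      rw [adj_pow hS]
      exact hxr _ (star_pow_mem_cyc (mem_cyc w) t)
    rw [h, map_smul, LinearMap.smul_apply, smul_eq_mul] at h1
    exact (mul_ne_zero ha hww) h1
  · -- pair piece
    right
    have hε' : ε = (-1) ^ (k + 1) := by
      have : (-1 : F) ^ k * ((-1) ^ k * ε) = (-1) ^ k * (-1) := by rw [hε]
      rw [← mul_assoc, hkk, one_mul] at this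
      rw [this, pow_succ]
    have hanti : ∀ {x y : V}, (NN g σ ^ (k + 1)) x = 0 → B ((NN g σ ^ k) y) x = -B ((NN g σ ^ k) x) y := by
      intro x y hx
      rw [beta_symm hS hσσ hx, hε, neg_one_mul]
    have hself : ∀ {x : V}, (NN g σ ^ (k + 1)) x = 0 → B ((NN g σ ^ k) x) x = 0 := by
      intro x hx
      have h1 := hanti (y := x) hx
      have h3 : (2 : F) * B ((NN g σ ^ k) x) x = 0 := by rw [two_mul]; nth_rewrite 1 [h1]; rw [neg_add_cancel]
      rcases mul_eq_zero.1 h3 with h | h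
      · exact absurd h h2
      · exact h
    obtain ⟨u', hu', huv', hiu⟩ := exists_iso h2 hS hσσ hε hu hv huv
    have hvu' : B ((NN g σ ^ k) v) u' ≠ 0 := by
      rw [hanti hu', neg_ne_zero]
      exact huv'
    obtain ⟨v', hv', hvu'', hiv⟩ := exists_iso h2 hS hσσ hε hv hu' hvu'
    have huv'' : B ((NN g σ ^ k) u') v' ≠ 0 := by
      rw [hanti hv', neg_ne_zero]
      exact hvu''
    refine ⟨k + 1, u', v', ⟨hirr, Nat.succ_pos k, hann hu' (hne huv''), ?_, iso_of hS hiu, iso_of hS hiv, ?_⟩, hε'⟩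
    · refine ann_of (g := g⁻¹) hirr (Nat.succ_pos k) ?_ ?_
      · rw [aeval_X_sub, NN_star_pow hσσ, hv', map_zero, smul_zero]
      · rw [Nat.succ_sub_one, aeval_X_sub, NN_star_pow hσσ]
        refine smul_ne_zero (pow_ne_zero _ ?_) ?_
        · rw [neg_ne_zero]
          rintro rfl
          rw [mul_zero] at hσσ
          exact zero_ne_one hσσ
        · intro h
          exact hne hvu'' ((LinearEquiv.map_eq_zero_iff _).1 h)
    · intro x hx hxr
      by_contra hx0
      obtain ⟨t, a, b, hab, h⟩ := socle_two k hu' hv' hx hx0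
      have h1 : B ((NN g σ ^ t) x) v' = 0 := by
        rw [adj_pow hS]
        exact hxr _ (Submodule.mem_sup_right (star_pow_mem_cyc (mem_cyc v') t))
      have h3 : B ((NN g σ ^ t) x) u' = 0 := by
        rw [adj_pow hS]
        exact hxr _ (Submodule.mem_sup_left (star_pow_mem_cyc (mem_cyc u') t))
      rw [h, map_add, map_smul, map_smul, LinearMap.add_apply, LinearMap.smul_apply, LinearMap.smul_apply, smul_eq_mul,
        smul_eq_mul, hself hv', mul_zero, add_zero] at h1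
      rw [h, map_add, map_smul, map_smul, LinearMap.add_apply, LinearMap.smul_apply, LinearMap.smul_apply, smul_eq_mul,
        smul_eq_mul, hself hu', mul_zero, zero_add] at h3
      rcases hab with ha | hb
      · exact mul_ne_zero ha huv'' h1
      · exact mul_ne_zero hb hvu'' h3

end form

end Cfsg.Agent.H388.SR
end
end

-- part: H807/SR/Tool_mg
section
prune_inst 0x4e1001a007d620200001905169000004022000102004b8000a8a0070207c8884a80438221baa0051210001044483c0068111000000240000004000400011901a0908090000049000406000f800000000000000000000000000000000000000000000000000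
set_option linter.all false
open scoped Cfsg.Agent.FastGrp

-- part: H807/SR/Tool
section
/-!
# TEAM SR: common tools for one isometry

Notation of this file: `P g p` is the endomorphism `p(g)`.

* `adj`          : `B (p(g) x) y = B x (p(g⁻¹) y)`;
* `stInv`        : `St B ε g⁻¹`;
* `mem_cyc`      : `x ∈ cyc g v ↔ ∃ p, x = p(g) v`; `mem_cyc'` with `g⁻¹`; `cyc_inv`;
* `ann_of`       : `f` irreducible, `f^k(g) v = 0`, `f^(k-1)(g) v ≠ 0` ⟹ `Ann g v (f^k)`;
* `socle`        : `¬ f^k ∣ p` ⟹ `∃ a b, f^(k-1) = a * p + b * f^k`;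
* `P_reverse`    : `p.reverse(g) = g^(deg p) p(g⁻¹)`;
* `P_inv_zero`   : `p(g⁻¹) = 0` if `p(g) = 0`;
* `exists_max`   : the maximal exponent and a vector with annihilator `f^k`;
* `exists_dual`  : `x ≠ 0` killed by `f^k(g)` pairs nontrivially with a `w` killed by `f^k(g⁻¹)`;
* `ndOn_cyc`, `ndOn_pair` : nondegeneracy through the socle;
* `exists_ppiece` : THEOREM PIECE, part (i).
-/

set_option autoImplicit false

namespace Cfsg.Agent.H807.SR

open Polynomial Module
open Cfsg.Agent.H721.SR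

variable {F V : Type*} [Field F] [AddCommGroup V] [Module F V]

/-- `p(g)` -/
noncomputable def P (g : V ≃ₗ[F] V) (p : F[X]) : V →ₗ[F] V := aeval (g : V →ₗ[F] V) p

theorem P_def (g : V ≃ₗ[F] V) (p : F[X]) : P g p = aeval (g : V →ₗ[F] V) p := rfl

section Basic

variable (g : V ≃ₗ[F] V)

@[simp] theorem P_zero (x : V) : P g 0 x = 0 := by simp [P]
@[simp] theorem P_one (x : V) : P g 1 x = x := by simp [P]
@[simp] theorem P_C (c : F) (x : V) : P g (C c) x = c • x := by
  simp [P, aeval_C, Algebra.algebraMap_eq_smul_one]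
@[simp] theorem P_X (x : V) : P g X x = g x := by simp [P]
theorem P_add (p q : F[X]) (x : V) : P g (p + q) x = P g p x + P g q x := by simp [P]
theorem P_mul (p q : F[X]) (x : V) : P g (p * q) x = P g p (P g q x) := by simp [P]
theorem P_comm (p q : F[X]) (x : V) : P g p (P g q x) = P g q (P g p x) := by
  rw [← P_mul, mul_comm, P_mul]
theorem P_smul (c : F) (p : F[X]) (x : V) : P g (c • p) x = c • P g p x := by simp [P]
theorem P_X_pow (n : ℕ) (x : V) : P g (X ^ n) x = (g ^ n) x := by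
  induction n with
  | zero => simp
  | succ n ih => rw [pow_succ', P_mul, ih, P_X, pow_succ']; rfl

theorem inv_zpow_apply (i : ℤ) (v : V) : ((g⁻¹) ^ i) v = (g ^ (-i)) v := by
  rw [inv_zpow, zpow_neg]

theorem cyc_inv (v : V) : cyc g⁻¹ v = cyc g v := by
  unfold cyc
  congr 1
  ext x
  constructor
  · rintro ⟨i, rfl⟩
    exact ⟨-i, by simp only [inv_zpow_apply]⟩
  · rintro ⟨i, rfl⟩
    exact ⟨-i, by simp only [inv_zpow_apply, neg_neg]⟩

theorem self_mem_cyc (v : V) : v ∈ cyc g v := Submodule.subset_span ⟨0, by simp⟩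

theorem P_inv_g (p : F[X]) (x : V) : P g p (g x) = g (P g p x) := by
  rw [← P_X g, P_comm, P_X]

theorem P_mem_cyc (p : F[X]) (v : V) : P g p v ∈ cyc g v := by
  induction p using Polynomial.induction_on' with
  | add p q hp hq => rw [P_add]; exact Submodule.add_mem _ hp hq
  | monomial n a =>
    rw [← C_mul_X_pow_eq_monomial, P_mul, P_C, P_X_pow]
    refine Submodule.smul_mem _ _ (Submodule.subset_span ⟨(n : ℤ), ?_⟩)
    simp only [zpow_natCast]

/-- `{p(g) v}` -/
noncomputable def cyc' (v : V) : Submodule F V where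
  carrier := {x | ∃ p, x = P g p v}
  zero_mem' := ⟨0, by simp⟩
  add_mem' := by
    rintro _ _ ⟨p, rfl⟩ ⟨q, rfl⟩
    exact ⟨p + q, (P_add ..).symm⟩
  smul_mem' := by
    rintro c _ ⟨p, rfl⟩
    exact ⟨c • p, (P_smul ..).symm⟩

theorem mem_cyc [FiniteDimensional F V] {v x : V} : x ∈ cyc g v ↔ ∃ p, x = P g p v := by
  constructor
  · intro hx
    have hg : ∀ y ∈ cyc' g v, g y ∈ cyc' g v := by
      rintro _ ⟨p, rfl⟩
      exact ⟨X * p, by rw [P_mul, P_X]⟩
    have hmap : (cyc' g v).map (g : V →ₗ[F] V) = cyc' g v := by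
      apply Submodule.eq_of_le_of_finrank_eq
      · rintro _ ⟨y, hy, rfl⟩
        exact hg y hy
      · exact LinearEquiv.finrank_map_eq g _
    have hg' : ∀ y ∈ cyc' g v, g⁻¹ y ∈ cyc' g v := by
      intro y hy
      rw [← hmap] at hy
      obtain ⟨z, hz, rfl⟩ := hy
      have : g⁻¹ ((g : V →ₗ[F] V) z) = z := g.symm_apply_apply z
      rw [this]; exact hz
    have hle : cyc g v ≤ cyc' g v := by
      refine Submodule.span_le.mpr ?_
      rintro _ ⟨i, rfl⟩
      show (g ^ i) v ∈ cyc' g v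
      induction i using Int.induction_on with
      | zero => exact ⟨1, by simp⟩
      | succ n ih =>
        have := hg _ ih
        rwa [← LinearEquiv.mul_apply, ← zpow_one_add, add_comm] at this
      | pred n ih =>
        have := hg' _ ih
        rwa [← LinearEquiv.mul_apply, ← zpow_neg_one, ← zpow_add, add_comm, ← sub_eq_add_neg] at this
    exact hle hx
  · rintro ⟨p, rfl⟩
    exact P_mem_cyc g p v

theorem mem_cyc_inv [FiniteDimensional F V] {v x : V} : x ∈ cyc g v ↔ ∃ p, x = P g⁻¹ p v := by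
  rw [← cyc_inv, mem_cyc]

end Basic

section Reverse

variable (g : V ≃ₗ[F] V)

/-- `(reflect N p)(g) = g^N p(g⁻¹)` -/
theorem P_reflect (N : ℕ) (p : F[X]) (hp : p.natDegree ≤ N) (x : V) :
    P g (reflect N p) x = (g ^ N) (P g⁻¹ p x) := by
  refine Polynomial.induction_with_natDegree_le
    (fun p => P g (reflect N p) x = (g ^ N) (P g⁻¹ p x)) N ?_ ?_ ?_ p hp
  · simp
  · intro n c _ hn
    rw [reflect_C_mul, reflect_monomial, revAt_le hn]
    rw [P_mul, P_C, P_X_pow, P_mul, P_C, P_X_pow, map_smul]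
    congr 1
    have : (g ^ N : V ≃ₗ[F] V) = g ^ (N - n) * g ^ n := by rw [← pow_add, Nat.sub_add_cancel hn]
    rw [this, LinearEquiv.mul_apply]
    congr 1
    rw [inv_pow, ← LinearEquiv.mul_apply, mul_inv_cancel]; rfl
  · intro p q _ _ hp hq
    rw [reflect_add, P_add, hp, hq, P_add, map_add]

theorem P_reverse (p : F[X]) (x : V) :
    P g p.reverse x = (g ^ p.natDegree) (P g⁻¹ p x) := P_reflect g _ p le_rfl x

theorem P_reverse_eq_zero {p : F[X]} {x : V} : P g p.reverse x = 0 ↔ P g⁻¹ p x = 0 := by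
  rw [P_reverse]
  exact (g ^ p.natDegree).map_eq_zero_iff

theorem P_inv_comm (p q : F[X]) (x : V) : P g p (P g⁻¹ q x) = P g⁻¹ q (P g p x) := by
  have h1 : ∀ x, P g p (g⁻¹ x) = g⁻¹ (P g p x) := by
    intro x
    have h : P g p (g (g⁻¹ x)) = g (P g p (g⁻¹ x)) := P_inv_g g p _
    have h2 : g (g⁻¹ x) = x := g.apply_symm_apply x
    rw [h2] at h
    rw [h]
    exact (g.symm_apply_apply _).symm
  induction q using Polynomial.induction_on' with
  | add q r hq hr => rw [P_add, P_add, map_add, hq, hr]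
  | monomial n a =>
    rw [← C_mul_X_pow_eq_monomial, P_mul, P_C, P_mul, P_C, map_smul]
    congr 1
    clear a
    induction n generalizing x with
    | zero => simp
    | succ n ih => rw [pow_succ, P_mul, P_mul, P_X, P_X, ih, h1]

end Reverse

section Form

variable {B : V →ₗ[F] V →ₗ[F] F} {ε : F} {g : V ≃ₗ[F] V}

theorem g_inv_apply (g : V ≃ₗ[F] V) (x : V) : g (g⁻¹ x) = x := g.apply_symm_apply x
theorem stInv (h : St B ε g) : St B ε g⁻¹ where
  eps := h.eps
  symm := h.symm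
  nondeg := h.nondeg
  isom := fun x y => by
    have := h.isom (g⁻¹ x) (g⁻¹ y)
    rw [g_inv_apply, g_inv_apply] at this
    exact this.symm

theorem eps_sq (h : St B ε g) : ε * ε = 1 := by
  rcases h.eps with h | h <;> rw [h] <;> ring

theorem eps_ne (h : St B ε g) : ε ≠ 0 := by
  intro h0
  have := eps_sq h
  rw [h0] at this
  simp at this

theorem b_comm (h : St B ε g) (x y : V) : B x y = 0 ↔ B y x = 0 := by
  rw [h.symm x y, mul_eq_zero]
  simp [eps_ne h]

theorem st_nondeg' (h : St B ε g) (y : V) (hy : ∀ x, B x y = 0) : y = 0 :=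
  h.nondeg y fun x => (b_comm h _ _).1 (hy x)

theorem adj_g (h : St B ε g) (x y : V) : B (g x) y = B x (g⁻¹ y) := by
  have := h.isom x (g⁻¹ y)
  rwa [g_inv_apply] at this

/-- adjunction -/
theorem adj (h : St B ε g) (p : F[X]) (x y : V) : B (P g p x) y = B x (P g⁻¹ p y) := by
  induction p using Polynomial.induction_on' with
  | add p q hp hq => rw [P_add, P_add, map_add, map_add, LinearMap.add_apply, hp, hq]
  | monomial n a =>
    rw [← C_mul_X_pow_eq_monomial, P_mul, P_C, P_mul, P_C, map_smul, map_smul,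
      LinearMap.smul_apply]
    congr 1
    clear a
    induction n generalizing x y with
    | zero => simp
    | succ n ih => rw [pow_succ', P_mul, P_X, adj_g h, ih, ← P_X g⁻¹, ← P_mul, mul_comm]

theorem adj' (h : St B ε g) (p : F[X]) (x y : V) : B (P g⁻¹ p x) y = B x (P g p y) := by
  have := adj (stInv h) p x y
  rwa [inv_inv] at this

/-- `p(g⁻¹) = 0` if `p(g) = 0` -/
theorem P_inv_zero (h : St B ε g) {p : F[X]} (hp : ∀ x, P g p x = 0) (x : V) :
    P g⁻¹ p x = 0 := by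
  apply st_nondeg' h
  intro y
  rw [← adj h, hp, map_zero, LinearMap.zero_apply]

end Form

section Ann

/-- `f^(k-1)` is a multiple of `p` modulo `f^k` if `f^k` does not divide `p` -/
theorem socle {f : F[X]} (hf : Irreducible f) {k : ℕ} {p : F[X]} (hp : ¬ f ^ k ∣ p) :
    ∃ a b, f ^ (k - 1) = a * p + b * f ^ k := by
  classical
  obtain ⟨j, hj, u, hu⟩ := (dvd_prime_pow hf.prime k).1 (EuclideanDomain.gcd_dvd_right p (f ^ k))
  have hjk : j < k := by
    rcases hj.lt_or_eq with h | h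
    · exact h
    · exfalso
      apply hp
      rw [← h, ← hu]
      exact (associated_mul_unit_left _ _ u.isUnit).dvd.trans (EuclideanDomain.gcd_dvd_left _ _)
  refine ⟨f ^ (k - 1 - j) * (u : F[X]) * EuclideanDomain.gcdA p (f ^ k),
    f ^ (k - 1 - j) * (u : F[X]) * EuclideanDomain.gcdB p (f ^ k), ?_⟩
  have h1 : f ^ (k - 1) = f ^ (k - 1 - j) * f ^ j := by
    rw [← pow_add]; congr 1; omega
  rw [h1, ← hu, EuclideanDomain.gcd_eq_gcd_ab]
  ring

variable {g : V ≃ₗ[F] V}

theorem ann_of {f : F[X]} (hf : Irreducible f) {k : ℕ} {v : V} (h0 : P g (f ^ k) v = 0)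
    (h1 : P g (f ^ (k - 1)) v ≠ 0) : Ann g v (f ^ k) := by
  intro p
  constructor
  · intro hp
    by_contra hn
    obtain ⟨a, b, hab⟩ := socle hf hn
    apply h1
    rw [hab, P_add, P_mul, P_mul, h0, map_zero, add_zero]
    have : P g p v = 0 := hp
    rw [this, map_zero]
  · rintro ⟨q, rfl⟩
    show P g _ v = 0
    rw [mul_comm, P_mul, h0, map_zero]

theorem ann_zero {f : F[X]} {k : ℕ} {v : V} (h : Ann g v (f ^ k)) : P g (f ^ k) v = 0 :=
  (h _).2 dvd_rfl

theorem ann_ne {f : F[X]} (hf : Irreducible f) {k : ℕ} (hk : 0 < k) {v : V}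
    (h : Ann g v (f ^ k)) : P g (f ^ (k - 1)) v ≠ 0 := by
  intro h0
  have := (h _).1 h0
  rw [pow_dvd_pow_iff hf.ne_zero hf.not_isUnit] at this
  omega

/-- the maximal exponent, a complement, and a vector with annihilator `f ^ k` -/
theorem exists_max [FiniteDimensional F V] {f : F[X]} (hf : Irreducible f)
    (hd : f ∣ minpoly F (g : V →ₗ[F] V)) :
    ∃ (k : ℕ) (n : F[X]), 0 < k ∧ IsCoprime f n ∧ (∀ x, P g (f ^ k * n) x = 0) ∧
      ∃ v, Ann g v (f ^ k) := by
  have hm0 : minpoly F (g : V →ₗ[F] V) ≠ 0 :=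
    minpoly.ne_zero (Algebra.IsIntegral.isIntegral (g : V →ₗ[F] V))
  obtain ⟨k, n, hn, hm⟩ := WfDvdMonoid.max_power_factor hm0 hf
  have hk : 0 < k := by
    rcases Nat.eq_zero_or_pos k with h | h
    · exfalso
      rw [h, pow_zero, one_mul] at hm
      exact hn (hm ▸ hd)
    · exact h
  have hn0 : n ≠ 0 := by rintro rfl; exact hn (dvd_zero _)
  have h0 : ∀ x, P g (f ^ k * n) x = 0 := by
    intro x
    rw [← hm, P_def, minpoly.aeval]; rfl
  refine ⟨k, n, hk, (hf.coprime_iff_not_dvd).2 hn, h0, ?_⟩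
  by_cases hv : ∀ x, P g (f ^ (k - 1) * n) x = 0
  · exfalso
    have h1 : aeval (g : V →ₗ[F] V) (f ^ (k - 1) * n) = 0 := LinearMap.ext hv
    have h2 := minpoly.dvd F _ h1
    rw [hm] at h2
    have h3 := (mul_dvd_mul_iff_right hn0).1 h2
    rw [pow_dvd_pow_iff hf.ne_zero hf.not_isUnit] at h3
    omega
  · push Not at hv
    obtain ⟨x, hx⟩ := hv
    refine ⟨P g n x, ann_of hf ?_ ?_⟩
    · rw [← P_mul]; exact h0 x
    · rw [← P_mul]; exact hx

/-- projection to the `f`-component of `g⁻¹` -/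
theorem exists_dual {B : V →ₗ[F] V →ₗ[F] F} {ε : F} (h : St B ε g) {f n : F[X]} {k : ℕ}
    (hc : IsCoprime f n) (h0 : ∀ x, P g (f ^ k * n) x = 0) {x : V} (hx0 : x ≠ 0)
    (hx : P g (f ^ k) x = 0) : ∃ w, P g⁻¹ (f ^ k) w = 0 ∧ B x w ≠ 0 := by
  by_contra hcon
  push Not at hcon
  apply hx0
  apply h.nondeg
  intro y
  obtain ⟨a, b, hab⟩ : IsCoprime (f ^ k) n := hc.pow_left
  have hxx : x = P g (b * n) x := by
    have : P g (a * f ^ k + b * n) x = x := by rw [hab, P_one]
    rw [P_add, P_mul, hx, map_zero, zero_add] at this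
    exact this.symm
  rw [hxx, adj h]
  apply hcon
  rw [P_mul, P_comm, P_comm g⁻¹ (f ^ k) n, ← P_mul g⁻¹ n (f ^ k), mul_comm n,
    P_inv_zero h h0, map_zero]

theorem ann_pair {B : V →ₗ[F] V →ₗ[F] F} {ε : F} (h : St B ε g) {f : F[X]}
    (hf : Irreducible f) {k : ℕ} {v w : V} (hw : P g⁻¹ (f ^ k) w = 0)
    (hvw : B (P g (f ^ (k - 1)) v) w ≠ 0) : Ann g⁻¹ w (f ^ k) := by
  refine ann_of hf hw ?_
  intro h0
  rw [adj h, h0, map_zero] at hvw
  exact hvw rfl

/-- nondegeneracy of a pair piece through the socle -/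
theorem ndOn_pair [FiniteDimensional F V] {B : V →ₗ[F] V →ₗ[F] F} {ε : F} (h : St B ε g)
    {f : F[X]} (hf : Irreducible f) {k : ℕ} {v w : V} (hv : P g (f ^ k) v = 0)
    (hw : P g⁻¹ (f ^ k) w = 0) (iv : Iso0 B (cyc g v)) (iw : Iso0 B (cyc g w))
    (hvw : B (P g (f ^ (k - 1)) v) w ≠ 0) : NdOn B (cyc g v ⊔ cyc g w) := by
  intro x hx hxy
  obtain ⟨y, hy, z, hz, rfl⟩ := Submodule.mem_sup.1 hx
  have h1 : y = 0 := by
    obtain ⟨p, rfl⟩ := (mem_cyc g).1 hy
    by_contra hn
    have hp : ¬ f ^ k ∣ p := by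
      rintro ⟨q, rfl⟩
      apply hn
      rw [mul_comm, P_mul, hv, map_zero]
    obtain ⟨a, b, hab⟩ := socle hf hp
    apply hvw
    have h1 : P g (f ^ (k - 1)) v = P g a (P g p v) := by
      rw [hab, P_add, P_mul, P_mul, hv, map_zero, add_zero]
    rw [h1, adj h]
    have h2 : P g⁻¹ a w ∈ cyc g w := (mem_cyc_inv g).2 ⟨_, rfl⟩
    have h3 := hxy _ (Submodule.mem_sup_right h2)
    rw [map_add, LinearMap.add_apply, iw z hz _ h2, add_zero] at h3
    exact h3
  have h2 : z = 0 := by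
    obtain ⟨p, rfl⟩ := (mem_cyc_inv g).1 hz
    by_contra hn
    have hp : ¬ f ^ k ∣ p := by
      rintro ⟨q, rfl⟩
      apply hn
      rw [mul_comm, P_mul, hw, map_zero]
    obtain ⟨a, b, hab⟩ := socle hf hp
    apply hvw
    have h1 : P g⁻¹ (f ^ (k - 1)) w = P g⁻¹ a (P g⁻¹ p w) := by
      rw [hab, P_add, P_mul, P_mul, hw, map_zero, add_zero]
    rw [adj h, h1, b_comm h, adj' h]
    have h2 : P g a v ∈ cyc g v := (mem_cyc g).2 ⟨_, rfl⟩
    have h3 := hxy _ (Submodule.mem_sup_left h2)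
    rw [map_add, LinearMap.add_apply, iv y hy _ h2, zero_add] at h3
    exact h3
  rw [h1, h2, add_zero]

/-- the cyclic module of a vector killed by `f(g)^k` is totally isotropic if `f` is coprime to its
reciprocal polynomial -/
theorem iso0_of_coprime [FiniteDimensional F V] {B : V →ₗ[F] V →ₗ[F] F} {ε : F} (h : St B ε g)
    {f : F[X]} {k : ℕ} {v : V} (hc : IsCoprime f f.reverse) (hv : P g (f ^ k) v = 0) :
    Iso0 B (cyc g v) := by
  obtain ⟨a, b, hab⟩ : IsCoprime (f ^ k) (f.reverse ^ k) := hc.pow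
  intro x hx y hy
  obtain ⟨p, rfl⟩ := (mem_cyc g).1 hx
  obtain ⟨q, rfl⟩ := (mem_cyc g).1 hy
  have h1 : v = P g (b * f.reverse ^ k) v := by
    have : P g (a * f ^ k + b * f.reverse ^ k) v = v := by rw [hab, P_one]
    rw [P_add, P_mul, hv, map_zero, zero_add] at this
    exact this.symm
  have h2 : B (P g p v) (P g q (P g (b * f.reverse ^ k) v)) = 0 := by
    have h3 : P g q (P g (b * f.reverse ^ k) v) = P g (f.reverse ^ k) (P g (q * b) v) := by
      rw [← P_mul, ← P_mul]; congr 2; ring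
    have h4 : ∀ (j : ℕ) (z : V), P g (f.reverse ^ j) z
        = P g⁻¹ (f ^ j) ((g ^ (j * f.natDegree)) z) := by
      intro j
      induction j with
      | zero => intro z; simp
      | succ j ih =>
        intro z
        rw [pow_succ, P_mul, ih, P_reverse, pow_succ, P_mul]
        congr 1
        have h5 : ∀ (N : ℕ) (z : V), (g ^ N) z = P g (X ^ N) z := fun N z => (P_X_pow g N z).symm
        rw [h5, h5, h5, ← P_inv_comm g (X ^ ((j + 1) * f.natDegree)) f, ← P_mul, ← pow_add]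
        congr 3
        ring
    rw [h3, h4, ← adj h, ← P_mul, mul_comm (f ^ k) p, P_mul, hv, map_zero, map_zero,
      LinearMap.zero_apply]
  rwa [← h1] at h2

/-- `f` is irreducible and not associated to its reciprocal polynomial: it is coprime to it
(`g` invertible is not needed; `f.reverse` may be a constant) -/
theorem coprime_of_not_assoc {f : F[X]} (hf : Irreducible f) (hna : ¬ Associated f f.reverse) :
    IsCoprime f f.reverse := by
  rw [hf.coprime_iff_not_dvd]
  intro hd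
  apply hna
  refine associated_of_dvd_of_natDegree_le hd ?_ ?_
  · intro h0
    exact hf.ne_zero (by simpa using h0)
  · exact reverse_natDegree_le f

/-- THEOREM PIECE, part (i) -/
theorem exists_ppiece [FiniteDimensional F V] {B : V →ₗ[F] V →ₗ[F] F} {ε : F} (h : St B ε g)
    {f : F[X]} (hf : Irreducible f) (hd : f ∣ minpoly F (g : V →ₗ[F] V))
    (hna : ¬ Associated f f.reverse) : ∃ k v w, PPiece B g f k v w := by
  obtain ⟨k, n, hk, hc, h0, v, hv⟩ := exists_max (g := g) hf hd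
  have hv0 := ann_zero hv
  have hv1 := ann_ne hf hk hv
  obtain ⟨w, hw, hvw⟩ := exists_dual h hc h0 hv1 (by rw [P_comm, hv0, map_zero])
  have hcr := coprime_of_not_assoc hf hna
  have iv := iso0_of_coprime h hcr hv0
  have iw : Iso0 B (cyc g w) := by
    have := iso0_of_coprime (stInv h) hcr hw
    rwa [cyc_inv] at this
  exact ⟨k, v, w, hf, hk, hv, ann_pair h hf hw hvw, iv, iw, ndOn_pair h hf hv0 hw iv iw hvw⟩

end Ann

end Cfsg.Agent.H807.SR
end

-- part: H559/SR/Poly
section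
/-!
# TEAM SR: polynomials in an isometry (helper559)

* `adj` : `B (p(g) x) y = B x (p(g⁻¹) y)`;
* `aeval_inv` : `g ^ deg p * p(g⁻¹) = p.reverse(g)`;
* `mem_cyc_iff` : `cyc g v = F[g] v`;
* `ann_of` : the annihilator of `v` with `f(g)^k v = 0`, `f(g)^(k-1) v ≠ 0`;
* `exists_top` : such a `v` for the exponent `k` of `f` in the minimal polynomial.
-/

set_option autoImplicit false

namespace Cfsg.Agent.H559.SR

open Polynomial Module Cfsg.Agent.H721.SR

variable {F V : Type*} [Field F] [AddCommGroup V] [Module F V]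

/-- `p(g)` -/
noncomputable abbrev ev (g : V ≃ₗ[F] V) (p : F[X]) : V →ₗ[F] V := aeval (g : V →ₗ[F] V) p

theorem ev_mul (g : V ≃ₗ[F] V) (p q : F[X]) (x : V) : ev g (p * q) x = ev g p (ev g q x) := by
  rw [ev, map_mul]
  rfl

theorem ev_comm (g : V ≃ₗ[F] V) (p q : F[X]) (x : V) : ev g p (ev g q x) = ev g q (ev g p x) := by
  rw [← ev_mul, ← ev_mul, mul_comm]

theorem ev_add (g : V ≃ₗ[F] V) (p q : F[X]) (x : V) : ev g (p + q) x = ev g p x + ev g q x := by
  rw [ev, map_add]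
  rfl

theorem ev_one (g : V ≃ₗ[F] V) (x : V) : ev g 1 x = x := by
  rw [ev, map_one]
  rfl

theorem ev_zero (g : V ≃ₗ[F] V) (x : V) : ev g 0 x = 0 := by
  rw [ev, map_zero]
  rfl

theorem ev_X (g : V ≃ₗ[F] V) (x : V) : ev g X x = g x := by
  rw [ev, aeval_X]
  rfl

theorem ev_C (g : V ≃ₗ[F] V) (c : F) (x : V) : ev g (C c) x = c • x := by
  rw [ev, aeval_C]
  rfl

theorem ev_dvd {g : V ≃ₗ[F] V} {p q : F[X]} (h : p ∣ q) {x : V} (hx : ev g p x = 0) : ev g q x = 0 := by
  obtain ⟨r, rfl⟩ := h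
  rw [mul_comm, ev_mul, hx, map_zero]

/-- the adjoint of `p(g)` -/
theorem adj {B : V →ₗ[F] V →ₗ[F] F} {g : V ≃ₗ[F] V} (h : ∀ x y, B (g x) (g y) = B x y) (p : F[X]) (x y : V) :
    B (ev g p x) y = B x (ev g⁻¹ p y) := by
  have h1 : ∀ x y, B (g x) y = B x (g⁻¹ y) := by
    intro x y
    rw [← h x (g⁻¹ y)]
    congr 1
    exact (LinearEquiv.apply_symm_apply g y).symm
  induction p using Polynomial.induction_on generalizing x y with
  | C a => rw [ev_C, ev_C, map_smul, map_smul, LinearMap.smul_apply]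
  | add p q hp hq => rw [ev_add, ev_add, map_add, map_add, LinearMap.add_apply, hp, hq]
  | monomial n a ih =>
    have e : (C a * X ^ (n + 1) : F[X]) = C a * X ^ n * X := by rw [pow_succ, mul_assoc]
    have e2 : ev g⁻¹ (C a * X ^ n * X) y = g⁻¹ (ev g⁻¹ (C a * X ^ n) y) := by
      rw [mul_comm _ X, ev_mul g⁻¹ X, ev_X]
    rw [e, e2, ev_mul, ev_X, ih, h1]

theorem ev_pow (g : V ≃ₗ[F] V) (n : ℕ) (x : V) : ev g (X ^ n) x = (g ^ n) x := by
  induction n generalizing x with
  | zero => rw [pow_zero, pow_zero, ev_one]; rfl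
  | succ n ih =>
    rw [pow_succ, pow_succ, ev_mul, ev_X, ih]
    rfl

/-- `p(g)` as a sum -/
theorem ev_eq_sum (g : V ≃ₗ[F] V) (p : F[X]) {n : ℕ} (hn : p.natDegree < n) (x : V) :
    ev g p x = ∑ i ∈ Finset.range n, p.coeff i • (g ^ i) x := by
  rw [ev, aeval_eq_sum_range' hn, LinearMap.sum_apply]
  refine Finset.sum_congr rfl fun i _ => ?_
  rw [LinearMap.smul_apply]
  congr 1
  rw [← ev_pow, ev, map_pow, aeval_X]

/-- the reverse polynomial -/
theorem ev_reverse (g : V ≃ₗ[F] V) (p : F[X]) (x : V) :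
    (g ^ p.natDegree) (ev g⁻¹ p x) = ev g p.reverse x := by
  rw [ev_eq_sum g⁻¹ p (Nat.lt_succ_self _), ev_eq_sum g p.reverse (n := p.natDegree + 1)
    (lt_of_le_of_lt (reverse_natDegree_le p) (Nat.lt_succ_self _)), map_sum,
    ← Finset.sum_range_reflect]
  refine Finset.sum_congr rfl fun i hi => ?_
  have hi : i ≤ p.natDegree := Nat.lt_succ_iff.1 (Finset.mem_range.1 hi)
  have e1 : p.natDegree.succ - 1 - i = p.natDegree - i := by omega
  rw [e1, map_smul, coeff_reverse, revAt_le hi]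
  congr 1
  have e2 : g ^ p.natDegree = g ^ i * g ^ (p.natDegree - i) := by rw [← pow_add]; congr 1; omega
  rw [e2, inv_pow]
  show (g ^ i) ((g ^ (p.natDegree - i)) ((g ^ (p.natDegree - i))⁻¹ x)) = (g ^ i) x
  congr 1
  exact LinearEquiv.apply_symm_apply _ x

/-- a self-reciprocal polynomial kills the same vectors at `g` and `g⁻¹` -/
theorem ev_inv_eq_zero {g : V ≃ₗ[F] V} {p : F[X]} (hp : p.reverse ∣ p) {x : V}
    (hx : ev g⁻¹ p x = 0) : ev g p x = 0 := by
  have h1 := ev_reverse g p x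
  rw [hx, map_zero] at h1
  exact ev_dvd hp h1.symm

theorem ev_inv_eq_zero' {g : V ≃ₗ[F] V} {p : F[X]} (hp : p ∣ p.reverse) {x : V}
    (hx : ev g p x = 0) : ev g⁻¹ p x = 0 := by
  have h1 := ev_reverse g p x
  rw [ev_dvd hp hx] at h1
  exact (LinearEquiv.map_eq_zero_iff _).1 h1

/-- the cyclic subspace -/
noncomputable def cy (g : V ≃ₗ[F] V) (v : V) : Submodule F V where
  carrier := {x | ∃ p : F[X], ev g p v = x}
  zero_mem' := ⟨0, ev_zero g v⟩
  add_mem' := by
    rintro _ _ ⟨p, rfl⟩ ⟨q, rfl⟩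
    exact ⟨p + q, ev_add g p q v⟩
  smul_mem' := by
    rintro c _ ⟨p, rfl⟩
    exact ⟨C c * p, by rw [ev_mul, ev_C]⟩

theorem mem_cy {g : V ≃ₗ[F] V} {v x : V} : x ∈ cy g v ↔ ∃ p : F[X], ev g p v = x := Iff.rfl

theorem self_mem_cy (g : V ≃ₗ[F] V) (v : V) : v ∈ cy g v := ⟨1, ev_one g v⟩

theorem map_cy_le (g : V ≃ₗ[F] V) (v : V) : (cy g v).map (g : V →ₗ[F] V) ≤ cy g v := by
  rintro _ ⟨_, ⟨p, rfl⟩, rfl⟩
  exact ⟨X * p, by rw [ev_mul, ev_X]; rfl⟩

variable [FiniteDimensional F V]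

theorem map_cy (g : V ≃ₗ[F] V) (v : V) : (cy g v).map (g : V →ₗ[F] V) = cy g v :=
  Submodule.eq_of_le_of_finrank_eq (map_cy_le g v) (LinearEquiv.finrank_map_eq g _)

theorem inv_mem_cy {g : V ≃ₗ[F] V} {v x : V} (hx : x ∈ cy g v) : g⁻¹ x ∈ cy g v := by
  rw [← map_cy] at hx
  obtain ⟨y, hy, rfl⟩ := hx
  have : g⁻¹ ((g : V →ₗ[F] V) y) = y := LinearEquiv.symm_apply_apply g y
  rwa [this]

theorem zpow_mem_cy {g : V ≃ₗ[F] V} {v x : V} (hx : x ∈ cy g v) (i : ℤ) : (g ^ i) x ∈ cy g v := by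
  have h1 : ∀ (n : ℕ), ∀ x ∈ cy g v, (g ^ n) x ∈ cy g v := by
    intro n
    induction n with
    | zero => intro x hx; exact hx
    | succ n ih =>
      intro x hx
      rw [pow_succ]
      exact ih _ (map_cy_le g v ⟨x, hx, rfl⟩)
  have h2 : ∀ (n : ℕ), ∀ x ∈ cy g v, (g⁻¹ ^ n) x ∈ cy g v := by
    intro n
    induction n with
    | zero => intro x hx; exact hx
    | succ n ih =>
      intro x hx
      rw [pow_succ]
      exact ih _ (inv_mem_cy hx)
  rcases Int.eq_nat_or_neg i with ⟨n, rfl | rfl⟩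
  · rw [zpow_natCast]
    exact h1 n x hx
  · rw [zpow_neg, zpow_natCast, ← inv_pow]
    exact h2 n x hx

omit [FiniteDimensional F V] in
theorem ev_mem_cyc (g : V ≃ₗ[F] V) (v : V) (p : F[X]) : ev g p v ∈ cyc g v := by
  rw [ev_eq_sum g p (Nat.lt_succ_self _)]
  refine Submodule.sum_mem _ fun i _ => Submodule.smul_mem _ _ (Submodule.subset_span ⟨(i : ℤ), ?_⟩)
  show (g ^ (i : ℤ)) v = (g ^ i) v
  rw [zpow_natCast]

omit [FiniteDimensional F V] in
theorem ev_inv_mem_cyc (g : V ≃ₗ[F] V) (v : V) (p : F[X]) : ev g⁻¹ p v ∈ cyc g v := by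
  rw [ev_eq_sum g⁻¹ p (Nat.lt_succ_self _)]
  refine Submodule.sum_mem _ fun i _ => Submodule.smul_mem _ _ (Submodule.subset_span ⟨-(i : ℤ), ?_⟩)
  show (g ^ (-(i : ℤ))) v = (g⁻¹ ^ i) v
  rw [zpow_neg, zpow_natCast, inv_pow]

/-- **`cyc g v = F[g] v`** -/
theorem cyc_eq (g : V ≃ₗ[F] V) (v : V) : cyc g v = cy g v := by
  apply le_antisymm
  · unfold cyc
    rw [Submodule.span_le]
    rintro _ ⟨i, rfl⟩
    exact zpow_mem_cy (self_mem_cy g v) i
  · rintro _ ⟨p, rfl⟩
    exact ev_mem_cyc g v p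

theorem mem_cyc_iff {g : V ≃ₗ[F] V} {v x : V} : x ∈ cyc g v ↔ ∃ p : F[X], ev g p v = x := by
  rw [cyc_eq, mem_cy]

/-! ### Annihilators -/

omit [FiniteDimensional F V] in
/-- the annihilator of a vector killed by `f^k` and not by `f^(k-1)` -/
theorem ann_of {g : V ≃ₗ[F] V} {f : F[X]} (hf : Irreducible f) {k : ℕ} {v : V} (h0 : ev g (f ^ (k + 1)) v = 0)
    (h1 : ev g (f ^ k) v ≠ 0) : Ann g v (f ^ (k + 1)) := by
  classical
  intro p
  constructor
  · intro hp
    have hd : ev g (EuclideanDomain.gcd p (f ^ (k + 1))) v = 0 := by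
      rw [EuclideanDomain.gcd_eq_gcd_ab, ev_add, mul_comm p, ev_mul, mul_comm (f ^ (k + 1)), ev_mul, h0]
      rw [show ev g p v = 0 from hp, map_zero, map_zero, add_zero]
    obtain ⟨j, hj, hj'⟩ := (dvd_prime_pow hf.prime _).1 (EuclideanDomain.gcd_dvd_right p (f ^ (k + 1)))
    have h2 : ev g (f ^ j) v = 0 := ev_dvd hj'.dvd hd
    have h3 : j = k + 1 := by
      by_contra hc
      exact h1 (ev_dvd (pow_dvd_pow f (by omega)) h2)
    subst h3
    exact hj'.symm.dvd.trans (EuclideanDomain.gcd_dvd_left _ _)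
  · intro hp
    exact ev_dvd hp h0

/-- the exponent of `f` in the minimal polynomial -/
theorem exists_top (g : V ≃ₗ[F] V) {f : F[X]} (hf : Irreducible f) (hd : f ∣ minpoly F (g : V →ₗ[F] V)) :
    ∃ (k : ℕ) (m : F[X]), ¬ f ∣ m ∧ (∀ x, ev g (f ^ (k + 1) * m) x = 0) ∧
      ∃ v, ev g (f ^ (k + 1)) v = 0 ∧ ev g (f ^ k) v ≠ 0 := by
  have h0 : minpoly F (g : V →ₗ[F] V) ≠ 0 := minpoly.ne_zero (Algebra.IsIntegral.isIntegral _)
  obtain ⟨m, hm, hmf⟩ := (FiniteMultiplicity.of_not_isUnit hf.not_isUnit h0).exists_eq_pow_mul_and_not_dvd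
  set n := multiplicity f (minpoly F (g : V →ₗ[F] V)) with hn
  have hn0 : n ≠ 0 := by
    intro h
    rw [h, pow_zero, one_mul] at hm
    exact hmf (hm ▸ hd)
  obtain ⟨k, hk⟩ := Nat.exists_eq_succ_of_ne_zero hn0
  rw [hk] at hm
  have hz : ∀ x, ev g (f ^ (k + 1) * m) x = 0 := by
    intro x
    have h1 : aeval (g : V →ₗ[F] V) (minpoly F (g : V →ₗ[F] V)) = 0 := minpoly.aeval _ _
    rw [hm] at h1
    rw [ev, h1]
    rfl
  refine ⟨k, m, hmf, hz, ?_⟩
  have h2 : ¬ ∀ x, ev g (f ^ k * m) x = 0 := by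
    intro h2
    have h3 : minpoly F (g : V →ₗ[F] V) ∣ f ^ k * m := minpoly.dvd _ _ (LinearMap.ext h2)
    rw [hm] at h3
    have hm0 : m ≠ 0 := by
      rintro rfl
      exact hmf (dvd_zero f)
    have h4 := (mul_dvd_mul_iff_right hm0).1 h3
    rw [pow_succ] at h4
    have h5 : f ^ k * f ∣ f ^ k * 1 := by rwa [mul_one]
    exact hf.not_isUnit (isUnit_of_dvd_one ((mul_dvd_mul_iff_left (pow_ne_zero k hf.ne_zero)).1 h5))
  push Not at h2
  obtain ⟨x, hx⟩ := h2
  exact ⟨ev g m x, by rw [← ev_mul]; exact hz x, by rwa [← ev_mul]⟩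

end Cfsg.Agent.H559.SR
end

-- part: H559/SR/PieceB
section
/-!
# TEAM SR, SR-G1b: cyclic pieces for a self-reciprocal `f ≠ X ∓ 1` (helper559, market task 3839)
-/

set_option autoImplicit false

namespace Cfsg.Agent.H559.SR

open Polynomial Module Cfsg.Agent.H721.SR

variable {F V : Type*} [Field F] [AddCommGroup V] [Module F V]

theorem pow_dvd_reverse {f : F[X]} (hr : f ∣ f.reverse) (n : ℕ) : f ^ n ∣ (f ^ n).reverse := by
  induction n with
  | zero => rw [pow_zero]; exact one_dvd _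
  | succ n ih =>
    rw [pow_succ, reverse_mul_of_domain]
    exact mul_dvd_mul ih hr

theorem reverse_pow_dvd {f : F[X]} (hr : f.reverse ∣ f) (n : ℕ) : (f ^ n).reverse ∣ f ^ n := by
  induction n with
  | zero => rw [pow_zero, ← C_1, reverse_C]
  | succ n ih =>
    rw [pow_succ, reverse_mul_of_domain]
    exact mul_dvd_mul ih hr

/-- the primary component of a self-reciprocal `f` is nondegenerate -/
theorem primary_nd {B : V →ₗ[F] V →ₗ[F] F} {ε : F} {g : V ≃ₗ[F] V} (hS : St B ε g) {f m : F[X]} {k : ℕ}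
    (hf : Irreducible f) (hr : f ∣ f.reverse) (hm : ¬ f ∣ m) (hz : ∀ x, ev g (f ^ (k + 1) * m) x = 0)
    {u : V} (hu : ev g (f ^ (k + 1)) u = 0) (h : ∀ w, ev g (f ^ (k + 1)) w = 0 → B u w = 0) : u = 0 := by
  obtain ⟨a, b, hab⟩ := (((hf.coprime_iff_not_dvd).2 hm).pow_left : IsCoprime (f ^ (k + 1)) m)
  refine hS.nondeg u fun y => ?_
  have e : y = ev g (a * f ^ (k + 1)) y + ev g (b * m) y := by
    rw [← ev_add, hab, ev_one]
  have h1 : B u (ev g (b * m) y) = 0 := by
    apply h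
    rw [← ev_mul, show f ^ (k + 1) * (b * m) = b * (f ^ (k + 1) * m) by ring, ev_mul, hz, map_zero]
  have h2 : B u (ev g (a * f ^ (k + 1)) y) = 0 := by
    rw [hS.symm, adj hS.isom, ev_mul, ev_inv_eq_zero' (pow_dvd_reverse hr _) hu, map_zero, map_zero, mul_zero]
  rw [e, map_add, h1, h2, add_zero]

/-- `B` is nondegenerate on `cyc g v` if `B (a(g) f(g)^k v) v ≠ 0` for some `a` -/
theorem ndOn_of [FiniteDimensional F V] {B : V →ₗ[F] V →ₗ[F] F} {ε : F} {g : V ≃ₗ[F] V} (hS : St B ε g) {f : F[X]}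
    {k : ℕ} (hf : Irreducible f) {v : V} (h0 : ev g (f ^ (k + 1)) v = 0) {a : F[X]}
    (ha : B (ev g (a * f ^ k) v) v ≠ 0) : NdOn B (cyc g v) := by
  classical
  intro x hx hB
  obtain ⟨p, rfl⟩ := mem_cyc_iff.1 hx
  by_contra hne
  obtain ⟨j, hj, hj'⟩ := (dvd_prime_pow hf.prime _).1 (EuclideanDomain.gcd_dvd_right p (f ^ (k + 1)))
  have hjk : j ≤ k := by
    by_contra hc
    have h3 : j = k + 1 := by omega
    subst h3
    exact hne (ev_dvd (hj'.symm.dvd.trans (EuclideanDomain.gcd_dvd_left _ _)) h0)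
  obtain ⟨r, hr⟩ := hj'.dvd
  rw [EuclideanDomain.gcd_eq_gcd_ab] at hr
  apply ha
  have e : a * f ^ k = (a * f ^ (k - j) * r * EuclideanDomain.gcdA p (f ^ (k + 1))) * p +
      (a * f ^ (k - j) * r * EuclideanDomain.gcdB p (f ^ (k + 1))) * f ^ (k + 1) := by
    have e1 : f ^ k = f ^ (k - j) * f ^ j := by rw [← pow_add]; congr 1; omega
    rw [e1, hr]
    ring
  rw [e, ev_add, ev_mul, ev_mul _ _ (f ^ (k + 1)), h0, map_zero, add_zero, adj hS.isom]
  exact hB _ (ev_inv_mem_cyc g v _)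

/-- **SR-G1b** -/
theorem exists_cpiece [FiniteDimensional F V] {B : V →ₗ[F] V →ₗ[F] F} {ε : F} {g : V ≃ₗ[F] V} (hS : St B ε g)
    {f : F[X]} (hf : Irreducible f) (hd : f ∣ minpoly F (g : V →ₗ[F] V)) (hr : Associated f f.reverse)
    (h1 : ¬ Associated f (X - 1)) (h2 : ¬ Associated f (X + 1)) : ∃ k v, CPiece B g f k v := by
  obtain ⟨k, m, hm, hz, v0, hv0, hv1⟩ := exists_top g hf hd
  by_contra hcon
  push Not at hcon
  have key : ∀ v, ev g (f ^ (k + 1)) v = 0 → ∀ a : F[X], B (ev g (a * f ^ k) v) v = 0 := by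
    intro v hv a
    by_contra hne
    have hk : ev g (f ^ k) v ≠ 0 := by
      intro h
      apply hne
      rw [ev_mul, h, map_zero, map_zero, LinearMap.zero_apply]
    exact hcon (k + 1) v ⟨hf, Nat.succ_pos k, ann_of hf hv hk, ndOn_of hS hf hv hne⟩
  have hfi : ∀ u, ev g (f ^ (k + 1)) u = 0 → ev g⁻¹ (f ^ (k + 1)) u = 0 := fun u hu =>
    ev_inv_eq_zero' (pow_dvd_reverse hr.dvd _) hu
  -- the polarised identity
  have pol : ∀ u, ev g (f ^ (k + 1)) u = 0 → ∀ a : F[X],
      ev g (a * f ^ k) u = -(ε • ev g⁻¹ (a * f ^ k) u) := by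
    intro u hu a
    rw [← add_eq_zero_iff_eq_neg]
    refine primary_nd hS hf hr.dvd hm hz ?_ ?_
    · rw [map_add, map_smul, ev_comm g (f ^ (k + 1)), hu, map_zero, zero_add]
      have h3 : ev g (f ^ (k + 1)) (ev g⁻¹ (a * f ^ k) u) = 0 := by
        refine ev_inv_eq_zero (reverse_pow_dvd hr.symm.dvd _) ?_
        rw [ev_comm, hfi u hu, map_zero]
      rw [h3, smul_zero]
    · intro w hw
      have h3 := key (u + w) (by rw [map_add, hu, hw, add_zero]) a
      rw [map_add, map_add, map_add, LinearMap.add_apply, LinearMap.add_apply, key u hu a, key w hw a, zero_add,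
        add_zero] at h3
      rw [map_add, LinearMap.add_apply, map_smul, LinearMap.smul_apply, smul_eq_mul, ← hS.symm, ← adj hS.isom]
      rw [add_comm]
      exact h3
  have e1 := pol v0 hv0 1
  have e2 := pol v0 hv0 X
  rw [one_mul] at e1
  rw [ev_mul, ev_X, ev_mul g⁻¹, ev_X] at e2
  have e3 : g (ev g (f ^ k) v0) = g⁻¹ (ev g (f ^ k) v0) := by
    rw [e2, e1, map_neg, map_smul]
  have e4 : ev g ((X ^ 2 - 1) * f ^ k) v0 = 0 := by
    have h5 : g (g (ev g (f ^ k) v0)) = ev g (f ^ k) v0 := by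
      rw [e3]
      exact LinearEquiv.apply_symm_apply g _
    rw [ev_mul, ev, map_sub, map_pow, aeval_X, map_one]
    show g (g (ev g (f ^ k) v0)) - ev g (f ^ k) v0 = 0
    rw [h5, sub_self]
  have h6 := (ann_of hf hv0 hv1 _).1 e4
  rw [pow_succ, mul_comm (f ^ k) f] at h6
  have h7 := (mul_dvd_mul_iff_right (pow_ne_zero k hf.ne_zero)).1 h6
  have h8 : (X ^ 2 - 1 : F[X]) = (X - 1) * (X + 1) := by ring
  rw [h8] at h7
  rcases hf.prime.dvd_or_dvd h7 with h9 | h9
  · refine h1 (hf.associated_of_dvd ?_ h9)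
    rw [← C_1]
    exact irreducible_X_sub_C 1
  · refine h2 (hf.associated_of_dvd ?_ h9)
    have : (X + 1 : F[X]) = X - C (-1) := by rw [C_neg, C_1, sub_neg_eq_add]
    rw [this]
    exact irreducible_X_sub_C (-1)

end Cfsg.Agent.H559.SR
end

private theorem dce_637e6ef69fed : _root_.True := by
  try have : _root_.True := by simp only [_root_.Cfsg.Agent.H559.SR.ev.eq_1]
  try have : _root_.True := by simp only [_root_.Cfsg.Agent.H807.SR.P.eq_1]
  exact _root_.True.intro
end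

-- part: H853/SR/Bridge_mg
section
prune_inst 0xe0001a00384002000001050080000400020000000008800000a00200078088020000802082a00102100000040034004810000000000000000000040001180180108080000009000002000e000000000000000000020000000000000000000000000000000
set_option linter.all false
open scoped Cfsg.Agent.FastGrp

-- part: H853/SR/Tri
section
/-!
# TEAM SR, decomposition of an isometry of an orthogonal space: bundled triples (helper853)

* `Tri F` : a nondegenerate finite quadratic space with an isometry;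
* `Tri.Iso`, `Tri.sum`, `Tri.smul`, `Tri.n`, `Tri.c`, `Tri.T`;
* `Tri.T` is invariant, multiplicative, and compatible with `h ↦ -h`;
* `Tri.double` : `X ⊥ X ≅ cX ⊥ cX` if `c` is a sum of two squares.
-/

set_option autoImplicit false

namespace Cfsg.Agent.H853.SR

open Module QuadraticMap
open Cfsg.Agent.LieClassical.OrthCore Cfsg.Agent.H160.QSpin Cfsg.Agent.H160.QDisc

universe u v

/-- a nondegenerate finite quadratic space with an isometry -/
structure Tri (F : Type u) [Field F] where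
  /-- the space -/
  V : Type v
  [iA : AddCommGroup V]
  [iM : Module F V]
  [iF : Finite V]
  /-- the form -/
  Q : QuadraticForm F V
  /-- the isometry -/
  g : V ≃ₗ[F] V
  nd : Nondeg Q
  iso : g ∈ O Q

attribute [instance] Tri.iA Tri.iM Tri.iF

variable {F : Type u} [Field F]

theorem exists_dbl {V : Type*} [AddCommGroup V] [Module F V] (Q : QuadraticForm F V) (g : V ≃ₗ[F] V) {c a b : F}
    (hc : c ≠ 0) (hab : a * a + b * b = c) :
    ∃ e : (V × V) ≃ₗ[F] (V × V), (∀ p : V × V, Q (e p).1 + Q (e p).2 = c * (Q p.1 + Q p.2)) ∧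
      cj e (pr g g) = pr g g := by
  let e : (V × V) ≃ₗ[F] (V × V) :=
    { toFun := fun p => (a • p.1 - b • p.2, b • p.1 + a • p.2)
      map_add' := by
        rintro ⟨x, y⟩ ⟨x', y'⟩
        simp only [Prod.mk_add_mk, smul_add]
        congr 1
        · abel
        · abel
      map_smul' := by
        rintro r ⟨x, y⟩
        simp only [RingHom.id_apply, Prod.smul_mk, smul_sub, smul_add, smul_comm r]
      invFun := fun p => (c⁻¹ • (a • p.1 + b • p.2), c⁻¹ • (a • p.2 - b • p.1))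
      left_inv := by
        rintro ⟨x, y⟩
        have h1 : a • (a • x - b • y) + b • (b • x + a • y) = c • x := by
          rw [← hab]; module
        have h2 : a • (b • x + a • y) - b • (a • x - b • y) = c • y := by
          rw [← hab]; module
        show (c⁻¹ • (a • (a • x - b • y) + b • (b • x + a • y)),
          c⁻¹ • (a • (b • x + a • y) - b • (a • x - b • y))) = (x, y)
        rw [h1, h2, smul_smul, smul_smul, inv_mul_cancel₀ hc, one_smul, one_smul]
      right_inv := by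
        rintro ⟨x, y⟩
        have h1 : a • (c⁻¹ • (a • x + b • y)) - b • (c⁻¹ • (a • y - b • x)) = c⁻¹ • (c • x) := by
          rw [← hab]; module
        have h2 : b • (c⁻¹ • (a • x + b • y)) + a • (c⁻¹ • (a • y - b • x)) = c⁻¹ • (c • y) := by
          rw [← hab]; module
        show (a • (c⁻¹ • (a • x + b • y)) - b • (c⁻¹ • (a • y - b • x)),
          b • (c⁻¹ • (a • x + b • y)) + a • (c⁻¹ • (a • y - b • x))) = (x, y)
        rw [h1, h2, smul_smul, smul_smul, inv_mul_cancel₀ hc, one_smul, one_smul] }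
  refine ⟨e, ?_, ?_⟩
  · rintro ⟨x, y⟩
    show Q (a • x - b • y) + Q (b • x + a • y) = c * (Q x + Q y)
    have h1 : Q (a • x - b • y) = a * a * Q x + b * b * Q y - a * b * polar Q x y := by
      have h := QuadraticMap.map_add (f := Q) (a • x) (-(b • y))
      rw [← sub_eq_add_neg] at h
      rw [h, QuadraticMap.map_neg, QuadraticMap.map_smul,
        QuadraticMap.map_smul, ← neg_smul, QuadraticMap.polar_smul_left, QuadraticMap.polar_smul_right]
      simp only [smul_eq_mul]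
      ring
    have h2 : Q (b • x + a • y) = b * b * Q x + a * a * Q y + a * b * polar Q x y := by
      have h := QuadraticMap.map_add (f := Q) (b • x) (a • y)
      rw [h, QuadraticMap.map_smul, QuadraticMap.map_smul,
        QuadraticMap.polar_smul_left, QuadraticMap.polar_smul_right]
      simp only [smul_eq_mul]
      ring
    rw [h1, h2, ← hab]
    ring
  · have h1 : e * pr g g = pr g g * e := by
      apply LinearEquiv.ext
      rintro ⟨x, y⟩
      show (a • g x - b • g y, b • g x + a • g y) = (g (a • x - b • y), g (b • x + a • y))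
      rw [map_sub, map_add, map_smul, map_smul, map_smul, map_smul]
    apply LinearEquiv.ext
    intro p
    have h2 := congrArg (fun k : (V × V) ≃ₗ[F] (V × V) => k (e.symm p)) h1
    show e (pr g g (e.symm p)) = pr g g p
    refine h2.trans ?_
    show pr g g (e (e.symm p)) = _
    rw [LinearEquiv.apply_symm_apply]

namespace Tri

/-- isomorphic triples -/
def Iso (X Y : Tri.{u, v} F) : Prop := ∃ e : X.V ≃ₗ[F] Y.V, IsIso X.Q Y.Q e ∧ cj e X.g = Y.g

theorem Iso.refl (X : Tri.{u, v} F) : Iso X X :=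
  ⟨LinearEquiv.refl F X.V, fun _ => rfl, by ext x; rfl⟩

theorem Iso.symm {X Y : Tri.{u, v} F} (h : Iso X Y) : Iso Y X := by
  obtain ⟨e, he, hg⟩ := h
  refine ⟨e.symm, he.symm, ?_⟩
  rw [← hg]
  ext x
  simp [cj]

theorem Iso.trans {X Y Z : Tri.{u, v} F} (h : Iso X Y) (h' : Iso Y Z) : Iso X Z := by
  obtain ⟨e, he, hg⟩ := h
  obtain ⟨e', he', hg'⟩ := h'
  refine ⟨e.trans e', fun x => ?_, ?_⟩
  · rw [LinearEquiv.trans_apply, he', he]
  · rw [← hg', ← hg]
    ext x
    simp only [cj, _root_.Cfsg.Agent.H160.QSpin.cj, _root_.LinearEquiv.trans_symm, _root_.LinearEquiv.trans_apply]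

/-- orthogonal sum -/
def sum (X Y : Tri.{u, v} F) : Tri.{u, v} F where
  V := X.V × Y.V
  Q := X.Q.prod Y.Q
  g := pr X.g Y.g
  nd := nondeg_prod X.nd Y.nd
  iso := pr_mem_O X.iso Y.iso

theorem Iso.sum {X X' Y Y' : Tri.{u, v} F} (h : Iso X X') (h' : Iso Y Y') : Iso (X.sum Y) (X'.sum Y') := by
  obtain ⟨e, he, hg⟩ := h
  obtain ⟨e', he', hg'⟩ := h'
  refine ⟨(e.prodCongr e' : (X.V × Y.V) ≃ₗ[F] (X'.V × Y'.V)), fun x => ?_, ?_⟩
  · obtain ⟨x, y⟩ := x
    show X'.Q (e x) + Y'.Q (e' y) = X.Q x + Y.Q y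
    rw [he, he']
  · apply LinearEquiv.ext
    rintro ⟨x, y⟩
    show (e (X.g (e.symm x)), e' (Y.g (e'.symm y))) = (X'.g x, Y'.g y)
    rw [← hg, ← hg']
    rfl

theorem sum_comm (X Y : Tri.{u, v} F) : Iso (X.sum Y) (Y.sum X) := by
  refine ⟨(LinearEquiv.prodComm F X.V Y.V : (X.V × Y.V) ≃ₗ[F] (Y.V × X.V)), fun x => ?_, ?_⟩
  · obtain ⟨x, y⟩ := x
    show Y.Q y + X.Q x = X.Q x + Y.Q y
    rw [add_comm]
  · apply LinearEquiv.ext
    rintro ⟨x, y⟩
    rfl

theorem sum_assoc (X Y Z : Tri.{u, v} F) : Iso ((X.sum Y).sum Z) (X.sum (Y.sum Z)) := by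
  refine ⟨(LinearEquiv.prodAssoc F X.V Y.V Z.V : ((X.V × Y.V) × Z.V) ≃ₗ[F] (X.V × Y.V × Z.V)), fun x => ?_, ?_⟩
  · obtain ⟨⟨x, y⟩, z⟩ := x
    show X.Q x + (Y.Q y + Z.Q z) = X.Q x + Y.Q y + Z.Q z
    rw [add_assoc]
  · apply LinearEquiv.ext
    rintro ⟨x, y, z⟩
    rfl

theorem sum_left_comm (X Y Z : Tri.{u, v} F) : Iso (X.sum (Y.sum Z)) (Y.sum (X.sum Z)) :=
  (sum_assoc X Y Z).symm.trans (((sum_comm X Y).sum (Iso.refl Z)).trans (sum_assoc Y X Z))

/-- the dimension -/
noncomputable def n (X : Tri.{u, v} F) : ℕ := finrank F X.V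

theorem Iso.n {X Y : Tri.{u, v} F} (h : Iso X Y) : X.n = Y.n := by
  obtain ⟨e, -, -⟩ := h
  exact e.finrank_eq

theorem n_sum (X Y : Tri.{u, v} F) : (X.sum Y).n = X.n + Y.n := by
  show finrank F (X.V × Y.V) = _
  rw [finrank_prod]
  rfl

/-- the spinor sign of `-1` -/
noncomputable def m (X : Tri.{u, v} F) : ℤˣ := spin X.Q ⟨LinearEquiv.neg F, neg_mem_O X.Q⟩

theorem Iso.m {X Y : Tri.{u, v} F} (h : Iso X Y) : X.m = Y.m := by
  obtain ⟨e, he, -⟩ := h
  have h3 := spin_cj he (neg_mem_O X.Q)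
  have h4 : (⟨cj e (LinearEquiv.neg F), cj_mem_O he (neg_mem_O _)⟩ : O Y.Q) = ⟨LinearEquiv.neg F, neg_mem_O Y.Q⟩ :=
    Subtype.ext (cj_neg e)
  rw [h4] at h3
  exact h3.symm

/-- an inverting isometric involution with given determinant and spinor sign -/
def T (X : Tri.{u, v} F) (δ : Fˣ) (s : ℤˣ) : Prop := Cfsg.Agent.H721.SR.T X.Q X.g δ s

theorem T.iso {X Y : Tri.{u, v} F} {δ : Fˣ} {s : ℤˣ} (hX : X.T δ s) (h : Iso X Y) : Y.T δ s := by
  obtain ⟨e, he, hg⟩ := h
  obtain ⟨h, hO, h1, h2, h3, h4⟩ := hX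
  refine ⟨cj e h, cj_mem_O he hO, ?_, ?_, by rw [det_cj, h3], by rw [spin_cj he hO, h4]⟩
  · rw [← cj_mul, h1, cj_one]
  · have hinv : ∀ k : X.V ≃ₗ[F] X.V, (cj e k)⁻¹ = cj e k⁻¹ := fun k => (map_inv (cjEquiv e) k).symm
    rw [← hg, hinv, hinv, ← cj_mul, ← cj_mul, h2]

theorem T_neg {X : Tri.{u, v} F} {δ : Fˣ} {s : ℤˣ} (h : X.T δ s) : X.T (δ * (-1) ^ X.n) (s * X.m) := by
  obtain ⟨h, hO, h1, h2, h3, h4⟩ := h
  have hn : (LinearEquiv.neg F : X.V ≃ₗ[F] X.V) * h = h * LinearEquiv.neg F := by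
    ext x
    show -(h x) = h (-x)
    rw [map_neg]
  have hn2 : (LinearEquiv.neg F : X.V ≃ₗ[F] X.V) * LinearEquiv.neg F = 1 := by
    ext x
    show - -x = x
    rw [neg_neg]
  have hni : (LinearEquiv.neg F : X.V ≃ₗ[F] X.V)⁻¹ = LinearEquiv.neg F := inv_eq_of_mul_eq_one_left hn2
  have hng : (LinearEquiv.neg F : X.V ≃ₗ[F] X.V) * X.g = X.g * LinearEquiv.neg F := by
    ext x
    show -(X.g x) = X.g (-x)
    rw [map_neg]
  refine ⟨h * LinearEquiv.neg F, (O X.Q).mul_mem hO (neg_mem_O _), ?_, ?_, ?_, ?_⟩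
  · rw [mul_assoc, ← mul_assoc _ h, hn, mul_assoc, hn2, mul_one, h1]
  · rw [mul_inv_rev, hni]
    calc h * LinearEquiv.neg F * X.g * (LinearEquiv.neg F * h⁻¹)
        = h * (LinearEquiv.neg F * X.g) * LinearEquiv.neg F * h⁻¹ := by simp only [mul_assoc]
      _ = h * X.g * (LinearEquiv.neg F * LinearEquiv.neg F) * h⁻¹ := by rw [hng]; simp only [mul_assoc]
      _ = X.g⁻¹ := by rw [hn2, mul_one, h2]
  · rw [map_mul, h3]
    congr 1
    apply Units.ext
    rw [LinearEquiv.coe_det]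
    have h : ((LinearEquiv.neg F : X.V ≃ₗ[F] X.V) : X.V →ₗ[F] X.V) = (-1 : F) • LinearMap.id := by
      ext x
      simp
    rw [h, LinearMap.det_smul, LinearMap.det_id]
    simp only [Tri.n, _root_.mul_one, _root_.Cfsg.Agent.H853.SR.Tri.n, _root_.Units.val_pow_eq_pow_val, _root_.Units.val_neg, _root_.Units.val_one]
  · have h5 : (⟨h * LinearEquiv.neg F, (O X.Q).mul_mem hO (neg_mem_O _)⟩ : O X.Q) =
      ⟨h, hO⟩ * ⟨LinearEquiv.neg F, neg_mem_O X.Q⟩ := rfl
    rw [h5, map_mul, h4]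
    rfl

/-- the form multiplied by a scalar -/
def smul (X : Tri.{u, v} F) (c : F) (hc : c ≠ 0) : Tri.{u, v} F where
  V := X.V
  Q := c • X.Q
  g := X.g
  nd := by
    intro x hx
    apply X.nd x
    intro y
    have h1 := hx y
    have h2 : polar (c • X.Q) x y = c * polar X.Q x y := by
      simp only [QuadraticMap.polar, smul_eq_mul, _root_.smul_apply]
      ring
    rw [h2] at h1
    exact (mul_eq_zero.1 h1).resolve_left hc
  iso := by
    intro x
    show c • X.Q (X.g x) = c • X.Q x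
    rw [mem_O.1 X.iso]

/-- `X ⊥ X ≅ cX ⊥ cX` for a sum of two squares `c` -/
theorem double (X : Tri.{u, v} F) {c a b : F} (hc : c ≠ 0) (hab : a * a + b * b = c) :
    Iso ((X.smul c hc).sum (X.smul c hc)) (X.sum X) := by
  obtain ⟨e, h1, h2⟩ := exists_dbl X.Q X.g hc hab
  refine ⟨e, ?_, h2⟩
  rintro ⟨x, y⟩
  exact (h1 (x, y)).trans (mul_add c (X.Q x) (X.Q y))

section Fin

variable [Finite F]

theorem T.sum (h2 : (2 : F) ≠ 0) {X Y : Tri.{u, v} F} {δ δ' : Fˣ} {s s' : ℤˣ} (hX : X.T δ s) (hY : Y.T δ' s') :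
    (X.sum Y).T (δ * δ') (s * s') := by
  obtain ⟨h, hO, h1, h3, h4, h5⟩ := hX
  obtain ⟨k, kO, k1, k3, k4, k5⟩ := hY
  refine ⟨pr h k, pr_mem_O hO kO, ?_, ?_, ?_, ?_⟩
  · show pr h k * pr h k = 1
    rw [← pr_mul, h1, k1, pr_one]
  · have hinv : ∀ (a : X.V ≃ₗ[F] X.V) (b : Y.V ≃ₗ[F] Y.V), (pr a b)⁻¹ = pr a⁻¹ b⁻¹ :=
      fun a b => (map_inv prHom (a, b)).symm
    show pr h k * pr X.g Y.g * (pr h k)⁻¹ = (pr X.g Y.g)⁻¹
    rw [hinv, hinv, ← pr_mul, ← pr_mul, h3, k3]
  · show LinearEquiv.det (pr h k) = _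
    rw [det_pr, h4, k4]
  · show spin (X.Q.prod Y.Q) ⟨pr h k, _⟩ = _
    rw [spin_pr h2 X.nd Y.nd hO kO, h5, k5]

theorem m_sum (h2 : (2 : F) ≠ 0) (X Y : Tri.{u, v} F) : (X.sum Y).m = X.m * Y.m :=
  spin_pr h2 X.nd Y.nd (neg_mem_O X.Q) (neg_mem_O Y.Q)

end Fin

section Disc

variable [Fintype F] [DecidableEq F]

/-- the class, as a sign -/
noncomputable def c (X : Tri.{u, v} F) : ℤˣ := if dc X.Q = 1 then 1 else -1

theorem coe_c (X : Tri.{u, v} F) : ((X.c : ℤˣ) : ℤ) = dc X.Q := by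
  unfold c
  rcases dc_cases X.nd with h | h
  · rw [if_pos h, h]; rfl
  · rw [if_neg (by rw [h]; decide), h]; rfl

theorem Iso.c {X Y : Tri.{u, v} F} (h : Iso X Y) : X.c = Y.c := by
  obtain ⟨e, he, -⟩ := h
  apply Units.ext
  rw [coe_c, coe_c, dc_iso he]

theorem c_sum (X Y : Tri.{u, v} F) : (X.sum Y).c = X.c * Y.c := by
  apply Units.ext
  rw [Units.val_mul, coe_c, coe_c, coe_c]
  exact dc_prod X.Q Y.Q

theorem m_even (h2 : (2 : F) ≠ 0) (X : Tri.{u, v} F) (h : Even X.n) : X.m = X.c := by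
  apply Units.ext
  rw [coe_c]
  exact spin_neg_one h2 X.nd h

theorem c_smul (X : Tri.{u, v} F) (hX : Odd X.n) {d : F} (hd : d ≠ 0) (hns : ¬ IsSquare d) :
    (X.smul d hd).c = - X.c := by
  apply Units.ext
  rw [Units.val_neg, coe_c, coe_c]
  show dc (d • X.Q) = _
  have h1 : Odd (finrank F X.V) := hX
  rw [dc_smul, quadraticChar_neg_one_iff_not_isSquare.2 hns, h1.neg_one_pow]
  ring

end Disc

end Tri

end Cfsg.Agent.H853.SR
end

-- part: H853/SR/Dec
section
/-!
# TEAM SR, decomposition of an isometry of an orthogonal space (SR-O4): the combinatorics (helper853)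

Pieces: `PA` (free), `PE` (dimension `4j`), `PJ` (an abstract predicate for single odd Jordan blocks, `JHyp`).
`main` : if every triple of positive dimension splits off a piece and the dimension is odd or divisible by four,
then `T 1 1` or there is a decomposition `DecJ` into one `E` part and pairwise different `J` pieces of the same
discriminant class.
-/

set_option autoImplicit false

namespace Cfsg.Agent.H853.SR

open Module QuadraticMap
open Cfsg.Agent.LieClassical.OrthCore Cfsg.Agent.H160.QSpin Cfsg.Agent.H160.QDisc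

universe u v

variable {F : Type u} [Field F]

open Classical in
/-- the quadratic character of `-1` -/
noncomputable def ch (F : Type u) [Field F] : ℤˣ := if IsSquare (-1 : F) then 1 else -1

namespace Tri

/-- all signs occur -/
def Free (X : Tri.{u, v} F) : Prop := ∀ s : ℤˣ, X.T 1 s ∧ X.T (-1) s

/-- all spinor signs occur for one determinant -/
def PA (X : Tri.{u, v} F) : Prop := ∃ d : ℕ, X.n = 2 * d ∧ ∀ s : ℤˣ, X.T ((-1) ^ d) s

/-- there is an inverting involution -/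
def HasT (X : Tri.{u, v} F) : Prop := ∃ s : ℤˣ, X.T 1 s ∨ X.T (-1) s

/-- both determinants occur -/
def Both (X : Tri.{u, v} F) : Prop := (∃ s : ℤˣ, X.T 1 s) ∧ ∃ s : ℤˣ, X.T (-1) s

theorem Free.iso {X Y : Tri.{u, v} F} (h : X.Free) (e : Iso X Y) : Y.Free :=
  fun s => ⟨(h s).1.iso e, (h s).2.iso e⟩

theorem PA.iso {X Y : Tri.{u, v} F} (h : X.PA) (e : Iso X Y) : Y.PA := by
  obtain ⟨d, h1, h2⟩ := h
  exact ⟨d, by rw [← e.n, h1], fun s => (h2 s).iso e⟩

theorem Free.hasT {X : Tri.{u, v} F} (h : X.Free) : X.HasT := ⟨1, Or.inl (h 1).1⟩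

theorem Free.both {X : Tri.{u, v} F} (h : X.Free) : X.Both := ⟨⟨1, (h 1).1⟩, 1, (h 1).2⟩

theorem Both.hasT {X : Tri.{u, v} F} (h : X.Both) : X.HasT := by
  obtain ⟨⟨s, h⟩, -⟩ := h
  exact ⟨s, Or.inl h⟩

theorem PA.hasT {X : Tri.{u, v} F} (h : X.PA) : X.HasT := by
  obtain ⟨d, -, h⟩ := h
  rcases neg_one_pow_eq_or Fˣ d with h1 | h1
  · exact ⟨1, Or.inl (h1 ▸ h 1)⟩
  · exact ⟨1, Or.inr (h1 ▸ h 1)⟩

section

variable [Finite F]

theorem Free.sum (h2 : (2 : F) ≠ 0) {X Y : Tri.{u, v} F} (h : X.Free) (h' : Y.HasT) : (X.sum Y).Free := by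
  obtain ⟨t, ht | ht⟩ := h'
  · intro s
    constructor
    · have := (h (s * t)).1.sum h2 ht
      rwa [one_mul, mul_assoc, Int.units_mul_self, mul_one] at this
    · have := (h (s * t)).2.sum h2 ht
      rwa [mul_one, mul_assoc, Int.units_mul_self, mul_one] at this
  · intro s
    constructor
    · have := (h (s * t)).2.sum h2 ht
      rwa [neg_one_mul, neg_neg, mul_assoc, Int.units_mul_self, mul_one] at this
    · have := (h (s * t)).1.sum h2 ht
      rwa [one_mul, mul_assoc, Int.units_mul_self, mul_one] at this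

theorem HasT.sum (h2 : (2 : F) ≠ 0) {X Y : Tri.{u, v} F} (h : X.HasT) (h' : Y.HasT) : (X.sum Y).HasT := by
  obtain ⟨t, ht⟩ := h'
  obtain ⟨s, hs⟩ := h
  rcases ht with ht | ht <;> rcases hs with hs | hs
  · exact ⟨s * t, Or.inl (by have := hs.sum h2 ht; rwa [one_mul] at this)⟩
  · exact ⟨s * t, Or.inr (by have := hs.sum h2 ht; rwa [mul_one] at this)⟩
  · exact ⟨s * t, Or.inr (by have := hs.sum h2 ht; rwa [one_mul] at this)⟩
  · exact ⟨s * t, Or.inl (by have := hs.sum h2 ht; rwa [neg_one_mul, neg_neg] at this)⟩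

theorem PA.sum_both (h2 : (2 : F) ≠ 0) {X Y : Tri.{u, v} F} (h : X.PA) (h' : Y.Both) : (X.sum Y).Free := by
  obtain ⟨d, -, h⟩ := h
  obtain ⟨⟨t, ht⟩, t', ht'⟩ := h'
  intro s
  have h3 := (h (s * t)).sum h2 ht
  have h4 := (h (s * t')).sum h2 ht'
  rw [mul_one, mul_assoc, Int.units_mul_self, mul_one] at h3
  rw [mul_assoc, Int.units_mul_self, mul_one] at h4
  rcases neg_one_pow_eq_or Fˣ d with h1 | h1
  · rw [h1] at h3 h4
    rw [one_mul] at h4
    exact ⟨h3, h4⟩
  · rw [h1] at h3 h4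
    rw [neg_one_mul, neg_neg] at h4
    exact ⟨h4, h3⟩

theorem PA.sum (h2 : (2 : F) ≠ 0) {X Y : Tri.{u, v} F} (h : X.PA) (h' : Y.PA) : (X.sum Y).PA := by
  obtain ⟨d, hd, h⟩ := h
  obtain ⟨e, he, h'⟩ := h'
  refine ⟨d + e, by rw [n_sum, hd, he]; ring, fun s => ?_⟩
  have := (h s).sum h2 (h' 1)
  rwa [mul_one, ← pow_add] at this

theorem Both.sum (h2 : (2 : F) ≠ 0) {X Y : Tri.{u, v} F} (h : X.Both) (h' : Y.HasT) : (X.sum Y).Both := by
  obtain ⟨⟨s, hs⟩, s', hs'⟩ := h
  obtain ⟨t, ht | ht⟩ := h'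
  · exact ⟨⟨s * t, by have := hs.sum h2 ht; rwa [mul_one] at this⟩,
      s' * t, by have := hs'.sum h2 ht; rwa [mul_one] at this⟩
  · exact ⟨⟨s' * t, by have := hs'.sum h2 ht; rwa [neg_one_mul, neg_neg] at this⟩,
      s * t, by have := hs.sum h2 ht; rwa [one_mul] at this⟩

end

end Tri

variable [Fintype F] [DecidableEq F]

open Tri

/-- the `E` pieces -/
def PE (j : ℕ) (X : Tri.{u, v} F) : Prop := X.n = 4 * j ∧ X.c = 1 ∧ X.T 1 (ch F ^ j)

/-- the properties of the `J` pieces -/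
structure JHyp (PJ : Tri.{u, v} F → ℕ → ℤˣ → Prop) : Prop where
  odd : ∀ X a σ, PJ X a σ → Odd a
  dim : ∀ X a σ, PJ X a σ → X.n = a
  tt : ∀ X a σ, PJ X a σ → X.T 1 (ch F ^ ((a ^ 2 - 1) / 8))
  uniq : ∀ X Y a σ, PJ X a σ → PJ Y a σ → X.c = Y.c → Iso X Y
  smul : ∀ (X : Tri.{u, v} F) (a : ℕ) (σ : ℤˣ) (d : F) (hd : d ≠ 0), PJ X a σ → PJ (X.smul d hd) a σ

/-- a decomposition into an `E` part and `J` pieces of class `c` -/
def DecJ (PJ : Tri.{u, v} F → ℕ → ℤˣ → Prop) (c : ℤˣ) (j : ℕ) : List (ℕ × ℤˣ) → Tri.{u, v} F → Prop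
  | [], X => PE j X
  | p :: L, X => ∃ J X' : Tri.{u, v} F, PJ J p.1 p.2 ∧ J.c = c ∧ DecJ PJ c j L X' ∧ Iso X (J.sum X')

variable {PJ : Tri.{u, v} F → ℕ → ℤˣ → Prop}

theorem PE.iso {j : ℕ} {X Y : Tri.{u, v} F} (h : PE j X) (e : Iso X Y) : PE j Y :=
  ⟨by rw [← e.n, h.1], by rw [← e.c, h.2.1], h.2.2.iso e⟩

theorem PE.sum (h2 : (2 : F) ≠ 0) {i j : ℕ} {X Y : Tri.{u, v} F} (h : PE i X) (h' : PE j Y) :
    PE (i + j) (X.sum Y) := by
  refine ⟨by rw [n_sum, h.1, h'.1]; ring, by rw [c_sum, h.2.1, h'.2.1, one_mul], ?_⟩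
  have := h.2.2.sum h2 h'.2.2
  rwa [one_mul, ← pow_add] at this

theorem DecJ.iso {c : ℤˣ} {j : ℕ} {L : List (ℕ × ℤˣ)} {X Y : Tri.{u, v} F} (h : DecJ PJ c j L X) (e : Iso X Y) :
    DecJ PJ c j L Y := by
  cases L with
  | nil => exact PE.iso h e
  | cons p L =>
    obtain ⟨J, X', h1, h2, h3, h4⟩ := h
    exact ⟨J, X', h1, h2, h3, e.symm.trans h4⟩

theorem DecJ.perm {c : ℤˣ} {j : ℕ} {L L' : List (ℕ × ℤˣ)} (hp : L.Perm L') :
    ∀ {X : Tri.{u, v} F}, DecJ PJ c j L X → DecJ PJ c j L' X := by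
  induction hp with
  | nil => intro X h; exact h
  | cons p _ ih =>
    rintro X ⟨J, X', h1, h2, h3, h4⟩
    exact ⟨J, X', h1, h2, ih h3, h4⟩
  | swap p q L =>
    rintro X ⟨J, X', h1, h2, ⟨J', X'', h3, h4, h5, h6⟩, h7⟩
    exact ⟨J', J.sum X'', h3, h4, ⟨J, X'', h1, h2, h5, Iso.refl _⟩,
      h7.trans (((Iso.refl J).sum h6).trans (sum_left_comm J J' X''))⟩
  | trans _ _ ih1 ih2 => intro X h; exact ih2 (ih1 h)

theorem DecJ.addE (h2 : (2 : F) ≠ 0) {c : ℤˣ} {i j : ℕ} {L : List (ℕ × ℤˣ)} {P : Tri.{u, v} F} (hP : PE i P) :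
    ∀ {X : Tri.{u, v} F}, DecJ PJ c j L X → DecJ PJ c (i + j) L (P.sum X) := by
  induction L with
  | nil => intro X h; exact hP.sum h2 h
  | cons p L ih =>
    rintro X ⟨J, X', h1, h3, h4, h5⟩
    exact ⟨J, P.sum X', h1, h3, ih h4, ((Iso.refl P).sum h5).trans (sum_left_comm P J X')⟩

/-- the exponent of a list of `J` pieces -/
def ex (L : List (ℕ × ℤˣ)) : ℕ := (L.map fun p => (p.1 ^ 2 - 1) / 8).sum

theorem ex_cons (p : ℕ × ℤˣ) (L : List (ℕ × ℤˣ)) : ex (p :: L) = (p.1 ^ 2 - 1) / 8 + ex L := rfl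

theorem DecJ.t (h2 : (2 : F) ≠ 0) (hJ : JHyp PJ) {c : ℤˣ} {j : ℕ} {L : List (ℕ × ℤˣ)} :
    ∀ {X : Tri.{u, v} F}, DecJ PJ c j L X → X.T 1 (ch F ^ (j + ex L)) := by
  induction L with
  | nil => intro X h; exact h.2.2
  | cons p L ih =>
    rintro X ⟨J, X', h1, h3, h4, h5⟩
    have := ((hJ.tt _ _ _ h1).sum h2 (ih h4)).iso h5.symm
    rw [one_mul, ← pow_add] at this
    rw [ex_cons]
    convert this using 2
    ring

theorem DecJ.dim (hJ : JHyp PJ) {c : ℤˣ} {j : ℕ} {L : List (ℕ × ℤˣ)} :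
    ∀ {X : Tri.{u, v} F}, DecJ PJ c j L X → X.n = 4 * j + (L.map Prod.fst).sum := by
  induction L with
  | nil => intro X h; exact h.1
  | cons p L ih =>
    rintro X ⟨J, X', h1, h3, h4, h5⟩
    rw [h5.n, n_sum, hJ.dim _ _ _ h1, ih h4, List.map_cons, List.sum_cons]
    ring

theorem DecJ.cls {c : ℤˣ} {j : ℕ} {L : List (ℕ × ℤˣ)} :
    ∀ {X : Tri.{u, v} F}, DecJ PJ c j L X → X.c = c ^ L.length := by
  induction L with
  | nil => intro X h; rw [List.length_nil, pow_zero]; exact h.2.1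
  | cons p L ih =>
    rintro X ⟨J, X', h1, h3, h4, h5⟩
    rw [h5.c, c_sum, h3, ih h4, List.length_cons, pow_succ, mul_comm]

theorem DecJ.odd (hJ : JHyp PJ) {c : ℤˣ} {j : ℕ} {L : List (ℕ × ℤˣ)} :
    ∀ {X : Tri.{u, v} F}, DecJ PJ c j L X → ∀ p ∈ L, Odd p.1 := by
  induction L with
  | nil => intro X h p hp; simp at hp
  | cons p L ih =>
    rintro X ⟨J, X', h1, h3, h4, h5⟩ q hq
    rcases List.mem_cons.1 hq with rfl | hq
    · exact hJ.odd _ _ _ h1
    · exact ih h4 q hq

theorem both_of_PJ (hJ : JHyp PJ) {J : Tri.{u, v} F} {a : ℕ} {σ : ℤˣ} (h : PJ J a σ) : J.Both := by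
  have h1 := hJ.tt _ _ _ h
  refine ⟨⟨_, h1⟩, ch F ^ ((a ^ 2 - 1) / 8) * J.m, ?_⟩
  have h3 := T_neg h1
  have h4 : Odd J.n := by rw [hJ.dim _ _ _ h]; exact hJ.odd _ _ _ h
  rwa [h4.neg_one_pow, one_mul] at h3

/-- two odd-dimensional pieces of different classes -/
theorem free_of_ne (h2 : (2 : F) ≠ 0) (hJ : JHyp PJ) {J J' : Tri.{u, v} F} {a a' : ℕ} {σ σ' : ℤˣ} (h : PJ J a σ)
    (h' : PJ J' a' σ') (hc : J.c ≠ J'.c) : (J.sum J').Free := by
  have h1 := hJ.tt _ _ _ h
  have h1' := hJ.tt _ _ _ h'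
  have ho : Odd J.n := by rw [hJ.dim _ _ _ h]; exact hJ.odd _ _ _ h
  have ho' : Odd J'.n := by rw [hJ.dim _ _ _ h']; exact hJ.odd _ _ _ h'
  have h3 := T_neg h1
  rw [ho.neg_one_pow, one_mul] at h3
  have h3' := T_neg h1'
  rw [ho'.neg_one_pow, one_mul] at h3'
  have hm : J.m * J'.m = -1 := by
    rw [← m_sum h2, m_even h2 _ (by rw [n_sum]; exact ho.add_odd ho'), c_sum]
    rcases Int.units_eq_one_or J.c with hx | hx <;> rcases Int.units_eq_one_or J'.c with hy | hy
    · exact absurd (hx.trans hy.symm) hc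
    · rw [hx, hy]; rfl
    · rw [hx, hy]; rfl
    · exact absurd (hx.trans hy.symm) hc
  set s := ch F ^ ((a ^ 2 - 1) / 8) with hs
  set s' := ch F ^ ((a' ^ 2 - 1) / 8) with hs'
  have k1 := h1.sum h2 h1'
  have k2 := h3.sum h2 h3'
  have k3 := h3.sum h2 h1'
  have k4 := h1.sum h2 h3'
  rw [mul_one] at k1 k3
  rw [one_mul] at k4
  rw [neg_one_mul, neg_neg] at k2
  have e2 : s * J.m * (s' * J'.m) = -(s * s') := by
    calc s * J.m * (s' * J'.m) = (s * s') * (J.m * J'.m) := by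
          simp only [mul_assoc, mul_left_comm]
      _ = -(s * s') := by rw [hm, mul_neg_one]
  have e3 : J'.m = -J.m := by
    have : J.m * (J.m * J'.m) = J.m * -1 := by rw [hm]
    rw [← mul_assoc, Int.units_mul_self, one_mul, mul_neg_one] at this
    exact this
  have e4 : s * (s' * J'.m) = -(s * J.m * s') := by
    rw [e3, mul_neg, mul_neg]
    congr 1
    simp only [mul_comm, mul_left_comm]
  rw [e2] at k2
  rw [e4] at k4
  have hcase : ∀ x t : ℤˣ, t = x ∨ t = -x := by decide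
  intro t
  constructor
  · rcases hcase (s * s') t with h | h
    · rw [h]; exact k1
    · rw [h]; exact k2
  · rcases hcase (s * J.m * s') t with h | h
    · rw [h]; exact k3
    · rw [h]; exact k4

omit [DecidableEq F] in
theorem exists_nonsq (h2 : (2 : F) ≠ 0) : ∃ d a b : F, d ≠ 0 ∧ ¬ IsSquare d ∧ a * a + b * b = d := by
  have hchar : ringChar F ≠ 2 := by
    intro h
    apply h2
    have := ringChar.spec F 2
    rw [h] at this
    exact_mod_cast this.2 dvd_rfl
  obtain ⟨d, hd⟩ := FiniteField.exists_nonsquare hchar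
  have hodd : Fintype.card F % 2 = 1 := FiniteField.odd_card_of_char_ne_two hchar
  have h := FiniteField.exists_root_sum_quadratic (R := F) (f := Polynomial.X ^ 2)
    (g := Polynomial.X ^ 2 - Polynomial.C d) (Polynomial.degree_X_pow 2)
    (Polynomial.degree_X_pow_sub_C (by decide) _) hodd
  obtain ⟨a, b, hab⟩ := h
  refine ⟨d, a, b, ?_, hd, ?_⟩
  · rintro rfl
    exact hd (IsSquare.zero)
  · simp only [Polynomial.eval_pow, Polynomial.eval_X, Polynomial.eval_sub, Polynomial.eval_C] at hab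
    linear_combination hab

/-- re-decomposition of two equal `J` pieces -/
theorem redec (h2 : (2 : F) ≠ 0) (hJ : JHyp PJ) {J J' : Tri.{u, v} F} {a : ℕ} {σ : ℤˣ} (h : PJ J a σ)
    (h' : PJ J' a σ) (hc : J.c = J'.c) :
    ∃ K : Tri.{u, v} F, PJ K a σ ∧ K.c = - J.c ∧ Iso (J.sum J') (K.sum K) := by
  obtain ⟨d, x, y, hd, hns, hxy⟩ := exists_nonsq (F := F) h2
  have ho : Odd J.n := by rw [hJ.dim _ _ _ h]; exact hJ.odd _ _ _ h
  exact ⟨J.smul d hd, hJ.smul _ _ _ _ hd h, c_smul J ho hd hns,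
    ((Iso.refl J).sum (hJ.uniq _ _ _ _ h' h hc.symm)).trans (J.double hd hxy).symm⟩

theorem DecJ.both (h2 : (2 : F) ≠ 0) (hJ : JHyp PJ) {c : ℤˣ} {j : ℕ} {p : ℕ × ℤˣ} {L : List (ℕ × ℤˣ)}
    {X : Tri.{u, v} F} (h : DecJ PJ c j (p :: L) X) : X.Both := by
  obtain ⟨J, X', h1, h3, h4, h5⟩ := h
  have h6 := (both_of_PJ hJ h1).sum h2 (Y := X') ⟨_, Or.inl (h4.t h2 hJ)⟩
  exact ⟨⟨_, h6.1.choose_spec.iso h5.symm⟩, ⟨_, h6.2.choose_spec.iso h5.symm⟩⟩

/-- the three outcomes -/
def Res (PJ : Tri.{u, v} F → ℕ → ℤˣ → Prop) (X : Tri.{u, v} F) : Prop :=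
  X.Free ∨ X.PA ∨ ∃ c j L, DecJ PJ c j L X

theorem Res.iso {X Y : Tri.{u, v} F} (h : Res PJ X) (e : Iso X Y) : Res PJ Y := by
  rcases h with h | h | ⟨c, j, L, h⟩
  · exact Or.inl (h.iso e)
  · exact Or.inr (Or.inl (h.iso e))
  · exact Or.inr (Or.inr ⟨c, j, L, h.iso e⟩)

theorem Res.hasT (h2 : (2 : F) ≠ 0) (hJ : JHyp PJ) {X : Tri.{u, v} F} (h : Res PJ X) : X.HasT := by
  rcases h with h | h | ⟨c, j, L, h⟩
  · exact h.hasT
  · exact h.hasT
  · exact ⟨_, Or.inl (h.t h2 hJ)⟩

/-- the pieces -/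
def Piece (PJ : Tri.{u, v} F → ℕ → ℤˣ → Prop) (P : Tri.{u, v} F) : Prop :=
  P.PA ∨ (∃ j, PE j P) ∨ ∃ a σ, PJ P a σ

theorem step (h2 : (2 : F) ≠ 0) (hJ : JHyp PJ) {P X : Tri.{u, v} F} (hP : Piece PJ P) (hX : Res PJ X) :
    Res PJ (P.sum X) := by
  have hPT : P.HasT := by
    rcases hP with h | ⟨j, h⟩ | ⟨a, σ, h⟩
    · exact h.hasT
    · exact ⟨_, Or.inl h.2.2⟩
    · exact (both_of_PJ hJ h).hasT
  rcases hX with hX | hX | ⟨c, j, L, hX⟩
  · exact Or.inl ((hX.sum h2 hPT).iso (sum_comm _ _))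
  · rcases hP with h | ⟨i, h⟩ | ⟨a, σ, h⟩
    · exact Or.inr (Or.inl (h.sum h2 hX))
    · right; left
      obtain ⟨d, hd, hX⟩ := hX
      refine ⟨2 * i + d, by rw [n_sum, h.1, hd]; ring, fun s => ?_⟩
      have h3 := h.2.2.sum h2 (hX (ch F ^ i * s))
      rw [← mul_assoc, Int.units_mul_self, one_mul, one_mul] at h3
      rwa [pow_add, pow_mul, neg_one_sq, one_pow, one_mul]
    · exact Or.inl ((hX.sum_both h2 (both_of_PJ hJ h)).iso (sum_comm _ _))
  · rcases hP with h | ⟨i, h⟩ | ⟨a, σ, h⟩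
    · cases L with
      | nil =>
        right; left
        obtain ⟨d, hd, h⟩ := h
        refine ⟨d + 2 * j, by rw [n_sum, hd, hX.1]; ring, fun s => ?_⟩
        have h3 := (h (s * ch F ^ j)).sum h2 hX.2.2
        rw [mul_assoc, Int.units_mul_self, mul_one, mul_one] at h3
        rwa [pow_add, pow_mul, neg_one_sq, one_pow, mul_one]
      | cons p L => exact Or.inl (h.sum_both h2 (hX.both h2 hJ))
    · exact Or.inr (Or.inr ⟨c, i + j, L, hX.addE h2 h⟩)
    · cases L with
      | nil => exact Or.inr (Or.inr ⟨P.c, j, [(a, σ)], P, X, h, rfl, hX, Iso.refl _⟩)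
      | cons p L =>
        obtain ⟨J, X', h1, h3, h4, h5⟩ := hX
        by_cases hc : P.c = J.c
        · exact Or.inr (Or.inr ⟨c, j, (a, σ) :: p :: L, P, X, h, hc.trans h3, ⟨J, X', h1, h3, h4, h5⟩, Iso.refl _⟩)
        · left
          refine ((free_of_ne h2 hJ h h1 hc).sum h2 (Y := X') ⟨_, Or.inl (h4.t h2 hJ)⟩).iso ?_
          exact (sum_assoc _ _ _).trans ((Iso.refl P).sum h5.symm)

theorem res_zero {X : Tri.{u, v} F} (h : X.n = 0) : Res PJ X := by
  have hs : Subsingleton X.V := finrank_zero_iff.1 h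
  refine Or.inr (Or.inr ⟨1, 0, [], by rw [h], ?_, 1, (O X.Q).one_mem, ?_, ?_, ?_, ?_⟩)
  · apply Units.ext
    rw [coe_c]
    unfold dc
    rw [gdet_of_zero X.Q h]
    simp
  · exact one_mul _
  · ext x
    exact Subsingleton.elim _ _
  · exact map_one _
  · rw [pow_zero]
    exact map_one (spin X.Q)

/-- **every triple is of one of the three kinds** -/
theorem res (h2 : (2 : F) ≠ 0) (hJ : JHyp PJ)
    (hP : ∀ X : Tri.{u, v} F, 0 < X.n → ∃ P X' : Tri.{u, v} F, Iso X (P.sum X') ∧ 0 < P.n ∧ Piece PJ P)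
    (X : Tri.{u, v} F) : Res PJ X := by
  induction hn : X.n using Nat.strong_induction_on generalizing X with
  | _ n ih =>
    rcases Nat.eq_zero_or_pos X.n with h0 | h0
    · exact res_zero h0
    · obtain ⟨P, X', h1, h3, h4⟩ := hP X h0
      have h5 : X.n = P.n + X'.n := by rw [h1.n, n_sum]
      exact (step h2 hJ h4 (ih X'.n (by omega) X' rfl)).iso h1.symm

theorem sum_fst_odd {L : List (ℕ × ℤˣ)} (h : ∀ p ∈ L, Odd p.1) : (L.map Prod.fst).sum % 2 = L.length % 2 := by
  induction L with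
  | nil => rfl
  | cons p L ih =>
    have h1 := ih fun q hq => h q (List.mem_cons_of_mem _ hq)
    have h2 := Nat.odd_iff.1 (h p List.mem_cons_self)
    rw [List.map_cons, List.sum_cons, List.length_cons]
    omega

/-- **the decomposition theorem** (SR-O4) -/
theorem main (h2 : (2 : F) ≠ 0) (hJ : JHyp PJ)
    (hP : ∀ X : Tri.{u, v} F, 0 < X.n → ∃ P X' : Tri.{u, v} F, Iso X (P.sum X') ∧ 0 < P.n ∧ Piece PJ P)
    (X : Tri.{u, v} F) (hn : Odd X.n ∨ 4 ∣ X.n) :
    X.T 1 1 ∨ ∃ c j L, L.Nodup ∧ DecJ PJ c j L X := by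
  rcases res h2 hJ hP X with h | h | ⟨c, j, L, h⟩
  · exact Or.inl (h 1).1
  · obtain ⟨d, hd, h⟩ := h
    left
    have hd2 : Even d := by
      rcases hn with hn | hn
      · rw [hd] at hn
        exact absurd hn (by simp only [_root_.Nat.not_odd_iff_even, _root_.even_two, _root_.Even.mul_right])
      · rw [hd] at hn
        obtain ⟨k, hk⟩ := hn
        exact ⟨k, by omega⟩
    have := h 1
    rwa [hd2.neg_one_pow] at this
  · by_cases hL : L.Nodup
    · exact Or.inr ⟨c, j, L, hL, h⟩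
    · left
      obtain ⟨p, hp⟩ := List.exists_duplicate_iff_not_nodup.2 hL
      obtain ⟨L', hL'⟩ := (List.duplicate_iff_sublist.1 hp).exists_perm_append
      have h3 : DecJ PJ c j (p :: p :: L') X := h.perm hL'
      have hodd := h3.odd hJ
      cases L' with
      | nil =>
        exfalso
        have h4 := h3.dim hJ
        have h5 := Nat.odd_iff.1 (hodd p List.mem_cons_self)
        simp only [List.map_cons, List.map_nil, List.sum_cons, List.sum_nil] at h4
        rcases hn with hn | hn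
        · have := Nat.odd_iff.1 hn
          omega
        · omega
      | cons q L' =>
        obtain ⟨J₁, X₁, a1, a2, ⟨J₂, X₂, b1, b2, ⟨J₃, X₃, c1, c2, c3, c4⟩, b4⟩, a4⟩ := h3
        obtain ⟨K, k1, k2, k3⟩ := redec h2 hJ a1 b1 (a2.trans b2.symm)
        have h6 : (K.sum J₃).Free := free_of_ne h2 hJ k1 c1 (by
          rw [k2, a2, c2]
          have : ∀ x : ℤˣ, -x ≠ x := by decide
          exact this c)
        have h7 : ((K.sum J₃).sum (K.sum X₃)).Free := h6.sum h2
          ((both_of_PJ hJ k1).hasT.sum h2 ⟨_, Or.inl (c3.t h2 hJ)⟩)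
        -- `X ≅ J₁ ⊥ (J₂ ⊥ (J₃ ⊥ X₃)) ≅ (K ⊥ K) ⊥ (J₃ ⊥ X₃)`
        have e1 : Iso X (J₁.sum (J₂.sum (J₃.sum X₃))) :=
          a4.trans ((Iso.refl J₁).sum (b4.trans ((Iso.refl J₂).sum c4)))
        have e2 : Iso (J₁.sum (J₂.sum (J₃.sum X₃))) (K.sum (K.sum (J₃.sum X₃))) :=
          (sum_assoc _ _ _).symm.trans ((k3.sum (Iso.refl _)).trans (sum_assoc _ _ _))
        have e3 : Iso (K.sum (K.sum (J₃.sum X₃))) ((K.sum J₃).sum (K.sum X₃)) :=
          ((Iso.refl K).sum (sum_left_comm _ _ _)).trans (sum_assoc _ _ _).symm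
        exact ((h7 1).1).iso ((e1.trans (e2.trans e3)).symm)

end Cfsg.Agent.H853.SR
end

-- part: H853/SR/Cor
section
/-!
# TEAM SR, decomposition of an isometry of an orthogonal space (SR-O4): the corollaries (helper853)
-/

set_option autoImplicit false

namespace Cfsg.Agent.H853.SR

open Module QuadraticMap
open Cfsg.Agent.LieClassical.OrthCore Cfsg.Agent.H160.QSpin Cfsg.Agent.H160.QDisc

universe u v

variable {F : Type u} [Field F] [Fintype F] [DecidableEq F]

open Tri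

variable {PJ : Tri.{u, v} F → ℕ → ℤˣ → Prop}

/-- **corollary 1**: `-1` is a square -/
theorem t_of_ch (h2 : (2 : F) ≠ 0) (hJ : JHyp PJ)
    (hP : ∀ X : Tri.{u, v} F, 0 < X.n → ∃ P X' : Tri.{u, v} F, Iso X (P.sum X') ∧ 0 < P.n ∧ Piece PJ P)
    (X : Tri.{u, v} F) (hn : Odd X.n ∨ 4 ∣ X.n) (hch : IsSquare (-1 : F)) : X.T 1 1 := by
  rcases main h2 hJ hP X hn with h | ⟨c, j, L, -, h⟩
  · exact h
  · have h1 := h.t h2 hJ
    have h3 : ch F = 1 := if_pos hch
    rwa [h3, one_pow] at h1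

/-- **corollary 2**: dimension divisible by four, class `-1` -/
theorem t_of_neg (h2 : (2 : F) ≠ 0) (hJ : JHyp PJ)
    (hP : ∀ X : Tri.{u, v} F, 0 < X.n → ∃ P X' : Tri.{u, v} F, Iso X (P.sum X') ∧ 0 < P.n ∧ Piece PJ P)
    (X : Tri.{u, v} F) (hn : 4 ∣ X.n) (hc : X.c = -1) : X.T 1 1 := by
  rcases main h2 hJ hP X (Or.inr hn) with h | ⟨c, j, L, -, h⟩
  · exact h
  · exfalso
    have h1 := sum_fst_odd (h.odd hJ)
    have h3 := h.dim hJ
    have h4 : L.length % 2 = 0 := by omega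
    have h5 := h.cls
    rw [hc] at h5
    obtain ⟨k, hk⟩ := Nat.even_iff.2 h4
    rw [hk, ← two_mul, pow_mul, pow_two, Int.units_mul_self, one_pow] at h5
    exact absurd h5 (by decide)

/-- the number of entries with first component `a` -/
def cnt (a : ℕ) (L : List (ℕ × ℤˣ)) : ℕ := (L.filter fun p => p.1 = a).length

theorem cnt_cons (a : ℕ) (p : ℕ × ℤˣ) (L : List (ℕ × ℤˣ)) :
    cnt a (p :: L) = (if p.1 = a then 1 else 0) + cnt a L := by
  unfold cnt
  by_cases h : p.1 = a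
  · rw [List.filter_cons_of_pos (by simpa using h), List.length_cons, if_pos h, add_comm]
  · rw [List.filter_cons_of_neg (by simpa using h), if_neg h, zero_add]

theorem cnt_le {a : ℕ} {L : List (ℕ × ℤˣ)} (hL : L.Nodup) : cnt a L ≤ 2 := by
  unfold cnt
  have h1 : ((L.filter fun p => p.1 = a).map Prod.snd).Nodup := by
    apply List.Nodup.map_on _ (hL.filter _)
    intro x hx y hy hxy
    have hx1 : x.1 = a := by simpa using (List.mem_filter.1 hx).2
    have hy1 : y.1 = a := by simpa using (List.mem_filter.1 hy).2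
    exact Prod.ext (hx1.trans hy1.symm) hxy
  have h3 := h1.length_le_card
  rw [List.length_map] at h3
  exact h3

theorem sum_cnt {L : List (ℕ × ℤˣ)} (h : ∀ p ∈ L, Odd p.1) (h' : (L.map Prod.fst).sum ≤ 9) :
    (L.map Prod.fst).sum = cnt 1 L + 3 * cnt 3 L + 5 * cnt 5 L + 7 * cnt 7 L + 9 * cnt 9 L ∧
      ex L = cnt 3 L + 3 * cnt 5 L + 6 * cnt 7 L + 10 * cnt 9 L := by
  induction L with
  | nil => exact ⟨rfl, rfl⟩
  | cons p L ih =>
    rw [List.map_cons, List.sum_cons] at h' ⊢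
    obtain ⟨h1, h2⟩ := ih (fun q hq => h q (List.mem_cons_of_mem _ hq)) (by omega)
    obtain ⟨k, hk⟩ := h p List.mem_cons_self
    have hk4 : k ≤ 4 := by (clear * - h' hk; omega)
    rw [ex_cons, cnt_cons, cnt_cons, cnt_cons, cnt_cons, cnt_cons]
    interval_cases k
    all_goals
      simp only [mul_zero, zero_add, mul_one, Nat.reduceMul, Nat.reduceAdd] at hk
      rw [hk]
      norm_num only [_root_.ite_true, _root_.ite_false, _root_.zero_add]
      omega

/-- **corollary 3**: dimensions eight and nine -/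
theorem t_of_small (h2 : (2 : F) ≠ 0) (hJ : JHyp PJ)
    (hP : ∀ X : Tri.{u, v} F, 0 < X.n → ∃ P X' : Tri.{u, v} F, Iso X (P.sum X') ∧ 0 < P.n ∧ Piece PJ P)
    (X : Tri.{u, v} F) (hn : X.n = 8 ∨ X.n = 9) : X.T 1 1 := by
  rcases main h2 hJ hP X (by
    rcases hn with hn | hn
    · exact Or.inr (by rw [hn]; decide)
    · exact Or.inl (by rw [hn]; decide)) with h | ⟨c, j, L, hL, h⟩
  · exact h
  · have h1 := h.t h2 hJ
    have h3 := h.dim hJ
    obtain ⟨h4, h5⟩ := sum_cnt (h.odd hJ) (by omega)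
    have y1 := cnt_le (a := 1) hL
    have y3 := cnt_le (a := 3) hL
    have y5 := cnt_le (a := 5) hL
    have y7 := cnt_le (a := 7) hL
    have y9 := cnt_le (a := 9) hL
    have h6 : Even (j + ex L) := by
      rw [Nat.even_iff, h5]
      rw [h4] at h3
      generalize cnt 1 L = a1 at *
      generalize cnt 3 L = a3 at *
      generalize cnt 5 L = a5 at *
      generalize cnt 7 L = a7 at *
      generalize cnt 9 L = a9 at *
      have : j ≤ 2 := by (clear * - hn h3; omega)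
      interval_cases j <;> interval_cases a3 <;> interval_cases a5 <;> interval_cases a7 <;>
        interval_cases a9 <;> (clear * - hn y1 h4 h3; omega)
    obtain ⟨k, hk⟩ := h6
    rwa [hk, ← two_mul, pow_mul, pow_two, Int.units_mul_self, one_pow] at h1

end Cfsg.Agent.H853.SR
end

-- part: H4/SR/Sum
section
/-!
# Orthogonal sums and the predicate `T`

* `T_pr`, `T_cj`, `T_neg` : orthogonal sums, isometries, multiplication by `-1`;
* `perp`, `isCompl_perp`, `split_perp` : splitting off a nondegenerate invariant subspace;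
* `cpiece_restrict`, `ppiece_restrict` : pieces in the subspace they generate;
* `T_of_split` : the combination.
-/

set_option autoImplicit false

namespace Cfsg.Agent.H4.SR

open Polynomial Module QuadraticMap
open Cfsg.Agent.LieClassical.OrthCore Cfsg.Agent.H160.QSpin Cfsg.Agent.H160.QDisc Cfsg.Agent.H160.QSplit
open Cfsg.Agent.H721.SR

variable {F V W : Type*} [Field F] [AddCommGroup V] [Module F V] [AddCommGroup W] [Module F W]

/-! ### sums -/

theorem det_neg [FiniteDimensional F V] :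
    LinearEquiv.det (LinearEquiv.neg F : V ≃ₗ[F] V) = (-1) ^ finrank F V := by
  apply Units.ext
  rw [LinearEquiv.coe_det]
  have h : ((LinearEquiv.neg F : V ≃ₗ[F] V) : V →ₗ[F] V) = (-1 : F) • LinearMap.id := by
    ext x
    simp
  rw [h, LinearMap.det_smul, LinearMap.det_id]
  simp only [_root_.mul_one, _root_.Units.val_pow_eq_pow_val, _root_.Units.val_neg, _root_.Units.val_one]

/-! ### splitting -/

/-- the orthogonal complement -/
def perp (Q : QuadraticForm F V) (U : Submodule F V) : Submodule F V where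
  carrier := {x | ∀ y ∈ U, polar Q x y = 0}
  add_mem' := fun {a b} ha hb y hy => by rw [polar_add_left, ha y hy, hb y hy, add_zero]
  zero_mem' := fun y _ => by rw [polar_zero_left]
  smul_mem' := fun c x hx y hy => by rw [polar_smul_left, hx y hy, smul_zero]

/-- restriction of a form -/
abbrev rs (Q : QuadraticForm F V) (U : Submodule F V) : QuadraticForm F U := Q.comp U.subtype

theorem rs_apply (Q : QuadraticForm F V) (U : Submodule F V) (x : U) : rs Q U x = Q x := rfl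

theorem nondeg_rs {Q : QuadraticForm F V} {U : Submodule F V} (hU : NdOn (polarBilin Q) U) : Nondeg (rs Q U) := by
  intro x hx
  apply Subtype.ext
  exact hU x x.2 fun y hy => hx ⟨y, hy⟩

theorem isCompl_perp [FiniteDimensional F V] {Q : QuadraticForm F V} {U : Submodule F V}
    (hU : NdOn (polarBilin Q) U) : IsCompl U (perp Q U) := by
  constructor
  · rw [Submodule.disjoint_def]
    exact fun x hx hp => hU x hx hp
  · rw [codisjoint_iff, eq_top_iff]
    intro x _
    -- the functional `polar Q x` on `U` is represented by `u ∈ U`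
    let f : U →ₗ[F] Module.Dual F U := (polarBilin (rs Q U))
    have hf : Function.Injective f := by
      rw [← LinearMap.ker_eq_bot, LinearMap.ker_eq_bot']
      intro u hu
      exact nondeg_rs hU u fun y => LinearMap.congr_fun hu y
    have hs : Function.Surjective f :=
      (LinearMap.injective_iff_surjective_of_finrank_eq_finrank (by exact (Subspace.dual_finrank_eq).symm)).1 hf
    obtain ⟨u, hu⟩ := hs ((polarBilin Q x).comp U.subtype)
    have h1 : ∀ y ∈ U, polar Q (u : V) y = polar Q x y := fun y hy => LinearMap.congr_fun hu ⟨y, hy⟩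
    have h3 : x - u ∈ perp Q U := by
      intro y hy
      rw [polar_sub_left, h1 y hy, sub_self]
    have h4 : x = u + (x - u) := by abel
    rw [h4]
    exact Submodule.add_mem_sup u.2 h3

theorem nd_perp [FiniteDimensional F V] {Q : QuadraticForm F V} (hQ : Nondeg Q) {U : Submodule F V}
    (hU : NdOn (polarBilin Q) U) : NdOn (polarBilin Q) (perp Q U) := by
  intro x hx h
  apply hQ
  intro y
  have hy : y ∈ U ⊔ perp Q U := by rw [(isCompl_perp hU).sup_eq_top]; trivial
  obtain ⟨a, ha, b, hb, rfl⟩ := Submodule.mem_sup.1 hy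
  rw [polar_add_right, hx a ha, zero_add]
  exact h b hb

theorem perp_inv [FiniteDimensional F V] {Q : QuadraticForm F V} {g : V ≃ₗ[F] V} (hg : g ∈ O Q) {U : Submodule F V}
    (hU : ∀ x ∈ U, g x ∈ U) : ∀ x ∈ perp Q U, g x ∈ perp Q U := by
  intro x hx y hy
  -- `g` is surjective on `U`
  have hinj : Function.Injective ((g : V →ₗ[F] V).restrict hU) := fun a b hab =>
    Subtype.ext (g.injective (congrArg Subtype.val hab))
  obtain ⟨z, hz⟩ := (LinearMap.injective_iff_surjective.1 hinj) ⟨y, hy⟩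
  have hz' : g (z : V) = y := congrArg Subtype.val hz
  rw [← hz', polar_map hg]
  exact hx z z.2

theorem finrank_perp [FiniteDimensional F V] {Q : QuadraticForm F V} {U : Submodule F V}
    (hU : NdOn (polarBilin Q) U) : finrank F U + finrank F (perp Q U) = finrank F V :=
  Submodule.finrank_add_eq_of_isCompl (isCompl_perp hU)

/-- **splitting off a nondegenerate invariant subspace** -/
theorem split_perp [FiniteDimensional F V] {Q : QuadraticForm F V} (hQ : Nondeg Q) {g : V ≃ₗ[F] V} (hg : g ∈ O Q)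
    {U : Submodule F V} (hU : NdOn (polarBilin Q) U) (hgU : ∀ x ∈ U, g x ∈ U) :
    ∃ (g₁ : U ≃ₗ[F] U) (g₂ : perp Q U ≃ₗ[F] perp Q U) (e : (U × perp Q U) ≃ₗ[F] V),
      IsIso ((rs Q U).prod (rs Q (perp Q U))) Q e ∧ g = cj e (pr g₁ g₂) ∧
      (∀ x, (g₁ x : V) = g x) ∧ (∀ x, (g₂ x : V) = g x) ∧ Nondeg (rs Q U) ∧ Nondeg (rs Q (perp Q U)) ∧
      g₁ ∈ O (rs Q U) ∧ g₂ ∈ O (rs Q (perp Q U)) ∧ finrank F U + finrank F (perp Q U) = finrank F V := by
  obtain ⟨g₁, g₂, e, he, hge, h1, h2⟩ := split_of_compl (Q := Q) (g := g) (isCompl_perp hU)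
    (fun x hx y hy => by rw [polar_comm]; exact hy x hx) hgU (perp_inv hg hgU)
  refine ⟨g₁, g₂, e, he, hge, h1, h2, nondeg_rs hU, nondeg_rs (nd_perp hQ hU), ?_, ?_, finrank_perp hU⟩
  · intro x
    rw [rs_apply, rs_apply, h1, mem_O.1 hg]
  · intro x
    rw [rs_apply, rs_apply, h2, mem_O.1 hg]

/-! ### restriction of pieces -/

theorem zpow_coe {U : Submodule F V} {g : V ≃ₗ[F] V} {g₁ : U ≃ₗ[F] U} (h : ∀ x, (g₁ x : V) = g x) (i : ℤ) (x : U) :
    (((g₁ ^ i) x : U) : V) = (g ^ i) (x : V) := by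
  have hnat : ∀ (n : ℕ) (x : U), (((g₁ ^ n) x : U) : V) = (g ^ n) (x : V) := by
    intro n
    induction n with
    | zero => intro x; rfl
    | succ n ih =>
      intro x
      rw [pow_succ, pow_succ]
      change (((g₁ ^ n) (g₁ x) : U) : V) = (g ^ n) (g (x : V))
      rw [ih, h]
  have hinv : ∀ x : U, ((g₁⁻¹ x : U) : V) = g⁻¹ (x : V) := by
    intro x
    apply g.injective
    have h3 : g ((g₁⁻¹ x : U) : V) = (g₁ (g₁⁻¹ x) : U) := (h _).symm
    rw [h3]
    have h4 : g₁ (g₁⁻¹ x) = x := g₁.apply_symm_apply x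
    have h5 : g (g⁻¹ (x : V)) = x := g.apply_symm_apply _
    rw [h4, h5]
  have hninv : ∀ (n : ℕ) (x : U), (((g₁⁻¹ ^ n) x : U) : V) = (g⁻¹ ^ n) (x : V) := by
    intro n
    induction n with
    | zero => intro x; rfl
    | succ n ih =>
      intro x
      rw [pow_succ, pow_succ]
      change (((g₁⁻¹ ^ n) (g₁⁻¹ x) : U) : V) = (g⁻¹ ^ n) (g⁻¹ (x : V))
      rw [ih, hinv]
  rcases i with n | n
  · have e1 : g₁ ^ (Int.ofNat n) = g₁ ^ n := zpow_natCast _ _
    have e2 : g ^ (Int.ofNat n) = g ^ n := zpow_natCast _ _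
    rw [e1, e2, hnat]
  · rw [zpow_negSucc, zpow_negSucc, ← inv_pow, ← inv_pow, hninv]

theorem aeval_coe {U : Submodule F V} {g : V ≃ₗ[F] V} {g₁ : U ≃ₗ[F] U} (h : ∀ x, (g₁ x : V) = g x) (p : F[X]) (x : U) :
    ((aeval (g₁ : U →ₗ[F] U) p x : U) : V) = aeval (g : V →ₗ[F] V) p (x : V) := by
  induction p using Polynomial.induction_on' with
  | add p q hp hq => rw [map_add, map_add, LinearMap.add_apply, LinearMap.add_apply, Submodule.coe_add, hp, hq]
  | monomial n c =>
    rw [aeval_monomial, aeval_monomial, Module.End.mul_apply, Module.End.mul_apply, Module.algebraMap_end_apply,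
      Module.algebraMap_end_apply, Submodule.coe_smul]
    congr 1
    induction n with
    | zero => rfl
    | succ n ih =>
      rw [pow_succ', pow_succ', Module.End.mul_apply, Module.End.mul_apply, ← ih]
      exact h _

/-- generators of the cyclic subspace -/
theorem zpow_mem_cyc (g : V ≃ₗ[F] V) (v : V) (i : ℤ) : (g ^ i) v ∈ cyc g v := Submodule.subset_span ⟨i, rfl⟩

theorem self_mem_cyc (g : V ≃ₗ[F] V) (v : V) : v ∈ cyc g v := by
  have := zpow_mem_cyc g v 0
  rwa [zpow_zero] at this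

theorem zpow_add_apply (g : V ≃ₗ[F] V) (i j : ℤ) (v : V) : (g ^ (i + j)) v = (g ^ i) ((g ^ j) v) := by
  rw [zpow_add]; rfl

theorem zpow_one_add_apply (g : V ≃ₗ[F] V) (j : ℤ) (v : V) : (g ^ (1 + j)) v = g ((g ^ j) v) := by
  rw [zpow_add_apply, zpow_one]

/-- the cyclic subspace is invariant -/
theorem cyc_inv (g : V ≃ₗ[F] V) (v : V) : ∀ x ∈ cyc g v, g x ∈ cyc g v := by
  have : cyc g v ≤ (cyc g v).comap (g : V →ₗ[F] V) := by
    rw [cyc, Submodule.span_le]
    rintro _ ⟨i, rfl⟩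
    change g ((g ^ i) v) ∈ cyc g v
    rw [← zpow_one_add_apply]
    exact zpow_mem_cyc g v _
  exact this

theorem sup_cyc_inv (g : V ≃ₗ[F] V) (v w : V) : ∀ x ∈ cyc g v ⊔ cyc g w, g x ∈ cyc g v ⊔ cyc g w := by
  intro x hx
  obtain ⟨a, ha, b, hb, rfl⟩ := Submodule.mem_sup.1 hx
  rw [map_add]
  exact Submodule.add_mem_sup (cyc_inv g v a ha) (cyc_inv g w b hb)

/-- the cyclic subspace of the restriction -/
theorem cyc_restrict {U : Submodule F V} {g : V ≃ₗ[F] V} {g₁ : U ≃ₗ[F] U} (h : ∀ x, (g₁ x : V) = g x) (v : U) :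
    (cyc g₁ v).map U.subtype = cyc g (v : V) := by
  unfold cyc
  rw [Submodule.map_span]
  congr 1
  ext x
  constructor
  · rintro ⟨_, ⟨i, rfl⟩, rfl⟩
    exact ⟨i, (zpow_coe h i v).symm⟩
  · rintro ⟨i, rfl⟩
    exact ⟨_, ⟨i, rfl⟩, zpow_coe h i v⟩

theorem ann_restrict {U : Submodule F V} {g : V ≃ₗ[F] V} {g₁ : U ≃ₗ[F] U} (h : ∀ x, (g₁ x : V) = g x) {v : U}
    {m : F[X]} (ha : Ann g (v : V) m) : Ann g₁ v m := by
  intro p
  rw [← ha p, ← aeval_coe h, ZeroMemClass.coe_eq_zero]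

theorem inv_coe {U : Submodule F V} {g : V ≃ₗ[F] V} {g₁ : U ≃ₗ[F] U} (h : ∀ x, (g₁ x : V) = g x) (x : U) :
    ((g₁⁻¹ x : U) : V) = g⁻¹ (x : V) := by
  have := zpow_coe h (-1) x
  rwa [zpow_neg_one, zpow_neg_one] at this

/-- a cyclic piece in the subspace it generates -/
theorem cpiece_restrict {Q : QuadraticForm F V} {g : V ≃ₗ[F] V} {f : F[X]} {k : ℕ} {v : V}
    (hp : CPiece (polarBilin Q) g f k v) {g₁ : cyc g v ≃ₗ[F] cyc g v} (h : ∀ x, (g₁ x : V) = g x) :
    CPiece (polarBilin (rs Q (cyc g v))) g₁ f k ⟨v, self_mem_cyc g v⟩ ∧ cyc g₁ ⟨v, self_mem_cyc g v⟩ = ⊤ := by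
  have htop : cyc g₁ ⟨v, self_mem_cyc g v⟩ = ⊤ := by
    apply Submodule.map_injective_of_injective (cyc g v).injective_subtype
    rw [cyc_restrict h, Submodule.map_top, Submodule.range_subtype]
  refine ⟨⟨hp.irr, hp.pos, ann_restrict h hp.ann, ?_⟩, htop⟩
  rw [htop]
  intro x _ hx
  apply Subtype.ext
  exact hp.nd x x.2 fun y hy => hx ⟨y, hy⟩ trivial

/-- a pair piece in the subspace it generates -/
theorem ppiece_restrict {Q : QuadraticForm F V} {g : V ≃ₗ[F] V} {f : F[X]} {k : ℕ} {v w : V}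
    (hp : PPiece (polarBilin Q) g f k v w) {U : Submodule F V} (hU : U = cyc g v ⊔ cyc g w) {g₁ : U ≃ₗ[F] U}
    (h : ∀ x, (g₁ x : V) = g x) : ∃ (hv : v ∈ U) (hw : w ∈ U),
    PPiece (polarBilin (rs Q U)) g₁ f k ⟨v, hv⟩ ⟨w, hw⟩ ∧ cyc g₁ ⟨v, hv⟩ ⊔ cyc g₁ ⟨w, hw⟩ = ⊤ := by
  have hv : v ∈ U := by rw [hU]; exact Submodule.mem_sup_left (self_mem_cyc g v)
  have hw : w ∈ U := by rw [hU]; exact Submodule.mem_sup_right (self_mem_cyc g w)
  have e1 : (cyc g₁ ⟨v, hv⟩).map U.subtype = cyc g v := cyc_restrict h ⟨v, hv⟩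
  have e2 : (cyc g₁ ⟨w, hw⟩).map U.subtype = cyc g w := cyc_restrict h ⟨w, hw⟩
  have htop : cyc g₁ ⟨v, hv⟩ ⊔ cyc g₁ ⟨w, hw⟩ = ⊤ := by
    apply Submodule.map_injective_of_injective U.injective_subtype
    rw [Submodule.map_sup, e1, e2, Submodule.map_top, Submodule.range_subtype, hU]
  have hiso : ∀ (z : U), Iso0 (polarBilin Q) (cyc g (z : V)) → Iso0 (polarBilin (rs Q U)) (cyc g₁ z) := by
    intro z hz x hx y hy
    have hx' : (x : V) ∈ cyc g (z : V) := by rw [← cyc_restrict h z]; exact ⟨x, hx, rfl⟩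
    have hy' : (y : V) ∈ cyc g (z : V) := by rw [← cyc_restrict h z]; exact ⟨y, hy, rfl⟩
    exact hz x hx' y hy'
  have hinv : ∀ x, ((g₁⁻¹ x : U) : V) = g⁻¹ x := inv_coe h
  refine ⟨hv, hw, ⟨hp.irr, hp.pos, ann_restrict h (v := ⟨v, hv⟩) hp.annv,
    ann_restrict hinv (v := ⟨w, hw⟩) hp.annw, hiso ⟨v, hv⟩ hp.isov, hiso ⟨w, hw⟩ hp.isow, ?_⟩, htop⟩
  rw [htop]
  intro x _ hx
  apply Subtype.ext
  refine hp.nd x (by rw [← hU]; exact x.2) fun y hy => ?_
  rw [← hU] at hy
  exact hx ⟨y, hy⟩ trivial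

end Cfsg.Agent.H4.SR
end

-- part: H853/SR/Bridge
section
/-!
# TEAM SR, SR-O4: from the theorem on pieces to the decomposition (helper853)

`HypA`, `HypE`, `HypJ` : the results of the tasks OODD_A, OODD_E, OODD_J.
-/

set_option autoImplicit false

namespace Cfsg.Agent.H853.SR

open Polynomial Module QuadraticMap
open Cfsg.Agent.LieClassical.OrthCore Cfsg.Agent.H160.QSpin Cfsg.Agent.H160.QDisc Cfsg.Agent.H721.SR

universe u v

section even

variable {F : Type u} [Field F] {V : Type v} [AddCommGroup V] [Module F V]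

theorem st_of {Q : QuadraticForm F V} (hQ : Nondeg Q) {g : V ≃ₗ[F] V} (hg : g ∈ O Q) :
    St (polarBilin Q) 1 g where
  eps := Or.inl rfl
  symm x y := by rw [one_mul]; exact polar_comm _ _ _
  nondeg x hx := hQ x hx
  isom x y := polar_map hg x y

open Cfsg.Agent.H807.SR in
theorem P_eigen {g : V ≃ₗ[F] V} {x : V} {σ : F} (hx : g x = σ • x) (p : F[X]) : P g p x = p.eval σ • x := by
  induction p using Polynomial.induction_on' with
  | add p q hp hq => rw [P_add, hp, hq, eval_add, add_smul]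
  | monomial n c =>
    rw [← C_mul_X_pow_eq_monomial, P_mul, P_C, P_X_pow, eval_mul, eval_C, eval_pow, eval_X, mul_smul]
    congr 1
    induction n with
    | zero => simp
    | succ n ih =>
      rw [pow_succ', pow_succ', mul_smul]
      show g ((g ^ n) x) = _
      rw [ih, map_smul, hx, smul_smul, smul_smul, mul_comm]

theorem eval_ne {f : F[X]} (hf : Irreducible f) {σ : F} (h : ¬ Associated f (X - C σ)) : f.eval σ ≠ 0 := by
  intro h0
  apply h
  exact ((irreducible_X_sub_C σ).associated_of_dvd hf (dvd_iff_isRoot.2 h0)).symm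

theorem reverse_eval_ne {p : F[X]} {σ : F} (hσ : σ = 1 ∨ σ = -1) (h : p.eval σ ≠ 0) : p.reverse.eval σ ≠ 0 := by
  have hσ0 : σ ≠ 0 := by
    rcases hσ with rfl | rfl
    · exact one_ne_zero
    · exact neg_ne_zero.2 one_ne_zero
  have hinv : σ⁻¹ = σ := by
    rcases hσ with rfl | rfl
    · exact inv_one
    · rw [inv_neg, inv_one]
  let _ : Invertible σ := invertibleOfNonzero hσ0
  have h1 := (eval₂_reverse_eq_zero_iff (RingHom.id F) σ p).not.2 h
  rwa [invOf_eq_inv, hinv] at h1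

open Cfsg.Agent.H807.SR in
theorem noeigen_c [FiniteDimensional F V] {B : V →ₗ[F] V →ₗ[F] F} {g : V ≃ₗ[F] V} {f : F[X]} {k : ℕ} {v : V}
    (hp : CPiece B g f k v) (ht : cyc g v = ⊤) {σ : F} (h : ¬ Associated f (X - C σ)) {x : V} (hx : g x = σ • x) :
    x = 0 := by
  obtain ⟨p, rfl⟩ := (mem_cyc g).1 (by rw [ht]; trivial : x ∈ cyc g v)
  have h1 : P g (f ^ k) (P g p v) = 0 := by rw [P_comm, ann_zero hp.ann, map_zero]
  rw [P_eigen hx, eval_pow] at h1
  exact (smul_eq_zero.1 h1).resolve_left (pow_ne_zero _ (eval_ne hp.irr h))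

open Cfsg.Agent.H807.SR in
theorem noeigen_p [FiniteDimensional F V] {B : V →ₗ[F] V →ₗ[F] F} {g : V ≃ₗ[F] V} {f : F[X]} {k : ℕ} {v w : V}
    (hp : PPiece B g f k v w) (ht : cyc g v ⊔ cyc g w = ⊤) {σ : F} (hσ : σ = 1 ∨ σ = -1)
    (h : ¬ Associated f (X - C σ)) {x : V} (hx : g x = σ • x) : x = 0 := by
  obtain ⟨y, hy, z, hz, rfl⟩ := Submodule.mem_sup.1 (by rw [ht]; trivial : x ∈ cyc g v ⊔ cyc g w)
  have h1 : P g (f ^ k) y = 0 := by
    obtain ⟨p, rfl⟩ := (mem_cyc g).1 hy
    rw [P_comm, ann_zero hp.annv, map_zero]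
  have h2 : P g (f ^ k).reverse z = 0 := by
    obtain ⟨p, rfl⟩ := (mem_cyc_inv g).1 hz
    rw [P_reverse_eq_zero, P_comm, ann_zero hp.annw, map_zero]
  have h3 : P g ((f ^ k) * (f ^ k).reverse) (y + z) = 0 := by
    rw [map_add, P_mul, P_mul, P_comm, h1, map_zero, h2, map_zero, add_zero]
  rw [P_eigen hx, eval_mul] at h3
  have h4 : (f ^ k).eval σ ≠ 0 := by
    rw [eval_pow]
    exact pow_ne_zero _ (eval_ne hp.irr h)
  exact (smul_eq_zero.1 h3).resolve_left (mul_ne_zero h4 (reverse_eval_ne hσ h4))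

/-- if `g` has no eigenvalue `±1` the dimension is even -/
theorem even_of_noeigen [FiniteDimensional F V] {Q : QuadraticForm F V} (hQ : Nondeg Q) {g : V ≃ₗ[F] V}
    (hg : g ∈ O Q) (h1 : ∀ x, g x = x → x = 0) (h2 : ∀ x, g x = -x → x = 0) : Even (finrank F V) := by
  set S : V →ₗ[F] V := (g : V →ₗ[F] V) - ((g⁻¹ : V ≃ₗ[F] V) : V →ₗ[F] V) with hS
  let A : LinearMap.BilinForm F V := LinearMap.BilinForm.compRight (polarBilin Q) S
  have hAap : ∀ x y, A x y = polar Q x (g y) - polar Q x (g⁻¹ y) := by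
    intro x y
    show polar Q x (g y - g⁻¹ y) = _
    rw [polar_sub_right]
  have hA : A.IsAlt := by
    intro x
    rw [hAap]
    have h1 : polar Q x (g⁻¹ x) = polar Q (g x) x := by
      rw [← polar_map hg]
      congr 1
      exact g.apply_symm_apply x
    rw [h1, polar_comm Q (g x) x, sub_self]
  have hinj : Function.Injective S := by
    rw [← LinearMap.ker_eq_bot, LinearMap.ker_eq_bot']
    intro x hx
    have h3 : g x = g⁻¹ x := sub_eq_zero.1 hx
    have h4 : g (g x) = x := by rw [h3]; exact g.apply_symm_apply x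
    have h5 : g x + x = 0 := h1 _ (by rw [map_add, h4, add_comm])
    exact h2 x (eq_neg_of_add_eq_zero_left h5)
  have hSsurj : Function.Surjective S := LinearMap.injective_iff_surjective.1 hinj
  have hnd : ∀ u, (∀ v, A u v = 0) → u = 0 := by
    intro u hu
    apply hQ
    intro y
    obtain ⟨v, rfl⟩ := hSsurj y
    exact hu v
  obtain ⟨k, hk⟩ := Cfsg.Agent.H194.NilForm.even_of_isAlt A hA hnd
  exact ⟨k, by omega⟩

end even

/-! ### the hypotheses -/

section hyps

/-- the result of the task OODD_A -/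
def HypA (F : Type u) [Field F] : Prop :=
  ∀ (V : Type v) [AddCommGroup V] [Module F V] [FiniteDimensional F V] [Finite V] (Q : QuadraticForm F V)
    (g : V ≃ₗ[F] V) (f : F[X]) (k d : ℕ), Nondeg Q → g ∈ O Q → Odd k → finrank F V = 2 * d →
    ((∃ v, CPiece (polarBilin Q) g f k v ∧ cyc g v = ⊤ ∧ Associated f f.reverse ∧ ¬ Associated f (X - 1) ∧
        ¬ Associated f (X + 1)) ∨
      (∃ v w, PPiece (polarBilin Q) g f k v w ∧ cyc g v ⊔ cyc g w = ⊤ ∧ ¬ Associated f f.reverse)) →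
    ∀ s : ℤˣ, Cfsg.Agent.H721.SR.T Q g ((-1) ^ d) s

/-- the result of the task OODD_E -/
def HypE (F : Type u) [Field F] [Fintype F] [DecidableEq F] : Prop :=
  ∀ (V : Type v) [AddCommGroup V] [Module F V] [FiniteDimensional F V] [Finite V] (Q : QuadraticForm F V)
    (g : V ≃ₗ[F] V) (f : F[X]) (k : ℕ), Nondeg Q → g ∈ O Q → Even k →
    ((∃ v, CPiece (polarBilin Q) g f k v ∧ cyc g v = ⊤ ∧ Associated f f.reverse ∧ ¬ Associated f (X - 1) ∧
        ¬ Associated f (X + 1)) ∨
      (∃ v w, PPiece (polarBilin Q) g f k v w ∧ cyc g v ⊔ cyc g w = ⊤ ∧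
        (¬ Associated f f.reverse ∨ ∃ σ : F, (σ = 1 ∨ σ = -1) ∧ f = X - C σ))) →
    ∃ j : ℕ, finrank F V = 4 * j ∧ dc Q = 1 ∧ Cfsg.Agent.H721.SR.T Q g 1 (ch F ^ j)

/-- the result of the task OODD_J: the sign -/
def HypJT (F : Type u) [Field F] : Prop :=
  ∀ (V : Type v) [AddCommGroup V] [Module F V] [FiniteDimensional F V] [Finite V] (Q : QuadraticForm F V)
    (g : V ≃ₗ[F] V) (σ : F) (a : ℕ) (v : V), Nondeg Q → g ∈ O Q → (σ = 1 ∨ σ = -1) → Odd a →
    CPiece (polarBilin Q) g (X - C σ) a v → cyc g v = ⊤ →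
    finrank F V = a ∧ Cfsg.Agent.H721.SR.T Q g 1 (ch F ^ ((a ^ 2 - 1) / 8))

/-- the result of the task OODD_J: uniqueness -/
def HypJU (F : Type u) [Field F] [Fintype F] [DecidableEq F] : Prop :=
  ∀ (V W : Type v) [AddCommGroup V] [Module F V] [FiniteDimensional F V] [Finite V]
    [AddCommGroup W] [Module F W] [FiniteDimensional F W] [Finite W] (Q : QuadraticForm F V)
    (Q' : QuadraticForm F W) (g : V ≃ₗ[F] V) (g' : W ≃ₗ[F] W) (σ : F) (a : ℕ) (v : V) (v' : W),
    Nondeg Q → Nondeg Q' → g ∈ O Q → g' ∈ O Q' → (σ = 1 ∨ σ = -1) → Odd a →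
    CPiece (polarBilin Q) g (X - C σ) a v → cyc g v = ⊤ →
    CPiece (polarBilin Q') g' (X - C σ) a v' → cyc g' v' = ⊤ → dc Q = dc Q' →
    ∃ e : V ≃ₗ[F] W, IsIso Q Q' e ∧ cj e g = g'

end hyps

section bridge

variable {F : Type u} [Field F]

/-- the scalar of a sign -/
def sg (F : Type u) [Field F] (σ : ℤˣ) : F := ((σ : ℤ) : F)

theorem sg_or (σ : ℤˣ) : sg F σ = 1 ∨ sg F σ = -1 := by
  rcases Int.units_eq_one_or σ with rfl | rfl
  · left; simp [sg]
  · right; simp [sg]

theorem exists_sg {σ : F} (h : σ = 1 ∨ σ = -1) : ∃ t : ℤˣ, sg F t = σ := by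
  rcases h with rfl | rfl
  · exact ⟨1, by simp [sg]⟩
  · exact ⟨-1, by simp [sg]⟩

theorem polar_smul_form {V : Type*} [AddCommGroup V] [Module F V] (Q : QuadraticForm F V) (d : F) (x y : V) :
    polar (d • Q) x y = d * polar Q x y := by
  simp only [QuadraticMap.polar, smul_eq_mul, _root_.smul_apply]
  ring

theorem self_recip {f : F[X]} (hf : Irreducible f) {σ : F} (hσ : σ = 1 ∨ σ = -1)
    (h : Associated f (X - C σ)) : Associated f f.reverse := by
  have h0 : f.eval σ = 0 := by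
    have : (X - C σ) ∣ f := h.symm.dvd
    exact dvd_iff_isRoot.1 this
  have h1 : f.reverse.eval σ = 0 := by
    by_contra hne
    have hσ0 : σ ≠ 0 := by
      rcases hσ with rfl | rfl
      · exact one_ne_zero
      · exact neg_ne_zero.2 one_ne_zero
    have hinv : σ⁻¹ = σ := by
      rcases hσ with rfl | rfl
      · exact inv_one
      · rw [inv_neg, inv_one]
    let _ : Invertible σ := invertibleOfNonzero hσ0
    have h1 := (eval₂_reverse_eq_zero_iff (RingHom.id F) σ f).2 h0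
    rw [invOf_eq_inv, hinv] at h1
    exact hne h1
  have h2 : f ∣ f.reverse := h.dvd.trans (dvd_iff_isRoot.2 h1)
  refine associated_of_dvd_of_natDegree_le h2 ?_ (reverse_natDegree_le f)
  intro h0
  exact hf.ne_zero (by simpa using h0)

/-- the concrete `J` pieces -/
def PJ (X : Tri.{u, v} F) (a : ℕ) (σ : ℤˣ) : Prop :=
  Odd a ∧ ∃ v, CPiece (polarBilin X.Q) X.g (Polynomial.X - C (sg F σ)) a v ∧ cyc X.g v = ⊤

theorem jHyp [Fintype F] [DecidableEq F] (hT : HypJT.{u, v} F) (hU : HypJU.{u, v} F) :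
    JHyp (PJ.{u, v} (F := F)) where
  odd := fun X a σ h => h.1
  dim := by
    rintro X a σ ⟨ho, v, hp, ht⟩
    exact (hT X.V X.Q X.g (sg F σ) a v X.nd X.iso (sg_or σ) ho hp ht).1
  tt := by
    rintro X a σ ⟨ho, v, hp, ht⟩
    exact (hT X.V X.Q X.g (sg F σ) a v X.nd X.iso (sg_or σ) ho hp ht).2
  uniq := by
    rintro X Y a σ ⟨ho, v, hp, ht⟩ ⟨ho', v', hp', ht'⟩ hc
    refine hU X.V Y.V X.Q Y.Q X.g Y.g (sg F σ) a v v' X.nd Y.nd X.iso Y.iso (sg_or σ) ho hp ht hp' ht' ?_
    rw [← Tri.coe_c, ← Tri.coe_c, hc]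
  smul := by
    rintro X a σ d hd ⟨ho, v, hp, ht⟩
    refine ⟨ho, v, ⟨hp.irr, hp.pos, hp.ann, ?_⟩, ht⟩
    intro x hx h
    refine hp.nd x hx fun y hy => ?_
    have h1 : polar (d • X.Q) x y = 0 := h y hy
    exact (mul_eq_zero.1 ((polar_smul_form X.Q d x y).symm.trans h1)).resolve_left hd

/-- splitting off a piece -/
theorem split_tri (X : Tri.{u, v} F) {U : Submodule F X.V} (hU : NdOn (polarBilin X.Q) U)
    (hgU : ∀ x ∈ U, X.g x ∈ U) (h0 : U ≠ ⊥) :
    ∃ (g₁ : U ≃ₗ[F] U) (hn : Nondeg (Cfsg.Agent.H4.SR.rs X.Q U)) (hi : g₁ ∈ O (Cfsg.Agent.H4.SR.rs X.Q U))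
      (X' : Tri.{u, v} F), Tri.Iso X (Tri.sum ⟨U, Cfsg.Agent.H4.SR.rs X.Q U, g₁, hn, hi⟩ X') ∧
      (∀ x, (g₁ x : X.V) = X.g x) ∧ 0 < finrank F U := by
  obtain ⟨g₁, g₂, e, he, hge, h1, h2, n1, n2, i1, i2, -⟩ := Cfsg.Agent.H4.SR.split_perp X.nd X.iso hU hgU
  refine ⟨g₁, n1, i1, ⟨Cfsg.Agent.H4.SR.perp X.Q U, Cfsg.Agent.H4.SR.rs X.Q _, g₂, n2, i2⟩,
    Tri.Iso.symm ⟨e, he, hge.symm⟩, h1, ?_⟩
  rw [Module.finrank_pos_iff]
  exact (Submodule.nontrivial_iff_ne_bot).2 h0

theorem assoc_one {f : F[X]} (h : ¬ Associated f (X - 1)) : ¬ Associated f (X - C (1 : F)) := by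
  rwa [C_1]

theorem assoc_neg {f : F[X]} (h : ¬ Associated f (X + 1)) : ¬ Associated f (X - C (-1 : F)) := by
  rwa [C_neg, C_1, sub_neg_eq_add]

/-- **every triple of positive dimension splits off a piece** -/
theorem exists_piece [Fintype F] [DecidableEq F] (h2 : (2 : F) ≠ 0) (hA : HypA.{u, v} F) (hE : HypE.{u, v} F)
    (X : Tri.{u, v} F) (hX : 0 < X.n) :
    ∃ P X' : Tri.{u, v} F, Tri.Iso X (P.sum X') ∧ 0 < P.n ∧ Piece PJ P := by
  have hS := st_of X.nd X.iso
  -- the two kinds of pieces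
  have hc : ∀ (f : F[X]) (k : ℕ) (v : X.V), CPiece (polarBilin X.Q) X.g f k v →
      ((Associated f f.reverse ∧ ¬ Associated f (Polynomial.X - 1) ∧ ¬ Associated f (Polynomial.X + 1)) ∨
        (∃ σ : F, (σ = 1 ∨ σ = -1) ∧ f = Polynomial.X - C σ) ∧ Odd k) →
      ∃ P X' : Tri.{u, v} F, Tri.Iso X (P.sum X') ∧ 0 < P.n ∧ Piece PJ P := by
    intro f k v hp hcase
    obtain ⟨g₁, hn, hi, X', hiso, hg, hpos⟩ := split_tri X hp.nd (Cfsg.Agent.H4.SR.cyc_inv X.g v) (by
      intro h0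
      have hv := Cfsg.Agent.H4.SR.self_mem_cyc X.g v
      rw [h0, Submodule.mem_bot] at hv
      subst hv
      have h1 := (hp.ann 1).1 (map_zero _)
      exact hp.irr.not_isUnit (isUnit_pow_iff hp.pos.ne' |>.1 (isUnit_of_dvd_one h1)))
    obtain ⟨hp', ht'⟩ := Cfsg.Agent.H4.SR.cpiece_restrict hp hg
    refine ⟨_, X', hiso, hpos, ?_⟩
    rcases hcase with ⟨hr, hm, hpl⟩ | ⟨⟨σ, hσ, rfl⟩, ho⟩
    · rcases Nat.even_or_odd k with hk | hk
      · obtain ⟨j, e1, e2, e3⟩ := hE _ _ g₁ f k hn hi hk (Or.inl ⟨_, hp', ht', hr, hm, hpl⟩)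
        refine Or.inr (Or.inl ⟨j, e1, ?_, e3⟩)
        apply Units.ext
        rw [Tri.coe_c]
        exact e2
      · left
        obtain ⟨d, hd⟩ := even_of_noeigen hn hi
          (fun x hx => noeigen_c hp' ht' (assoc_one hm) (by rw [hx, one_smul]))
          (fun x hx => noeigen_c hp' ht' (assoc_neg hpl) (by rw [hx, neg_one_smul]))
        rw [← two_mul] at hd
        exact ⟨d, hd, hA _ _ g₁ f k d hn hi hk hd (Or.inl ⟨_, hp', ht', hr, hm, hpl⟩)⟩
    · obtain ⟨t, ht⟩ := exists_sg hσ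
      exact Or.inr (Or.inr ⟨k, t, ho, _, by rw [ht]; exact hp', ht'⟩)
  have hpp : ∀ (f : F[X]) (k : ℕ) (v w : X.V), PPiece (polarBilin X.Q) X.g f k v w →
      (¬ Associated f f.reverse ∨ (∃ σ : F, (σ = 1 ∨ σ = -1) ∧ f = Polynomial.X - C σ) ∧ Even k) →
      ∃ P X' : Tri.{u, v} F, Tri.Iso X (P.sum X') ∧ 0 < P.n ∧ Piece PJ P := by
    intro f k v w hp hcase
    obtain ⟨g₁, hn, hi, X', hiso, hg, hpos⟩ := split_tri X hp.nd (Cfsg.Agent.H4.SR.sup_cyc_inv X.g v w) (by
      intro h0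
      have hv : v ∈ cyc X.g v ⊔ cyc X.g w := Submodule.mem_sup_left (Cfsg.Agent.H4.SR.self_mem_cyc X.g v)
      rw [h0, Submodule.mem_bot] at hv
      subst hv
      have h1 := (hp.annv 1).1 (map_zero _)
      exact hp.irr.not_isUnit (isUnit_pow_iff hp.pos.ne' |>.1 (isUnit_of_dvd_one h1)))
    obtain ⟨hv, hw, hp', ht'⟩ := Cfsg.Agent.H4.SR.ppiece_restrict hp rfl hg
    refine ⟨_, X', hiso, hpos, ?_⟩
    rcases Nat.even_or_odd k with hk | hk
    · obtain ⟨j, e1, e2, e3⟩ := hE _ _ g₁ f k hn hi hk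
        (Or.inr ⟨_, _, hp', ht', hcase.imp_right fun h => h.1⟩)
      refine Or.inr (Or.inl ⟨j, e1, ?_, e3⟩)
      apply Units.ext
      rw [Tri.coe_c]
      exact e2
    · rcases hcase with hr | ⟨-, hk'⟩
      · left
        have hne : ∀ σ : F, σ = 1 ∨ σ = -1 → ¬ Associated f (Polynomial.X - C σ) :=
          fun σ hσ h => hr (self_recip hp.irr hσ h)
        obtain ⟨d, hd⟩ := even_of_noeigen hn hi
          (fun x hx => noeigen_p hp' ht' (Or.inl rfl) (hne 1 (Or.inl rfl)) (by rw [hx, one_smul]))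
          (fun x hx => noeigen_p hp' ht' (Or.inr rfl) (hne (-1) (Or.inr rfl)) (by rw [hx, neg_one_smul]))
        rw [← two_mul] at hd
        exact ⟨d, hd, hA _ _ g₁ f k d hn hi hk hd (Or.inr ⟨_, _, hp', ht', hr⟩)⟩
      · exact absurd hk' (Nat.not_even_iff_odd.2 hk)
  -- an irreducible factor of the minimal polynomial
  have hnt : Nontrivial X.V := Module.finrank_pos_iff.1 hX
  have hnu : ¬ IsUnit (minpoly F (X.g : X.V →ₗ[F] X.V)) := minpoly.not_isUnit F _
  have hn0 : minpoly F (X.g : X.V →ₗ[F] X.V) ≠ 0 := minpoly.ne_zero (LinearMap.isIntegral _)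
  obtain ⟨f, hf, hd⟩ := WfDvdMonoid.exists_irreducible_factor hnu hn0
  have hlin : ∀ σ : F, σ = 1 ∨ σ = -1 → Associated f (Polynomial.X - C σ) →
      ∃ P X' : Tri.{u, v} F, Tri.Iso X (P.sum X') ∧ 0 < P.n ∧ Piece PJ P := by
    intro σ hσ h
    have hne1 : (1 : F) ≠ -1 := by
      intro h1
      apply h2
      linear_combination h1
    rcases Cfsg.Agent.H388.SR.g1c h2 hS hσ (h.symm.dvd.trans hd) with ⟨k, v, hp, hk⟩ | ⟨k, v, w, hp, hk⟩
    · refine hc _ k v hp (Or.inr ⟨⟨σ, hσ, rfl⟩, ?_⟩)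
      rcases Nat.even_or_odd k with he | ho
      · exfalso
        rw [he.add_one.neg_one_pow] at hk
        exact hne1 hk
      · exact ho
    · refine hpp _ k v w hp (Or.inr ⟨⟨σ, hσ, rfl⟩, ?_⟩)
      rcases Nat.even_or_odd k with he | ho
      · exact he
      · exfalso
        rw [ho.neg_one_pow] at hk
        exact hne1 hk
  by_cases hr : Associated f f.reverse
  · by_cases hm : Associated f (Polynomial.X - 1)
    · exact hlin 1 (Or.inl rfl) (by rwa [C_1])
    · by_cases hpl : Associated f (Polynomial.X + 1)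
      · exact hlin (-1) (Or.inr rfl) (by rwa [C_neg, C_1, sub_neg_eq_add])
      · obtain ⟨k, v, hp⟩ := Cfsg.Agent.H559.SR.exists_cpiece hS hf hd hr hm hpl
        exact hc f k v hp (Or.inl ⟨hr, hm, hpl⟩)
  · obtain ⟨k, v, w, hp⟩ := Cfsg.Agent.H807.SR.exists_ppiece hS hf hd hr
    exact hpp f k v w hp (Or.inl hr)

/-! ### the results for quadratic spaces -/

section final

variable [Fintype F] [DecidableEq F]

/-- **SR-O4, all corollaries together**: the form used by the orthogonal rows -/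
theorem dec (h2 : (2 : F) ≠ 0) (hA : HypA.{u, v} F) (hE : HypE.{u, v} F) (hT : HypJT.{u, v} F)
    (hU : HypJU.{u, v} F) (V : Type v) [AddCommGroup V] [Module F V] [Finite V] (Q : QuadraticForm F V)
    (hQ : Nondeg Q) (hn : Odd (finrank F V) ∨ 4 ∣ finrank F V)
    (hc : quadraticChar F (-1) = 1 ∨ (4 ∣ finrank F V ∧ dc Q = -1) ∨ finrank F V = 8 ∨ finrank F V = 9)
    (g : V ≃ₗ[F] V) (hg : g ∈ O Q) : Cfsg.Agent.H721.SR.T Q g 1 1 := by
  have hJ := jHyp.{u, v} hT hU
  have hP := exists_piece.{u, v} h2 hA hE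
  let X : Tri.{u, v} F := ⟨V, Q, g, hQ, hg⟩
  rcases hc with hc | ⟨h4, hc⟩ | hc
  · have h1 : (-1 : F) ≠ 0 := neg_ne_zero.2 one_ne_zero
    exact t_of_ch h2 hJ hP X hn ((quadraticChar_one_iff_isSquare h1).1 hc)
  · refine t_of_neg h2 hJ hP X h4 ?_
    apply Units.ext
    rw [Tri.coe_c]
    exact hc
  · exact t_of_small h2 hJ hP X hc

end final

end bridge

end Cfsg.Agent.H853.SR
end

-- part: H4/SR/Gram
section
/-!
# Inverting involutions from Gram data

* `exists_gram` : an involution `τ` of the index set of a spanning family multiplying the Gram data by `ε`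
  gives a linear involution;
* `inverter_cyc`, `inverter_pair` : the inverting involutions of a cyclic space and of a pair.
-/

set_option autoImplicit false

namespace Cfsg.Agent.H4.SR

open Module Cfsg.Agent.H721.SR

variable {F V : Type*} [Field F] [AddCommGroup V] [Module F V]

theorem exists_gram {I : Type*} {B : V →ₗ[F] V →ₗ[F] F} (hnd : ∀ x, (∀ y, B x y = 0) → x = 0) (ε : F)
    {u : I → V} (hu : Submodule.span F (Set.range u) = ⊤) {τ : I → I} (hτ : ∀ i, τ (τ i) = i)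
    (hB : ∀ i j, B (u (τ i)) (u (τ j)) = ε * B (u i) (u j)) :
    ∃ h : V ≃ₗ[F] V, h * h = 1 ∧ (∀ i, h (u i) = u (τ i)) ∧ ∀ x y, B (h x) (h y) = ε * B x y := by
  classical
  let φ : (I →₀ F) →ₗ[F] V := Finsupp.linearCombination F u
  let φ' : (I →₀ F) →ₗ[F] V := Finsupp.linearCombination F (fun i => u (τ i))
  have hφ : Function.Surjective φ := by
    rw [← LinearMap.range_eq_top, Finsupp.range_linearCombination, hu]
  have hadj : ∀ (p : I →₀ F) (j : I), B (φ' p) (u j) = ε * B (φ p) (u (τ j)) := by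
    intro p j
    change (B.flip (u j)) (Finsupp.linearCombination F (fun i => u (τ i)) p) =
      ε * (B.flip (u (τ j))) (Finsupp.linearCombination F u p)
    rw [Finsupp.linearCombination_apply, Finsupp.linearCombination_apply, Finsupp.sum, Finsupp.sum, map_sum, map_sum,
      Finset.mul_sum]
    apply Finset.sum_congr rfl
    intro i _
    rw [map_smul, map_smul, LinearMap.flip_apply, LinearMap.flip_apply]
    have h1 := hB i (τ j)
    rw [hτ] at h1
    rw [h1, smul_eq_mul, smul_eq_mul]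
    ring
  have hzero : ∀ x : V, (∀ j, B x (u j) = 0) → x = 0 := by
    intro x hx
    apply hnd
    intro y
    have h1 : B x = 0 := LinearMap.ext_on hu (by rintro _ ⟨j, rfl⟩; exact hx j)
    rw [h1, LinearMap.zero_apply]
  have hker : ∀ p, φ p = 0 → φ' p = 0 := by
    intro p hp
    apply hzero
    intro j
    rw [hadj, hp, map_zero, LinearMap.zero_apply, mul_zero]
  obtain ⟨ψ, hψ⟩ := LinearMap.exists_rightInverse_of_surjective φ (LinearMap.range_eq_top.2 hφ)
  let h₀ : V →ₗ[F] V := φ' ∘ₗ ψ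
  have h₀φ : ∀ p, h₀ (φ p) = φ' p := by
    intro p
    have h1 : φ (ψ (φ p) - p) = 0 := by
      rw [map_sub, sub_eq_zero]
      exact LinearMap.congr_fun hψ (φ p)
    have h2 := hker _ h1
    rw [map_sub, sub_eq_zero] at h2
    exact h2
  have h₀u : ∀ i, h₀ (u i) = u (τ i) := by
    intro i
    have h1 : φ (Finsupp.single i 1) = u i := by
      change Finsupp.linearCombination F u (Finsupp.single i 1) = u i
      rw [Finsupp.linearCombination_single, one_smul]
    have h2 : φ' (Finsupp.single i 1) = u (τ i) := by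
      change Finsupp.linearCombination F (fun i => u (τ i)) (Finsupp.single i 1) = u (τ i)
      rw [Finsupp.linearCombination_single, one_smul]
    rw [← h1, h₀φ, h2]
  have hsq : ∀ x, h₀ (h₀ x) = x := by
    have : h₀ ∘ₗ h₀ = LinearMap.id := LinearMap.ext_on hu (by
      rintro _ ⟨i, rfl⟩
      change h₀ (h₀ (u i)) = u i
      rw [h₀u, h₀u, hτ])
    exact fun x => LinearMap.congr_fun this x
  refine ⟨LinearEquiv.ofInvolutive h₀ hsq, ?_, h₀u, ?_⟩
  · ext x
    exact hsq x
  · have h1 : ∀ i, ∀ y, B (h₀ (u i)) (h₀ y) = ε * B (u i) y := by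
      intro i y
      have : (B (h₀ (u i))) ∘ₗ h₀ = ε • B (u i) := LinearMap.ext_on hu (by
        rintro _ ⟨j, rfl⟩
        change B (h₀ (u i)) (h₀ (u j)) = ε * B (u i) (u j)
        rw [h₀u, h₀u, hB])
      exact LinearMap.congr_fun this y
    intro x y
    change B (h₀ x) (h₀ y) = ε * B x y
    have : ((B.flip (h₀ y)) ∘ₗ h₀) = ε • B.flip y := LinearMap.ext_on hu (by
      rintro _ ⟨i, rfl⟩
      exact h1 i y)
    exact LinearMap.congr_fun this x

theorem isom_zpow {B : V →ₗ[F] V →ₗ[F] F} {g : V ≃ₗ[F] V} (hg : ∀ x y, B (g x) (g y) = B x y) (m : ℤ) (x y : V) :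
    B ((g ^ m) x) ((g ^ m) y) = B x y := by
  have hnat : ∀ (n : ℕ) (x y : V), B ((g ^ n) x) ((g ^ n) y) = B x y := by
    intro n
    induction n with
    | zero => intro x y; rfl
    | succ n ih =>
      intro x y
      rw [pow_succ']
      change B (g ((g ^ n) x)) (g ((g ^ n) y)) = _
      rw [hg, ih]
  rcases m with n | n
  · have e2 : g ^ (Int.ofNat n) = g ^ n := zpow_natCast _ _
    rw [e2]
    exact hnat n x y
  · rw [zpow_negSucc]
    have h1 := hnat (n + 1) ((g ^ (n + 1))⁻¹ x) ((g ^ (n + 1))⁻¹ y)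
    have h2 : ∀ z, (g ^ (n + 1)) ((g ^ (n + 1))⁻¹ z) = z := fun z => (g ^ (n + 1)).apply_symm_apply z
    rw [h2, h2] at h1
    exact h1.symm

/-- the inversion of exponents -/
theorem isom_swap {B : V →ₗ[F] V →ₗ[F] F} {g : V ≃ₗ[F] V} (hg : ∀ x y, B (g x) (g y) = B x y) (i j : ℤ) (x y : V) :
    B ((g ^ (-i)) x) ((g ^ (-j)) y) = B ((g ^ j) x) ((g ^ i) y) := by
  rw [← isom_zpow hg (i + j), ← zpow_add_apply, ← zpow_add_apply]
  congr 3
  · congr 2
    ring
  · congr 1
    ring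

/-- an isomorphism inverting `g` on a spanning family -/
theorem inverts_of_span {I : Type*} {u : I → V} (hu : Submodule.span F (Set.range u) = ⊤) {g h : V ≃ₗ[F] V}
    (H : ∀ i, h (g (u i)) = g⁻¹ (h (u i))) : h * g * h⁻¹ = g⁻¹ := by
  have h1 : h * g = g⁻¹ * h := by
    apply LinearEquiv.toLinearMap_injective
    apply LinearMap.ext_on hu
    rintro _ ⟨i, rfl⟩
    exact H i
  rw [h1, mul_inv_cancel_right]

theorem inv_zpow_apply (g : V ≃ₗ[F] V) (i : ℤ) (v : V) : g⁻¹ ((g ^ (-i)) v) = (g ^ (-(1 + i))) v := by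
  have h : g⁻¹ ((g ^ (-i)) v) = (g⁻¹ * g ^ (-i)) v := rfl
  rw [h]
  congr 1
  group

/-- **cyclic spaces** -/
theorem inverter_cyc {B : V →ₗ[F] V →ₗ[F] F} {ε : F} {g : V ≃ₗ[F] V} (hS : St B ε g) {v : V} (hv : cyc g v = ⊤) :
    ∃ h : V ≃ₗ[F] V, h * h = 1 ∧ h * g * h⁻¹ = g⁻¹ ∧ (∀ x y, B (h x) (h y) = ε * B x y) ∧
      ∀ i : ℤ, h ((g ^ i) v) = (g ^ (-i)) v := by
  obtain ⟨h, h1, h2, h3⟩ := exists_gram hS.nondeg ε (u := fun i : ℤ => (g ^ i) v) hv (τ := fun i => -i)
    (fun i => neg_neg i) (by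
      intro i j
      rw [isom_swap hS.isom]
      exact hS.symm _ _)
  refine ⟨h, h1, inverts_of_span hv fun i => ?_, h3, h2⟩
  have h4 : h ((g ^ i) v) = (g ^ (-i)) v := h2 i
  change h (g ((g ^ i) v)) = g⁻¹ (h ((g ^ i) v))
  rw [← zpow_one_add_apply, h4, inv_zpow_apply]
  exact h2 (1 + i)

/-- **pairs** -/
theorem inverter_pair {B : V →ₗ[F] V →ₗ[F] F} {ε : F} {g : V ≃ₗ[F] V} (hS : St B ε g) {v w : V}
    (hv : Iso0 B (cyc g v)) (hw : Iso0 B (cyc g w)) (htop : cyc g v ⊔ cyc g w = ⊤) :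
    ∃ h : V ≃ₗ[F] V, h * h = 1 ∧ h * g * h⁻¹ = g⁻¹ ∧ (∀ x y, B (h x) (h y) = ε * B x y) ∧
      (∀ i : ℤ, h ((g ^ i) v) = (g ^ (-i)) w) ∧ ∀ i : ℤ, h ((g ^ i) w) = (g ^ (-i)) v := by
  let u : ℤ ⊕ ℤ → V := Sum.elim (fun i => (g ^ i) v) (fun i => (g ^ i) w)
  have hspan : Submodule.span F (Set.range u) = ⊤ := by
    rw [Set.Sum.elim_range, Submodule.span_union]
    exact htop
  let τ : ℤ ⊕ ℤ → ℤ ⊕ ℤ := Sum.elim (fun i => Sum.inr (-i)) (fun i => Sum.inl (-i))
  obtain ⟨h, h1, h2, h3⟩ := exists_gram hS.nondeg ε (u := u) hspan (τ := τ)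
    (by
      rintro (i | i)
      · change Sum.inl (- -i) = Sum.inl i; rw [neg_neg]
      · change Sum.inr (- -i) = Sum.inr i; rw [neg_neg]) (by
      rintro (i | i) (j | j)
      · change B ((g ^ (-i)) w) ((g ^ (-j)) w) = ε * B ((g ^ i) v) ((g ^ j) v)
        rw [hw _ (zpow_mem_cyc g w _) _ (zpow_mem_cyc g w _), hv _ (zpow_mem_cyc g v _) _ (zpow_mem_cyc g v _), mul_zero]
      · change B ((g ^ (-i)) w) ((g ^ (-j)) v) = ε * B ((g ^ i) v) ((g ^ j) w)
        rw [isom_swap hS.isom]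
        exact hS.symm _ _
      · change B ((g ^ (-i)) v) ((g ^ (-j)) w) = ε * B ((g ^ i) w) ((g ^ j) v)
        rw [isom_swap hS.isom]
        exact hS.symm _ _
      · change B ((g ^ (-i)) v) ((g ^ (-j)) v) = ε * B ((g ^ i) w) ((g ^ j) w)
        rw [hw _ (zpow_mem_cyc g w _) _ (zpow_mem_cyc g w _), hv _ (zpow_mem_cyc g v _) _ (zpow_mem_cyc g v _), mul_zero])
  have hl : ∀ i : ℤ, h ((g ^ i) v) = (g ^ (-i)) w := fun i => h2 (Sum.inl i)
  have hr : ∀ i : ℤ, h ((g ^ i) w) = (g ^ (-i)) v := fun i => h2 (Sum.inr i)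
  refine ⟨h, h1, inverts_of_span hspan ?_, h3, hl, hr⟩
  rintro (i | i)
  · change h (g ((g ^ i) v)) = g⁻¹ (h ((g ^ i) v))
    rw [← zpow_one_add_apply, hl, hl, inv_zpow_apply]
  · change h (g ((g ^ i) w)) = g⁻¹ (h ((g ^ i) w))
    rw [← zpow_one_add_apply, hr, hr, inv_zpow_apply]

end Cfsg.Agent.H4.SR
end

-- part: H4/SR/Lag
section
/-!
# Involutions with an invariant lagrangian subspace

* `dc_lag` : the class of a space with a lagrangian subspace;
* `lag_inverter` : determinant and spinor sign of an isometric involution with an invariant lagrangian subspace and an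
  anticommuting automorphism.
-/

set_option autoImplicit false

namespace Cfsg.Agent.H4.SR

open Module QuadraticMap
open Cfsg.Agent.LieClassical.OrthCore Cfsg.Agent.H160.QSpin Cfsg.Agent.H160.QDisc Cfsg.Agent.H160.QSplit
open Cfsg.Agent.H721.SR

variable {F V : Type*} [Field F] [AddCommGroup V] [Module F V] [FiniteDimensional F V]

/-- the class of a space with a lagrangian subspace -/
theorem dc_lag [Fintype F] [DecidableEq F] {Q : QuadraticForm F V} (hQ : Nondeg Q) {m : ℕ}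
    (hm : finrank F V = 2 * m) {L : Submodule F V} (hL : finrank F L = m)
    (hiso : ∀ x ∈ L, ∀ y ∈ L, polar Q x y = 0) : dc Q = quadraticChar F (-1) ^ m := by
  obtain ⟨s, hs⟩ := ClassicalGeometry.Discriminant.det_of_isotropic_half (polarBilin Q) (isSymm_bilin Q) m hm
    (finBasis F V) L hL hiso
  have h1 : gdet Q = (-1) ^ m * s ^ 2 := hs
  have h2 : s ≠ 0 := by
    rintro rfl
    apply gdet_ne hQ
    rw [h1]
    ring
  unfold dc
  rw [h1, mul_comm, qc_sq_mul h2, map_pow]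

theorem fixed_of_sq {h : V ≃ₗ[F] V} (hh : h * h = 1) (x : V) : h (h x) = x := by
  have : (h * h) x = x := by rw [hh]; rfl
  exact this

/-- **involutions with an invariant lagrangian subspace** -/
theorem lag_inverter [Finite V] [Fintype F] [DecidableEq F] (h2 : (2 : F) ≠ 0) {Q : QuadraticForm F V}
    (hQ : Nondeg Q) {h : V ≃ₗ[F] V} (hO : h ∈ O Q) (hh : h * h = 1) {L : Submodule F V} (hL : ∀ x ∈ L, h x ∈ L)
    (hiso : ∀ x ∈ L, ∀ y ∈ L, polar Q x y = 0) (hd : 2 * finrank F L = finrank F V) {S : Module.End F V}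
    (hS : Function.Injective S) (hSh : ∀ x, S (h x) = -(h (S x))) (hSL : ∀ x ∈ L, S x ∈ L) :
    ∃ j : ℕ, finrank F V = 4 * j ∧ dc Q = 1 ∧ LinearEquiv.det h = 1 ∧
      ((spin Q ⟨h, hO⟩ : ℤˣ) : ℤ) = quadraticChar F (-1) ^ j := by
  have hx : ∀ x, h (h x) = x := fixed_of_sq hh
  set Vp : Submodule F V := H1.EightA.Ei (h : Module.End F V) false with hVp
  set Vm : Submodule F V := H1.EightA.Ei (h : Module.End F V) true with hVm
  have mp : ∀ {x}, x ∈ Vp ↔ h x = x := by
    intro x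
    rw [hVp, H1.EightA.mem_Ei]
    simp [H1.EightA.sg]
  have mm : ∀ {x}, x ∈ Vm ↔ h x = -x := by
    intro x
    rw [hVm, H1.EightA.mem_Ei]
    simp [H1.EightA.sg]
  -- dimensions
  have s1 := H1.EightA.split h2 (⊤ : Submodule F V) (T := (h : Module.End F V)) hx (fun _ _ => trivial)
  rw [top_inf_eq, top_inf_eq, finrank_top] at s1
  have s2 := H1.EightA.split h2 L (T := (h : Module.End F V)) hx hL
  have e1 : finrank F Vp ≤ finrank F Vm := by
    apply H1.EightA.finrank_le_of_map S hS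
    intro x hx'
    rw [mm]
    have h4 := hSh x
    rw [mp.1 hx'] at h4
    exact (neg_eq_iff_eq_neg.2 h4).symm
  have e2 : finrank F Vm ≤ finrank F Vp := by
    apply H1.EightA.finrank_le_of_map S hS
    intro x hx'
    rw [mp]
    have h4 := hSh x
    rw [mm.1 hx', map_neg] at h4
    exact (neg_injective h4).symm
  have e3 : finrank F (L ⊓ Vp : Submodule F V) ≤ finrank F (L ⊓ Vm : Submodule F V) := by
    apply H1.EightA.finrank_le_of_map S hS
    rintro x ⟨hx1, hx2⟩
    refine ⟨hSL x hx1, mm.2 ?_⟩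
    have h4 := hSh x
    rw [mp.1 hx2] at h4
    exact (neg_eq_iff_eq_neg.2 h4).symm
  have e4 : finrank F (L ⊓ Vm : Submodule F V) ≤ finrank F (L ⊓ Vp : Submodule F V) := by
    apply H1.EightA.finrank_le_of_map S hS
    rintro x ⟨hx1, hx2⟩
    refine ⟨hSL x hx1, mp.2 ?_⟩
    have h4 := hSh x
    rw [mm.1 hx2, map_neg] at h4
    exact (neg_injective h4).symm
  set j := finrank F (L ⊓ Vm : Submodule F V) with hj
  have hVmj : finrank F Vm = 2 * j := by
    change _ = finrank F Vp + finrank F Vm at s1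
    change _ = finrank F (L ⊓ Vp : Submodule F V) + finrank F (L ⊓ Vm : Submodule F V) at s2
    omega
  have hVj : finrank F V = 4 * j := by
    change _ = finrank F Vp + finrank F Vm at s1
    (clear * - e1 e2 hVmj s1; omega)
  have hLj : finrank F L = 2 * j := by omega
  -- the decomposition
  have hcompl : IsCompl Vp Vm := by
    constructor
    · rw [Submodule.disjoint_def]
      intro x hx1 hx2
      have h4 := mp.1 hx1
      rw [mm.1 hx2] at h4
      have h5 : (2 : F) • x = 0 := by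
        rw [two_smul]
        nth_rw 1 [← h4]
        rw [neg_add_cancel]
      exact (smul_eq_zero.1 h5).resolve_left h2
    · rw [codisjoint_iff, eq_top_iff]
      intro x _
      have h4 : x = (2 : F)⁻¹ • (x + h x) + (2 : F)⁻¹ • (x - h x) := by
        rw [← smul_add, add_add_sub_cancel, ← two_smul F x, smul_smul, inv_mul_cancel₀ h2, one_smul]
      rw [h4]
      refine Submodule.add_mem_sup ?_ ?_
      · rw [mp, map_smul, map_add, hx, add_comm]
      · rw [mm, map_smul, map_sub, hx, ← smul_neg, neg_sub]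
  have hort : ∀ x ∈ Vp, ∀ y ∈ Vm, polar Q x y = 0 := by
    intro x hx1 y hy1
    have h4 := polar_map hO x y
    rw [mp.1 hx1, mm.1 hy1, polar_neg_right] at h4
    have h5 : (2 : F) * polar Q x y = 0 := by linear_combination -h4
    exact (mul_eq_zero.1 h5).resolve_left h2
  obtain ⟨h₁, h₂, e, he, hge, hh₁, hh₂⟩ := split_of_compl (Q := Q) (g := h) hcompl hort
    (fun x hx' => by rw [mp.1 hx']; exact hx') (fun x hx' => by rw [mm.1 hx']; exact Vm.neg_mem hx')
  have hh₁' : h₁ = 1 := by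
    ext x
    rw [hh₁]
    exact mp.1 x.2
  have hh₂' : h₂ = LinearEquiv.neg F := by
    ext x
    rw [hh₂]
    exact mm.1 x.2
  subst hh₁' hh₂'
  have hnp : Nondeg ((rs Q Vp).prod (rs Q Vm)) := he.symm.nondeg hQ
  obtain ⟨hn₁, hn₂⟩ := nondeg_of_prod hnp
  refine ⟨j, hVj, ?_, ?_, ?_⟩
  · rw [dc_lag hQ (m := 2 * j) (by omega) hLj hiso, pow_mul]
    have h4 : quadraticChar F (-1) ^ 2 = 1 := quadraticChar_sq_one (neg_ne_zero.2 one_ne_zero)
    rw [h4, one_pow]
  · rw [hge, det_cj, det_pr, map_one, one_mul, det_neg, hVmj, pow_mul]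
    simp only [_root_.even_two, _root_.Even.neg_pow, _root_.one_pow]
  · have h4 : (⟨h, hO⟩ : O Q) = ⟨cj e (pr 1 (LinearEquiv.neg F)),
        cj_mem_O he (pr_mem_O (O (rs Q Vp)).one_mem (neg_mem_O (rs Q Vm)))⟩ := Subtype.ext hge
    rw [h4, spin_cj he (pr_mem_O (O (rs Q Vp)).one_mem (neg_mem_O (rs Q Vm))),
      spin_pr_right h2 hn₂ (neg_mem_O (rs Q Vm)), spin_neg_one h2 hn₂ ⟨j, by rw [hVmj]; ring⟩]
    refine dc_lag hn₂ (m := j) hVmj (L := L.comap Vm.subtype) ?_ ?_
    · rw [← Submodule.finrank_map_subtype_eq, Submodule.map_comap_subtype, inf_comm]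
    · intro x hx1 y hy1
      exact hiso _ hx1 _ hy1

end Cfsg.Agent.H4.SR
end

-- part: H4/SR/EPiece
section
/-!
# E pieces (task SR-OODD_E)

* `epiece_cyc`  : a cyclic space for `f ^ k`, `k` even, `f` not dividing `X ^ 2 - 1`;
* `epiece_pair` : a pair for `f ^ k`, `k` even, `f` arbitrary.
In both cases the dimension is `4 j`, the class is one and `g` is inverted by an isometric involution of determinant
one and spinor sign `χ(-1) ^ j`.
-/

set_option autoImplicit false

namespace Cfsg.Agent.H4.SR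

open Module QuadraticMap Polynomial
open Cfsg.Agent.LieClassical.OrthCore Cfsg.Agent.H160.QSpin Cfsg.Agent.H160.QDisc Cfsg.Agent.H160.QSplit
open Cfsg.Agent.H721.SR

variable {F V : Type*} [Field F] [AddCommGroup V] [Module F V]

section poly

/-- the inverse is a power -/
theorem exists_inv_pow [Finite V] (g : V ≃ₗ[F] V) : ∃ m : ℕ, g⁻¹ = g ^ m := by
  have : Finite (V ≃ₗ[F] V) := Finite.of_injective (fun g : V ≃ₗ[F] V => (g : V → V)) DFunLike.coe_injective
  refine ⟨orderOf g - 1, ?_⟩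
  apply inv_eq_of_mul_eq_one_right
  rw [← pow_succ', Nat.sub_add_cancel (orderOf_pos g), pow_orderOf_eq_one]

theorem coe_pow (g : V ≃ₗ[F] V) (n : ℕ) : ((g ^ n : V ≃ₗ[F] V) : Module.End F V) = (g : Module.End F V) ^ n := en_pow g n

/-- `p(g⁻¹)` is a polynomial in `g` -/
theorem aeval_inv [Finite V] (g : V ≃ₗ[F] V) (p : F[X]) : ∃ q : F[X], ∀ n : ℕ,
    aeval ((g⁻¹ : V ≃ₗ[F] V) : Module.End F V) (p ^ n) = aeval (g : Module.End F V) (q ^ n) := by
  obtain ⟨m, hm⟩ := exists_inv_pow g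
  refine ⟨p.comp (X ^ m), fun n => ?_⟩
  have h1 : aeval ((g⁻¹ : V ≃ₗ[F] V) : Module.End F V) p = aeval (g : Module.End F V) (p.comp (X ^ m)) := by
    rw [aeval_comp, map_pow, aeval_X, hm, coe_pow]
  rw [map_pow, map_pow, h1]

theorem zpow_eq_aeval [Finite V] (g : V ≃ₗ[F] V) (i : ℤ) : ∃ p : F[X], ∀ v, (g ^ i) v = aeval (g : Module.End F V) p v := by
  obtain ⟨m, hm⟩ := exists_inv_pow g
  rcases i with n | n
  · refine ⟨X ^ n, fun v => ?_⟩
    have e2 : g ^ (Int.ofNat n) = g ^ n := zpow_natCast _ _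
    rw [e2, map_pow, aeval_X, ← coe_pow]
    rfl
  · refine ⟨X ^ (m * (n + 1)), fun v => ?_⟩
    rw [zpow_negSucc, ← inv_pow, hm, ← pow_mul, map_pow, aeval_X, ← coe_pow]
    rfl

theorem mem_cyc_iff [Finite V] (g : V ≃ₗ[F] V) {v x : V} (hx : x ∈ cyc g v) :
    ∃ p : F[X], aeval (g : Module.End F V) p v = x := by
  unfold cyc at hx
  induction hx using Submodule.span_induction with
  | mem x hx =>
    obtain ⟨i, rfl⟩ := hx
    obtain ⟨p, hp⟩ := zpow_eq_aeval g i
    exact ⟨p, (hp v).symm⟩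
  | zero => exact ⟨0, by rw [map_zero, LinearMap.zero_apply]⟩
  | add x y _ _ hx hy =>
    obtain ⟨p, rfl⟩ := hx
    obtain ⟨q, rfl⟩ := hy
    exact ⟨p + q, by rw [map_add, LinearMap.add_apply]⟩
  | smul c x _ hx =>
    obtain ⟨p, rfl⟩ := hx
    exact ⟨c • p, by rw [map_smul, LinearMap.smul_apply]⟩

theorem aeval_mem_cyc {g : V ≃ₗ[F] V} {v x : V} (p : F[X]) (hx : x ∈ cyc g v) :
    aeval (g : Module.End F V) p x ∈ cyc g v := by
  induction p using Polynomial.induction_on' with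
  | add p q hp hq =>
    rw [map_add, LinearMap.add_apply]
    exact Submodule.add_mem _ hp hq
  | monomial n c =>
    rw [aeval_monomial, Module.End.mul_apply, Module.algebraMap_end_apply]
    apply Submodule.smul_mem
    induction n with
    | zero => exact hx
    | succ n ih =>
      rw [pow_succ', Module.End.mul_apply]
      exact cyc_inv g v _ ih

theorem aeval_comm (T : Module.End F V) (p q : F[X]) (x : V) : aeval T p (aeval T q x) = aeval T q (aeval T p x) := by
  rw [← Module.End.mul_apply, ← Module.End.mul_apply, ← map_mul, ← map_mul, mul_comm]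

theorem aeval_mul_apply (T : Module.End F V) (p q : F[X]) (x : V) : aeval T (p * q) x = aeval T p (aeval T q x) := by
  rw [map_mul]; rfl

theorem cyc_inv_eq (g : V ≃ₗ[F] V) (v : V) : cyc g⁻¹ v = cyc g v := by
  unfold cyc
  congr 1
  ext x
  constructor
  · rintro ⟨i, rfl⟩
    exact ⟨-i, by change (g ^ (-i)) v = (g⁻¹ ^ i) v; rw [inv_zpow', ]⟩
  · rintro ⟨i, rfl⟩
    exact ⟨-i, by change (g⁻¹ ^ (-i)) v = (g ^ i) v; rw [inv_zpow', neg_neg]⟩

/-- half of a cyclic space -/
theorem finrank_half [Finite V] [FiniteDimensional F V] {g : V ≃ₗ[F] V} {f : F[X]} (hf : Irreducible f) {k : ℕ} {v : V}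
    (ha : Ann g v (f ^ (k + k))) :
    finrank F (cyc g v) = 2 * finrank F ((cyc g v).map (aeval (g : Module.End F V) (f ^ k))) := by
  set N := aeval (g : Module.End F V) (f ^ k) with hN
  set A := cyc g v with hA
  let N' : A →ₗ[F] V := N.domRestrict A
  have h1 := N'.finrank_range_add_finrank_ker
  have h2 : LinearMap.range N' = A.map N := by
    rw [LinearMap.range_domRestrict]
  have h3 : finrank F (LinearMap.ker N') = finrank F (A.map N) := by
    rw [← Submodule.finrank_map_subtype_eq]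
    have h4 : (LinearMap.ker N').map A.subtype = A.map N := by
      ext x
      constructor
      · rintro ⟨⟨x, hx⟩, hx2, rfl⟩
        have hx3 : N x = 0 := hx2
        obtain ⟨p, rfl⟩ := mem_cyc_iff g hx
        rw [hN, ← aeval_mul_apply] at hx3
        have h5 := (ha _).1 hx3
        rw [pow_add] at h5
        obtain ⟨q, rfl⟩ := (mul_dvd_mul_iff_left (pow_ne_zero k hf.ne_zero)).1 h5
        refine ⟨aeval (g : Module.End F V) q v, aeval_mem_cyc q (self_mem_cyc g v), ?_⟩
        change aeval (g : Module.End F V) (f ^ k) (aeval (g : Module.End F V) q v) =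
          aeval (g : Module.End F V) (f ^ k * q) v
        rw [aeval_mul_apply]
      · rintro ⟨x, hx, rfl⟩
        refine ⟨⟨N x, aeval_mem_cyc _ hx⟩, ?_, rfl⟩
        change N (N x) = 0
        obtain ⟨p, rfl⟩ := mem_cyc_iff g hx
        rw [hN, ← aeval_mul_apply, ← pow_add, aeval_comm, (ha _).2 dvd_rfl, map_zero]
    rw [h4]
  rw [h2, h3] at h1
  omega

end poly

section forms

/-- the adjoint of a polynomial -/
theorem polar_aeval {Q : QuadraticForm F V} {g : V ≃ₗ[F] V} (hg : g ∈ O Q) (p : F[X]) (x y : V) :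
    polar Q (aeval (g : Module.End F V) p x) y = polar Q x (aeval ((g⁻¹ : V ≃ₗ[F] V) : Module.End F V) p y) := by
  induction p using Polynomial.induction_on' with
  | add p q hp hq => rw [map_add, map_add, LinearMap.add_apply, LinearMap.add_apply, polar_add_left, polar_add_right, hp, hq]
  | monomial n c =>
    rw [aeval_monomial, aeval_monomial, Module.End.mul_apply, Module.End.mul_apply, Module.algebraMap_end_apply,
      Module.algebraMap_end_apply, polar_smul_left, polar_smul_right]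
    congr 1
    induction n generalizing x y with
    | zero => rfl
    | succ n ih =>
      rw [pow_succ', pow_succ, Module.End.mul_apply, Module.End.mul_apply, ← ih]
      exact polar_inv hg _ _

/-- conjugation of polynomials -/
theorem aeval_conj {g h : V ≃ₗ[F] V} (hc : h * g * h⁻¹ = g⁻¹) (p : F[X]) (x : V) :
    h (aeval (g : Module.End F V) p x) = aeval ((g⁻¹ : V ≃ₗ[F] V) : Module.End F V) p (h x) := by
  have h1 : ∀ x, h (g x) = g⁻¹ (h x) := by
    intro x
    have : h * g = g⁻¹ * h := by rw [← hc]; group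
    exact LinearEquiv.congr_fun this x
  induction p using Polynomial.induction_on' with
  | add p q hp hq => rw [map_add, map_add, LinearMap.add_apply, LinearMap.add_apply, map_add, hp, hq]
  | monomial n c =>
    rw [aeval_monomial, aeval_monomial, Module.End.mul_apply, Module.End.mul_apply, Module.algebraMap_end_apply,
      Module.algebraMap_end_apply, map_smul]
    congr 1
    induction n with
    | zero => rfl
    | succ n ih =>
      rw [pow_succ', pow_succ', Module.End.mul_apply, Module.End.mul_apply, ← ih]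
      exact h1 _

theorem conj_inv {g h : V ≃ₗ[F] V} (hc : h * g * h⁻¹ = g⁻¹) : h * g⁻¹ * h⁻¹ = g⁻¹⁻¹ := by
  have : h * g⁻¹ * h⁻¹ = (h * g * h⁻¹)⁻¹ := by group
  rw [this, hc]

theorem mem_O_of_polar (h2 : (2 : F) ≠ 0) {Q : QuadraticForm F V} {h : V ≃ₗ[F] V}
    (H : ∀ x y, polar Q (h x) (h y) = polar Q x y) : h ∈ O Q := isIso_of_polar h2 H

theorem st_of_nondeg {Q : QuadraticForm F V} (hQ : Nondeg Q) {g : V ≃ₗ[F] V} (hg : g ∈ O Q) :
    St (polarBilin Q) 1 g where
  eps := Or.inl rfl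
  symm x y := by rw [one_mul]; exact polar_comm _ _ _
  nondeg x hx := hQ x hx
  isom x y := polar_map hg x y

variable [Finite V] [Fintype F] [DecidableEq F] [FiniteDimensional F V]

/-- **cyclic E pieces** -/
theorem epiece_cyc (h2 : (2 : F) ≠ 0) {Q : QuadraticForm F V} (hQ : Nondeg Q) {g : V ≃ₗ[F] V} (hg : g ∈ O Q)
    {f : F[X]} {k : ℕ} {v : V} (hp : CPiece (polarBilin Q) g f k v) (htop : cyc g v = ⊤) (hf : ¬ f ∣ X ^ 2 - 1)
    (hk : Even k) : ∃ (j : ℕ) (s : ℤˣ), finrank F V = 4 * j ∧ dc Q = 1 ∧ (s : ℤ) = quadraticChar F (-1) ^ j ∧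
      T Q g 1 s := by
  obtain ⟨k', rfl⟩ := hk
  obtain ⟨h, hh, hc, hB, -⟩ := inverter_cyc (st_of_nondeg hQ hg) htop
  have hO : h ∈ O Q := mem_O_of_polar h2 fun x y => by
    have := hB x y
    rwa [one_mul] at this
  have hall : ∀ x : V, ∃ p : F[X], aeval (g : Module.End F V) p v = x := by
    intro x
    apply mem_cyc_iff g
    rw [htop]; trivial
  have hkill : ∀ x : V, aeval (g : Module.End F V) (f ^ (k' + k')) x = 0 := by
    intro x
    obtain ⟨p, rfl⟩ := hall x
    rw [aeval_comm, (hp.ann _).2 dvd_rfl, map_zero]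
  -- `f(g⁻¹) = f(g) q₁(g)`
  obtain ⟨q₀, hq₀⟩ := aeval_inv g f
  have hq1 : f ∣ q₀ := by
    have h3 : aeval (g : Module.End F V) (q₀ ^ (k' + k')) v = 0 := by
      rw [← hq₀]
      apply hQ
      intro y
      rw [polar_comm, ← polar_aeval hg, hkill, polar_zero_left]
    have h4 := (hp.ann _).1 h3
    exact hp.irr.prime.dvd_of_dvd_pow ((dvd_pow_self f (by have := hp.pos; omega)).trans h4)
  obtain ⟨q₁, rfl⟩ := hq1
  set N := aeval (g : Module.End F V) (f ^ k') with hN
  have hNi : ∀ x, aeval ((g⁻¹ : V ≃ₗ[F] V) : Module.End F V) (f ^ k') x = N (aeval (g : Module.End F V) (q₁ ^ k') x) := by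
    intro x
    rw [hq₀, mul_pow, aeval_mul_apply]
  have hNN : ∀ x, N (N x) = 0 := by
    intro x
    rw [hN, ← aeval_mul_apply, ← pow_add]
    exact hkill x
  set L : Submodule F V := LinearMap.range N with hL
  have hd : 2 * finrank F L = finrank F V := by
    have h3 := finrank_half hp.irr hp.ann
    rw [htop, Submodule.map_top] at h3
    rw [← finrank_top F V, h3]
  have hiso : ∀ x ∈ L, ∀ y ∈ L, polar Q x y = 0 := by
    rintro _ ⟨x, rfl⟩ _ ⟨y, rfl⟩
    rw [hN, polar_aeval hg, hNi, ← hN, aeval_comm, hNN, map_zero, polar_zero_right]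
  have hhL : ∀ x ∈ L, h x ∈ L := by
    rintro _ ⟨x, rfl⟩
    rw [hN, aeval_conj hc, hNi]
    exact ⟨_, rfl⟩
  have hginv : ∀ x, h (g x) = g⁻¹ (h x) := by
    intro x
    have : h * g = g⁻¹ * h := by rw [← hc]; group
    exact LinearEquiv.congr_fun this x
  have hginv' : ∀ x, h (g⁻¹ x) = g (h x) := by
    intro x
    have h3 := hginv (g⁻¹ x)
    have h4 : g (g⁻¹ x) = x := g.apply_symm_apply x
    rw [h4] at h3
    rw [h3]
    exact (g.apply_symm_apply _).symm
  let S : Module.End F V := (g : Module.End F V) - ((g⁻¹ : V ≃ₗ[F] V) : Module.End F V)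
  have hS : ∀ x, S x = g x - g⁻¹ x := fun x => rfl
  have hSinj : Function.Injective S := by
    rw [← LinearMap.ker_eq_bot, LinearMap.ker_eq_bot']
    intro x hx
    rw [hS, sub_eq_zero] at hx
    have h3 : g (g x) = x := by rw [hx]; exact g.apply_symm_apply x
    obtain ⟨p, rfl⟩ := hall x
    have h4 : aeval (g : Module.End F V) ((X ^ 2 - 1) * p) v = 0 := by
      rw [aeval_mul_apply, map_sub, map_pow, aeval_X, map_one, LinearMap.sub_apply, sub_eq_zero, pow_two]
      exact h3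
    have h5 := (hp.ann _).1 h4
    have h6 : IsCoprime (f ^ (k' + k')) (X ^ 2 - 1) :=
      IsCoprime.pow_left ((Irreducible.coprime_iff_not_dvd hp.irr).2 hf)
    exact (hp.ann _).2 (h6.dvd_of_dvd_mul_left h5)
  obtain ⟨j, h3, h4, h5, h6⟩ := lag_inverter h2 hQ hO hh hhL hiso hd hSinj (S := S) (by
      intro x
      rw [hS, hS, map_sub, hginv, hginv']
      abel) (by
      rintro _ ⟨x, rfl⟩
      refine ⟨S x, ?_⟩
      rw [hS, hS, map_sub]
      obtain ⟨m, hm⟩ := exists_inv_pow g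
      have e1 : ∀ x, N (g x) = g (N x) := by
        intro x
        have := aeval_comm (g : Module.End F V) (f ^ k') X x
        rwa [aeval_X] at this
      have e2 : N (g⁻¹ x) = g⁻¹ (N x) := by
        apply g.injective
        rw [← e1]
        have h7 : ∀ z, g (g⁻¹ z) = z := fun z => g.apply_symm_apply z
        rw [h7, h7]
      rw [e1, e2])
  exact ⟨j, spin Q ⟨h, hO⟩, h3, h4, h6, h, hO, hh, hc, h5, rfl⟩

/-- **pair E pieces** -/
theorem epiece_pair (h2 : (2 : F) ≠ 0) {Q : QuadraticForm F V} (hQ : Nondeg Q) {g : V ≃ₗ[F] V} (hg : g ∈ O Q)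
    {f : F[X]} {k : ℕ} {v w : V} (hp : PPiece (polarBilin Q) g f k v w) (htop : cyc g v ⊔ cyc g w = ⊤)
    (hk : Even k) : ∃ (j : ℕ) (s : ℤˣ), finrank F V = 4 * j ∧ dc Q = 1 ∧ (s : ℤ) = quadraticChar F (-1) ^ j ∧
      T Q g 1 s := by
  obtain ⟨k', rfl⟩ := hk
  obtain ⟨h, hh, hc, hB, hv, hw⟩ := inverter_pair (st_of_nondeg hQ hg) hp.isov hp.isow htop
  have hO : h ∈ O Q := mem_O_of_polar h2 fun x y => by
    have := hB x y
    rwa [one_mul] at this
  set A := cyc g v with hA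
  set A' := cyc g w with hA'
  have hcompl : IsCompl A A' := by
    constructor
    · rw [Submodule.disjoint_def]
      intro x hx hx'
      apply hQ
      intro y
      have hy : y ∈ A ⊔ A' := by rw [htop]; trivial
      obtain ⟨a, ha, b, hb, rfl⟩ := Submodule.mem_sup.1 hy
      rw [polar_add_right]
      have e1 : polar Q x a = 0 := hp.isov x hx a ha
      have e2 : polar Q x b = 0 := hp.isow x hx' b hb
      rw [e1, e2, add_zero]
    · rw [codisjoint_iff, htop]
  have hhA : ∀ x ∈ A, h x ∈ A' := by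
    have : A ≤ A'.comap (h : Module.End F V) := by
      rw [hA, cyc, Submodule.span_le]
      rintro _ ⟨i, rfl⟩
      change h ((g ^ i) v) ∈ A'
      rw [hv]
      exact zpow_mem_cyc g w _
    exact this
  have hhA' : ∀ x ∈ A', h x ∈ A := by
    have : A' ≤ A.comap (h : Module.End F V) := by
      rw [hA', cyc, Submodule.span_le]
      rintro _ ⟨i, rfl⟩
      change h ((g ^ i) w) ∈ A
      rw [hw]
      exact zpow_mem_cyc g v _
    exact this
  set N := aeval (g : Module.End F V) (f ^ k') with hN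
  set N' := aeval ((g⁻¹ : V ≃ₗ[F] V) : Module.End F V) (f ^ k') with hN'
  have hNA : ∀ x ∈ A, N x ∈ A := fun x hx => aeval_mem_cyc _ hx
  have hNA' : ∀ x ∈ A', N' x ∈ A' := by
    intro x hx
    rw [hA', ← cyc_inv_eq] at hx ⊢
    exact aeval_mem_cyc _ hx
  have hNN : ∀ x ∈ A, N (N x) = 0 := by
    intro x hx
    obtain ⟨p, rfl⟩ := mem_cyc_iff g hx
    rw [hN, ← aeval_mul_apply, ← pow_add, aeval_comm, (hp.annv _).2 dvd_rfl, map_zero]
  set L₁ := A.map N with hL₁
  set L₂ := A'.map N' with hL₂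
  have hL₁A : L₁ ≤ A := by
    rintro _ ⟨x, hx, rfl⟩
    exact hNA x hx
  have hL₂A : L₂ ≤ A' := by
    rintro _ ⟨x, hx, rfl⟩
    exact hNA' x hx
  set L : Submodule F V := L₁ ⊔ L₂ with hL
  have hd : 2 * finrank F L = finrank F V := by
    have h3 : finrank F A = 2 * finrank F L₁ := finrank_half hp.irr hp.annv
    have h4 : finrank F A' = 2 * finrank F L₂ := by
      have := finrank_half hp.irr hp.annw
      rwa [cyc_inv_eq] at this
    have h5 := Submodule.finrank_add_eq_of_isCompl hcompl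
    have h6 := Submodule.finrank_sup_add_finrank_inf_eq L₁ L₂
    have h7 : L₁ ⊓ L₂ = ⊥ := by
      rw [eq_bot_iff]
      intro x hx
      exact (Submodule.disjoint_def.1 hcompl.disjoint) x (hL₁A hx.1) (hL₂A hx.2)
    rw [h7, finrank_bot, ← hL] at h6
    omega
  have c12 : ∀ x ∈ L₁, ∀ y ∈ L₂, polar Q x y = 0 := by
    rintro _ ⟨x, hx, rfl⟩ _ ⟨y, hy, rfl⟩
    rw [hN', ← polar_aeval hg, ← hN, hNN x hx, polar_zero_left]
  have c11 : ∀ x ∈ L₁, ∀ y ∈ L₁, polar Q x y = 0 := fun x hx y hy => hp.isov x (hL₁A hx) y (hL₁A hy)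
  have c22 : ∀ x ∈ L₂, ∀ y ∈ L₂, polar Q x y = 0 := fun x hx y hy => hp.isow x (hL₂A hx) y (hL₂A hy)
  have hiso : ∀ x ∈ L, ∀ y ∈ L, polar Q x y = 0 := by
    intro x hx y hy
    obtain ⟨a, ha, b, hb, rfl⟩ := Submodule.mem_sup.1 hx
    obtain ⟨c, hc', d, hd', rfl⟩ := Submodule.mem_sup.1 hy
    rw [polar_add_left, polar_add_right, polar_add_right, c11 a ha c hc', c12 a ha d hd', polar_comm Q b c,
      c12 c hc' b hb, c22 b hb d hd']
    ring
  have hhL : ∀ x ∈ L, h x ∈ L := by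
    intro x hx
    obtain ⟨_, ⟨a, ha, rfl⟩, _, ⟨b, hb, rfl⟩, rfl⟩ := Submodule.mem_sup.1 hx
    rw [map_add]
    refine L.add_mem (Submodule.mem_sup_right ⟨h a, hhA a ha, ?_⟩) (Submodule.mem_sup_left ⟨h b, hhA' b hb, ?_⟩)
    · rw [hN, aeval_conj hc]
    · rw [hN', aeval_conj (conj_inv hc)]
      have : (g⁻¹⁻¹ : V ≃ₗ[F] V) = g := inv_inv g
      rw [this]
  let e := Submodule.prodEquivOfIsCompl A A' hcompl
  let S : Module.End F V := (e : (A × A') →ₗ[F] V) ∘ₗ
    (LinearMap.prodMap LinearMap.id (-LinearMap.id)) ∘ₗ (e.symm : V →ₗ[F] (A × A'))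
  have he : ∀ (a : A) (b : A'), e (a, b) = a + b := fun a b => Submodule.coe_prodEquivOfIsCompl' A A' hcompl (a, b)
  have hSab : ∀ a ∈ A, ∀ b ∈ A', S (a + b) = a - b := by
    intro a ha b hb
    have h3 : e.symm (a + b) = (⟨a, ha⟩, ⟨b, hb⟩) := by
      rw [LinearEquiv.symm_apply_eq, he]
    change e (LinearMap.prodMap LinearMap.id (-LinearMap.id) (e.symm (a + b))) = a - b
    rw [h3]
    change e (⟨a, ha⟩, -⟨b, hb⟩) = a - b
    rw [he, Submodule.coe_neg, sub_eq_add_neg]
  have hdec : ∀ x : V, ∃ a ∈ A, ∃ b ∈ A', x = a + b := by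
    intro x
    have hx : x ∈ A ⊔ A' := by rw [htop]; trivial
    obtain ⟨a, ha, b, hb, rfl⟩ := Submodule.mem_sup.1 hx
    exact ⟨a, ha, b, hb, rfl⟩
  have hSS : ∀ x, S (S x) = x := by
    intro x
    obtain ⟨a, ha, b, hb, rfl⟩ := hdec x
    rw [hSab a ha b hb, sub_eq_add_neg, hSab a ha (-b) (A'.neg_mem hb)]
    abel
  obtain ⟨j, h3, h4, h5, h6⟩ := lag_inverter h2 hQ hO hh hhL hiso hd (S := S)
    (fun x y hxy => by rw [← hSS x, hxy, hSS]) (by
      intro x
      obtain ⟨a, ha, b, hb, rfl⟩ := hdec x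
      rw [hSab a ha b hb, map_add, map_sub, add_comm (h a), hSab _ (hhA' b hb) _ (hhA a ha)]
      abel) (by
      intro x hx
      obtain ⟨a, ha, b, hb, rfl⟩ := Submodule.mem_sup.1 hx
      rw [hSab a (hL₁A ha) b (hL₂A hb)]
      exact L.sub_mem (Submodule.mem_sup_left ha) (Submodule.mem_sup_right hb))
  exact ⟨j, spin Q ⟨h, hO⟩, h3, h4, h6, h, hO, hh, hc, h5, rfl⟩

end forms

end Cfsg.Agent.H4.SR
end

-- part: H164/SR/OddRows
section
/-!
# TEAM SR (S4971, S4970), task SR-OODD_R: orthogonal groups, `q` odd, the strongly real rows (helper164)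

* `sr_omega`, `sr_pomega` : from `T Q g 1 1` to `SR` in `Ω(Q)`, `PΩ(Q)`;
* `dc_plusForm`, `dc_minusForm'` : the classes of the forms;
* `Dec F` : the statement of the task SR-OODD_D (the three corollaries);
* `sr_odd_one`, `sr_odd_nine`, `sr_plus_one`, `sr_plus_eight`, `sr_minus` : the rows;
* `rr_oodd`, `rr_oplus`, `rr_ominus` : assembly of the orthogonal families.
-/

set_option autoImplicit false
set_option linter.unusedSectionVars false

namespace Cfsg.Agent.H164.SRO

open QuadraticMap Module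
open Cfsg.Agent.LieClassical.OrthCore Cfsg.Agent.LieClassical.OrthFinite Cfsg.Agent.LieClassical.OrthForms
open Cfsg.Agent.H160.QSpin Cfsg.Agent.H160.QDisc Cfsg.Agent.H160.QFinal Cfsg.Agent.H160.QSemi
open Cfsg.Agent.H721.SR

universe u v

section general

variable {F : Type u} [Field F] [Finite F] {ι : Type} [Fintype ι] [DecidableEq ι]

theorem sr_omega (h2 : (2 : F) ≠ 0) {Q : QuadraticForm F (ι → F)} (hQ : Nondeg Q) (hd : 5 ≤ Fintype.card ι)
    (x : Cfsg.Omega F ⇑Q) (h : T Q (lin Q x) 1 1) : SR x := by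
  obtain ⟨h, hO, hh, hi, hdet, hs⟩ := h
  obtain ⟨t, rfl⟩ := exists_lin h2 hQ hd ⟨hO, hdet, hs⟩
  refine ⟨t, lin_injective Q (by rw [map_mul, hh, map_one]), lin_injective Q ?_⟩
  rw [map_mul, map_mul, map_inv, map_inv, hi]

/-- **From `T Q g 1 1` to the group.** -/
theorem sr_pomega (h2 : (2 : F) ≠ 0) {Q : QuadraticForm F (ι → F)} (hQ : Nondeg Q) (hd : 5 ≤ Fintype.card ι)
    (hT : ∀ g : (ι → F) ≃ₗ[F] (ι → F), El Q 1 g → T Q g 1 1) (x : Cfsg.POmega F ⇑Q) : SR x := by
  obtain ⟨y, rfl⟩ := QuotientGroup.mk'_surjective _ x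
  exact (sr_omega h2 hQ hd y (hT _ (el_lin h2 hQ hd y))).map (QuotientGroup.mk' _)

/-- the odd-dimensional groups -/
theorem sr_odd_of (h2 : (2 : F) ≠ 0) {m : ℕ} (hm : 2 ≤ m)
    (hT : ∀ g : (Unit ⊕ (Fin m ⊕ Fin m) → F) ≃ₗ[F] (Unit ⊕ (Fin m ⊕ Fin m) → F),
      El (oddForm m F) 1 g → T (oddForm m F) g 1 1) (x : Cfsg.POmega F (Cfsg.quadFormOdd m F)) : SR x := by
  revert x
  rw [← coe_oddForm m F]
  intro x
  exact sr_pomega h2 (nondeg_oddForm m F h2) (by simp only [_root_.Fintype.card_sum, _root_.Fintype.card_unique, _root_.Fintype.card_fin]; omega) hT x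

/-- the groups of plus type -/
theorem sr_plus_of (h2 : (2 : F) ≠ 0) {m : ℕ} (hm : 3 ≤ m)
    (hT : ∀ g : (Fin m ⊕ Fin m → F) ≃ₗ[F] (Fin m ⊕ Fin m → F),
      El (plusForm m F) 1 g → T (plusForm m F) g 1 1) (x : Cfsg.POmega F (Cfsg.quadFormPlus m F)) : SR x := by
  revert x
  rw [← coe_plusForm m F]
  intro x
  exact sr_pomega h2 (nondeg_plusForm m F) (by simp only [_root_.Fintype.card_sum, _root_.Fintype.card_fin]; omega) hT x

/-- the groups of minus type -/
theorem sr_minus_of (h2 : (2 : F) ≠ 0) {m : ℕ} (hm : 2 ≤ m) {a b : F}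
    (hab : ∀ z₁ z₂ : F, z₁ ^ 2 + a * z₁ * z₂ + b * z₂ ^ 2 = 0 → z₁ = 0 ∧ z₂ = 0)
    (hT : ∀ g : ((Fin m ⊕ Fin m) ⊕ Fin 2 → F) ≃ₗ[F] ((Fin m ⊕ Fin m) ⊕ Fin 2 → F),
      El (minusForm m F a b) 1 g → T (minusForm m F a b) g 1 1)
    (x : Cfsg.POmega F (Cfsg.quadFormMinus m F a b)) : SR x := by
  revert x
  rw [← coe_minusForm m F]
  intro x
  exact sr_pomega h2 (nondeg_minusForm m F a b hab) (by simp only [_root_.Fintype.card_sum, _root_.Fintype.card_fin, _root_.Nat.reduceLeDiff]; omega) hT x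

end general

section disc

variable {F : Type u} [Field F] [Fintype F] [DecidableEq F]

theorem chi_sq : quadraticChar F (-1) ^ 2 = 1 := quadraticChar_sq_one (neg_ne_zero.2 one_ne_zero)

theorem dc_minusForm' (h2 : (2 : F) ≠ 0) (m : ℕ) {a b : F}
    (hab : ∀ z₁ z₂ : F, z₁ ^ 2 + a * z₁ * z₂ + b * z₂ ^ 2 = 0 → z₁ = 0 ∧ z₂ = 0) :
    dc (minusForm m F a b) = - quadraticChar F (-1) ^ (m + 1) := by
  let e : (((Fin m → F) × (Fin m → F)) × (Fin 2 → F)) ≃ₗ[F] ((Fin m ⊕ Fin m) ⊕ Fin 2 → F) :=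
    ((LinearEquiv.sumArrowLequivProdArrow (Fin m) (Fin m) F F).symm.prodCongr (LinearEquiv.refl F _)).trans
      (LinearEquiv.sumArrowLequivProdArrow (Fin m ⊕ Fin m) (Fin 2) F F).symm
  have he : IsIso ((hyp F m).prod (binF a b)) (minusForm m F a b) e := by
    rintro ⟨⟨x, y⟩, z⟩
    rw [coe_minusForm, quadFormMinus_apply, QuadraticMap.prod_apply, binF_apply]
    rfl
  rw [dc_iso he, dc_prod, dc_hyp, dc_binF]
  have h3 : quadraticChar F (4 * b - a ^ 2) = quadraticChar F (-1) * quadraticChar F (a ^ 2 - 4 * b) := by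
    rw [← map_mul]
    congr 1
    ring
  rw [h3, minus_disc h2 hab]
  ring

theorem dc_minus_four (h2 : (2 : F) ≠ 0) {n : ℕ} (hn : 1 ≤ n) {a b : F}
    (hab : ∀ z₁ z₂ : F, z₁ ^ 2 + a * z₁ * z₂ + b * z₂ ^ 2 = 0 → z₁ = 0 ∧ z₂ = 0) :
    dc (minusForm (2 * n - 1) F a b) = -1 := by
  rw [dc_minusForm' h2 _ hab, show 2 * n - 1 + 1 = 2 * n by omega, pow_mul, chi_sq, one_pow]

theorem chi_eq_one (h : Fintype.card F % 4 ≠ 3) : quadraticChar F (-1) = 1 := by
  rw [quadraticChar_one_iff_isSquare (neg_ne_zero.2 one_ne_zero)]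
  exact FiniteField.isSquare_neg_one_iff.2 h

end disc

section dec

/-- the result of the task SR-OODD_D: the three corollaries of the decomposition theorem -/
def Dec (F : Type u) [Field F] [Fintype F] [DecidableEq F] : Prop :=
  ∀ (V : Type u) [AddCommGroup V] [Module F V] [FiniteDimensional F V] [Finite V] (Q : QuadraticForm F V),
    Nondeg Q → (Odd (finrank F V) ∨ 4 ∣ finrank F V) →
    (quadraticChar F (-1) = 1 ∨ (4 ∣ finrank F V ∧ dc Q = -1) ∨ finrank F V = 8 ∨ finrank F V = 9) →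
    ∀ g : V ≃ₗ[F] V, El Q 1 g → T Q g 1 1

variable {F : Type u} [Field F] [Fintype F] [DecidableEq F]

theorem two_ne (ho : Odd (Fintype.card F)) : (2 : F) ≠ 0 := by
  intro h
  have hc : CharP F 2 := CharTwo.of_one_ne_zero_of_two_eq_zero one_ne_zero h
  have h3 := FiniteField.even_card_of_char_two (F := F) (ringChar.eq F 2 |>.symm ▸ rfl)
  rw [Nat.odd_iff] at ho
  omega

/-- `PΩ_{2m+1}(q)`, `q ≡ 1 mod 4` -/
theorem sr_odd_one (hD : Dec F) (hF : Fintype.card F % 4 = 1) {m : ℕ} (hm : 2 ≤ m)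
    (x : Cfsg.POmega F (Cfsg.quadFormOdd m F)) : SR x := by
  have h2 : (2 : F) ≠ 0 := two_ne (by rw [Nat.odd_iff]; omega)
  refine sr_odd_of h2 hm (hD _ _ (nondeg_oddForm m F h2) (Or.inl ?_) (Or.inl (chi_eq_one (by omega)))) x
  rw [Module.finrank_fintype_fun_eq_card]
  simp only [Fintype.card_sum, Fintype.card_fin, Fintype.card_unit]
  exact ⟨m, by ring⟩

/-- `PΩ_9(q)`, `q` odd -/
theorem sr_odd_nine (hD : Dec F) (hF : Odd (Fintype.card F)) (x : Cfsg.POmega F (Cfsg.quadFormOdd 4 F)) : SR x := by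
  have h2 : (2 : F) ≠ 0 := two_ne hF
  have h9 : finrank F (Unit ⊕ (Fin 4 ⊕ Fin 4) → F) = 9 := by
    rw [Module.finrank_fintype_fun_eq_card]
    simp
  refine sr_odd_of h2 (by norm_num) (hD _ _ (nondeg_oddForm 4 F h2) (Or.inl ?_) (Or.inr (Or.inr (Or.inr h9)))) x
  rw [h9]
  decide

/-- `PΩ⁺_{4n}(q)`, `q ≡ 1 mod 4` -/
theorem sr_plus_one (hD : Dec F) (hF : Fintype.card F % 4 = 1) {n : ℕ} (hn : 2 ≤ n)
    (x : Cfsg.POmega F (Cfsg.quadFormPlus (2 * n) F)) : SR x := by
  have h2 : (2 : F) ≠ 0 := two_ne (by rw [Nat.odd_iff]; omega)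
  refine sr_plus_of h2 (by omega) (hD _ _ (nondeg_plusForm (2 * n) F) (Or.inr ?_) (Or.inl (chi_eq_one (by omega)))) x
  rw [Module.finrank_fintype_fun_eq_card]
  simp only [Fintype.card_sum, Fintype.card_fin]
  exact ⟨n, by ring⟩

/-- `PΩ⁺_8(q)`, `q` odd -/
theorem sr_plus_eight (hD : Dec F) (hF : Odd (Fintype.card F)) (x : Cfsg.POmega F (Cfsg.quadFormPlus 4 F)) : SR x := by
  have h2 : (2 : F) ≠ 0 := two_ne hF
  have h8 : finrank F (Fin 4 ⊕ Fin 4 → F) = 8 := by
    rw [Module.finrank_fintype_fun_eq_card]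
    simp
  refine sr_plus_of h2 (by norm_num) (hD _ _ (nondeg_plusForm 4 F) (Or.inr ?_) (Or.inr (Or.inr (Or.inl h8)))) x
  rw [h8]
  norm_num

/-- `PΩ⁻_{4n}(q)`, `q` odd -/
theorem sr_minus (hD : Dec F) (hF : Odd (Fintype.card F)) {n : ℕ} (hn : 2 ≤ n) {a b : F}
    (hab : ∀ z₁ z₂ : F, z₁ ^ 2 + a * z₁ * z₂ + b * z₂ ^ 2 = 0 → z₁ = 0 ∧ z₂ = 0)
    (x : Cfsg.POmega F (Cfsg.quadFormMinus (2 * n - 1) F a b)) : SR x := by
  have h2 : (2 : F) ≠ 0 := two_ne hF
  have h4 : 4 ∣ finrank F ((Fin (2 * n - 1) ⊕ Fin (2 * n - 1)) ⊕ Fin 2 → F) := by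
    rw [Module.finrank_fintype_fun_eq_card]
    simp only [Fintype.card_sum, Fintype.card_fin]
    exact ⟨n, by omega⟩
  exact sr_minus_of h2 (by omega) hab (hD _ _ (nondeg_minusForm _ F a b hab) (Or.inr h4)
    (Or.inr (Or.inl ⟨h4, dc_minus_four h2 (by omega) hab⟩))) x

end dec

/-! ### assembly of the orthogonal families -/

section assembly

/-- the hypothesis `Dec` for all fields -/
def DecAll : Prop := ∀ (F : Type) [Field F] [Fintype F] [DecidableEq F], Odd (Fintype.card F) → Dec F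

/-- **`PΩ_{2m+1}(q)`, `q` odd, `m ≥ 3`.** -/
theorem rr_oodd {S : Type v} [Group S] (h : Cfsg.IsPOmegaOdd S) (hD : DecAll)
    (hN : ∀ (F : Type) [Field F] [Fintype F] (m : ℕ), 3 ≤ m → m ≠ 4 → Fintype.card F % 4 = 3 →
      NRel (Cfsg.POmega F (Cfsg.quadFormOdd m F))) : RR S := by
  classical
  obtain ⟨F, _, _, m, hm, hF, ⟨e⟩⟩ := h
  refine RR.congr e.symm ?_
  have hF' := Nat.odd_iff.1 hF
  rcases (by omega : Fintype.card F % 4 = 1 ∨ Fintype.card F % 4 = 3) with h1 | h3
  · exact RR.of_sr (sr_odd_one (hD F hF) h1 (by omega))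
  · by_cases h4 : m = 4
    · subst h4
      exact RR.of_sr (sr_odd_nine (hD F hF) hF)
    · exact RR.of_nrel (hN F m hm h4 h3)

/-- **`PΩ⁺_{2m}(q)`, `m ≥ 4`.** -/
theorem rr_oplus {S : Type v} [Group S] (h : Cfsg.IsPOmegaPlus S) (hD : DecAll)
    (hodd : ∀ (F : Type) [Field F] [Fintype F] (m : ℕ), 5 ≤ m → Odd m → NRel (Cfsg.POmega F (Cfsg.quadFormPlus m F)))
    (heven : ∀ (F : Type) [Field F] [Fintype F] (n : ℕ), 2 ≤ n → Even (Fintype.card F) →
      ∀ x : Cfsg.POmega F (Cfsg.quadFormPlus (2 * n) F), SR x)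
    (hN : ∀ (F : Type) [Field F] [Fintype F] (n : ℕ), 3 ≤ n → Fintype.card F % 4 = 3 →
      NRel (Cfsg.POmega F (Cfsg.quadFormPlus (2 * n) F))) : RR S := by
  classical
  obtain ⟨F, _, _, m, hm, ⟨e⟩⟩ := h
  refine RR.congr e.symm ?_
  rcases Nat.even_or_odd m with hme | hmo
  · obtain ⟨n, rfl⟩ := even_iff_two_dvd.1 hme
    rcases Nat.even_or_odd (Fintype.card F) with hF | hF
    · exact RR.of_sr (heven F n (by omega) hF)
    · have hF' := Nat.odd_iff.1 hF
      rcases (by omega : Fintype.card F % 4 = 1 ∨ Fintype.card F % 4 = 3) with h1 | h3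
      · exact RR.of_sr (sr_plus_one (hD F hF) h1 (by omega))
      · by_cases h4 : n = 2
        · subst h4
          exact RR.of_sr (sr_plus_eight (hD F hF) hF)
        · exact RR.of_nrel (hN F n (by omega) h3)
  · exact RR.of_nrel (hodd F m (by obtain ⟨c, rfl⟩ := hmo; omega) hmo)

/-- **`PΩ⁻_{2m}(q)`, `m ≥ 4`.** -/
theorem rr_ominus {S : Type v} [Group S] (h : Cfsg.IsPOmegaMinus S) (hD : DecAll)
    (hodd : ∀ (F : Type) [Field F] [Fintype F] (m : ℕ) (a b : F), 5 ≤ m → Odd m →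
      (∀ z₁ z₂ : F, z₁ ^ 2 + a * z₁ * z₂ + b * z₂ ^ 2 = 0 → z₁ = 0 ∧ z₂ = 0) →
      NRel (Cfsg.POmega F (Cfsg.quadFormMinus (m - 1) F a b)))
    (heven : ∀ (F : Type) [Field F] [Fintype F] (n : ℕ) (a b : F), 2 ≤ n → Even (Fintype.card F) →
      (∀ z₁ z₂ : F, z₁ ^ 2 + a * z₁ * z₂ + b * z₂ ^ 2 = 0 → z₁ = 0 ∧ z₂ = 0) →
      ∀ x : Cfsg.POmega F (Cfsg.quadFormMinus (2 * n - 1) F a b), SR x) : RR S := by
  classical
  obtain ⟨F, _, _, m, a, b, hm, hab, ⟨e⟩⟩ := h
  refine RR.congr e.symm ?_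
  rcases Nat.even_or_odd m with hme | hmo
  · obtain ⟨n, rfl⟩ := even_iff_two_dvd.1 hme
    rcases Nat.even_or_odd (Fintype.card F) with hF | hF
    · exact RR.of_sr (heven F n a b (by omega) hF hab)
    · exact RR.of_sr (sr_minus (hD F hF) hF (by omega) hab)
  · exact RR.of_nrel (hodd F m a b (by obtain ⟨c, rfl⟩ := hmo; omega) hmo hab)

end assembly

end Cfsg.Agent.H164.SRO
end

private theorem dce_04eaaee3fe8f : _root_.True := by
  try have : _root_.True := by simp only [_root_.Cfsg.Agent.H853.SR.Tri.n.eq_1]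
  try have : _root_.True := by simp only [_root_.Cfsg.Agent.H721.SR.cyc.eq_1]
  try have : _root_.True := by simp only [_root_.Cfsg.Agent.H853.SR.sg.eq_1]
  exact _root_.True.intro
end

-- part: H721/SR/DecF
section
prune_inst 0xe00002005820000000000000000000000000000200000000000004000108000000000000028000101000000000000020001000000000000000000000000000000000100000000000000000000000000000000000020000000000000000000000000000000
set_option linter.all false
open scoped Cfsg.Agent.FastGrp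

-- part: H382/SRJ
section
/-!
# TEAM SR, J pieces (helper382): Gram bases of alternating-sign antidiagonal type

* `Gr Q b c` : `polar Q (b i) (b j) = (-1)^i c` for `j = i.rev`, zero otherwise;
* `Gr.dc` : the class is the quadratic character of `c ^ a`;
* `dg b d` : the diagonal automorphism `b i ↦ d i • b i`;
* `spin_dg` : its spinor sign.
-/

set_option autoImplicit false

namespace Cfsg.Agent.H382.SRJ

open QuadraticMap Module
open Cfsg.Agent.LieClassical.OrthCore Cfsg.Agent.H160.QSpin Cfsg.Agent.H160.QDisc Cfsg.Agent.H160.QSplit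

variable {F V W : Type*} [Field F] [AddCommGroup V] [Module F V] [AddCommGroup W] [Module F W]

/-- Gram basis -/
def Gr (Q : QuadraticForm F V) {a : ℕ} (b : Basis (Fin a) F V) (c : F) : Prop :=
  ∀ i j, polar Q (b i) (b j) = if j = i.rev then (-1) ^ (i : ℕ) * c else 0

/-- the determinant of the Gram matrix -/
theorem det_anti (a : ℕ) (c : F) :
    (Matrix.of fun i j : Fin a => if j = i.rev then (-1) ^ (i : ℕ) * c else (0 : F)).det = c ^ a := by
  have h1 : (Matrix.of fun i j : Fin a => if j = i.rev then (-1) ^ (i : ℕ) * c else (0 : F)) =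
      (Matrix.diagonal fun i : Fin a => (-1) ^ (i : ℕ) * c).submatrix id Fin.revPerm := by
    ext i j
    rw [Matrix.submatrix_apply, Matrix.of_apply, Matrix.diagonal_apply, id, Fin.revPerm_apply]
    congr 1
    rw [eq_iff_iff]
    exact ⟨fun h => by rw [h, Fin.rev_rev], fun h => by rw [h, Fin.rev_rev]⟩
  have h2 : Equiv.Perm.sign (Fin.revPerm : Equiv.Perm (Fin a)) = ∏ j : Fin a, (-1 : ℤˣ) ^ (j : ℕ) := by
    rw [Equiv.Perm.sign_eq_prod_prod_Iio]
    refine Finset.prod_congr rfl fun j _ => ?_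
    rw [Finset.prod_congr rfl (g := fun _ => (-1 : ℤˣ)), Finset.prod_const, Fin.card_Iio]
    intro i hi
    rw [Finset.mem_Iio] at hi
    rw [if_neg]
    rw [Fin.revPerm_apply, Fin.revPerm_apply, Fin.rev_lt_rev, not_lt]
    exact hi.le
  rw [h1, Matrix.det_permute', Matrix.det_diagonal, h2, Finset.prod_mul_distrib, Finset.prod_const,
    Finset.card_univ, Fintype.card_fin]
  push_cast
  rw [← mul_assoc, ← Finset.prod_mul_distrib, Finset.prod_congr rfl (g := fun _ => (1 : F)), Finset.prod_const_one,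
    one_mul]
  intro i _
  rw [← mul_pow, neg_one_mul, neg_neg, one_pow]

section Gr

variable {Q : QuadraticForm F V} {a : ℕ} {b : Basis (Fin a) F V} {c : F}

theorem Gr.dc_eq_pow [FiniteDimensional F V] [Fintype F] [DecidableEq F] (h : Gr Q b c) :
    dc Q = quadraticChar F (c ^ a) := by
  rw [dc_eq b Q, ← det_anti a c]
  congr 2
  ext i j
  rw [LinearMap.BilinForm.toMatrix_apply, Matrix.of_apply]
  exact h i j

theorem Gr.dc_odd [FiniteDimensional F V] [Fintype F] [DecidableEq F] (h : Gr Q b c) (hc : c ≠ 0) (ha : Odd a) :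
    dc Q = quadraticChar F c := by
  rw [h.dc_eq_pow, map_pow]
  obtain ⟨k, rfl⟩ := ha
  rw [pow_succ, pow_mul, quadraticChar_sq_one hc, one_pow, one_mul]

theorem Gr.ne_zero [NeZero a] (h : Gr Q b c) (hQ : Nondeg Q) : c ≠ 0 := by
  rintro rfl
  have h1 : b 0 = 0 := by
    apply hQ
    intro y
    rw [← b.sum_repr y]
    have h2 : polar Q (b 0) (∑ k, b.repr y k • b k) = ∑ k, b.repr y k * polar Q (b 0) (b k) := by
      have := map_sum (polarBilin Q (b 0)) (fun k => b.repr y k • b k) Finset.univ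
      refine this.trans (Finset.sum_congr rfl fun k _ => ?_)
      rw [map_smul]
      rfl
    rw [h2]
    refine Finset.sum_eq_zero fun k _ => ?_
    rw [h]
    simp
  exact b.ne_zero 0 h1

end Gr

/-! ### Diagonal automorphisms -/

section Dg

variable {ι : Type*} (b : Basis ι F V)

/-- the diagonal automorphism -/
noncomputable def dgf (d : ι → Fˣ) : V ≃ₗ[F] V := b.equiv (b.unitsSMul d) (Equiv.refl _)

theorem dgf_apply (d : ι → Fˣ) (i : ι) : dgf b d (b i) = (d i : F) • b i := by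
  rw [dgf, Basis.equiv_apply, Basis.unitsSMul_apply]
  rfl

/-- the diagonal automorphisms as a homomorphism -/
noncomputable def dg : (ι → Fˣ) →* (V ≃ₗ[F] V) where
  toFun := dgf b
  map_one' := by
    apply en_inj
    apply b.ext
    intro i
    show dgf b 1 (b i) = b i
    rw [dgf_apply, Pi.one_apply, Units.val_one, one_smul]
  map_mul' d d' := by
    apply en_inj
    apply b.ext
    intro i
    show dgf b (d * d') (b i) = dgf b d (dgf b d' (b i))
    rw [dgf_apply, dgf_apply, LinearEquiv.map_smul, dgf_apply, Pi.mul_apply, Units.val_mul, smul_smul, mul_comm]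

theorem dg_apply (d : ι → Fˣ) (i : ι) : dg b d (b i) = (d i : F) • b i := dgf_apply b d i

theorem dg_unique {g : V ≃ₗ[F] V} {d : ι → Fˣ} (h : ∀ i, g (b i) = (d i : F) • b i) : dg b d = g := by
  apply en_inj
  apply b.ext
  intro i
  exact (dg_apply b d i).trans (h i).symm

theorem det_dg [Fintype ι] [DecidableEq ι] (d : ι → Fˣ) : LinearEquiv.det (dg b d) = ∏ i, d i := by
  apply Units.ext
  rw [LinearEquiv.coe_det, ← LinearMap.det_toMatrix b, Units.coe_prod, ← Matrix.det_diagonal]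
  congr 1
  ext i j
  rw [LinearMap.toMatrix_apply, LinearEquiv.coe_coe, dg_apply, map_smul, Basis.repr_self, Finsupp.smul_single,
    Finsupp.single_apply, Matrix.diagonal_apply]
  by_cases h : i = j
  · rw [if_pos h, if_pos h.symm, h, smul_eq_mul, mul_one]
  · rw [if_neg h, if_neg (Ne.symm h)]

end Dg

/-! ### The spinor sign of diagonal isometries -/

/-- `d i.rev = (d i)⁻¹` -/
def RG (F : Type*) [Field F] (a : ℕ) : Subgroup (Fin a → Fˣ) where
  carrier := {d | ∀ i, d i.rev * d i = 1}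
  mul_mem' := by
    intro x y hx hy i
    show x i.rev * y i.rev * (x i * y i) = 1
    rw [mul_mul_mul_comm, hx i, hy i, one_mul]
  one_mem' := fun i => mul_one 1
  inv_mem' := by
    intro x hx i
    show (x i.rev)⁻¹ * (x i)⁻¹ = 1
    rw [← mul_inv, hx i, inv_one]

section Spin

variable {Q : QuadraticForm F V} {a : ℕ} {b : Basis (Fin a) F V} {c : F}

theorem polar_ext {g : V ≃ₗ[F] V} (h : ∀ i j, polar Q (g (b i)) (g (b j)) = polar Q (b i) (b j)) (x y : V) :
    polar Q (g x) (g y) = polar Q x y := by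
  have h5 : LinearMap.BilinForm.comp (polarBilin Q) (g : V →ₗ[F] V) (g : V →ₗ[F] V) = polarBilin Q := by
    apply LinearMap.BilinForm.ext_basis b
    intro i j
    exact h i j
  exact congrArg (fun B : LinearMap.BilinForm F V => B x y) h5

theorem mem_O_of_basis (h2 : (2 : F) ≠ 0) {g : V ≃ₗ[F] V}
    (h : ∀ i j, polar Q (g (b i)) (g (b j)) = polar Q (b i) (b j)) : g ∈ O Q :=
  isIso_of_polar h2 (polar_ext h)

theorem dg_mem (h2 : (2 : F) ≠ 0) (h : Gr Q b c) {d : Fin a → Fˣ} (hd : d ∈ RG F a) : dg b d ∈ O Q := by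
  apply mem_O_of_basis (b := b) h2
  intro i j
  rw [dg_apply, dg_apply, polar_smul_left, polar_smul_right, h i j]
  by_cases hij : j = i.rev
  · rw [if_pos hij, hij]
    have h1 : ((d i.rev : Fˣ) : F) * ((d i : Fˣ) : F) = 1 := by
      rw [← Units.val_mul, hd i, Units.val_one]
    simp only [smul_eq_mul]
    linear_combination ((-1) ^ (i : ℕ) * c) * h1
  · rw [if_neg hij, smul_zero, smul_zero]

/-- diagonal isometries -/
noncomputable def dgO (h2 : (2 : F) ≠ 0) (h : Gr Q b c) : RG F a →* O Q where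
  toFun d := ⟨dg b d, dg_mem h2 h d.2⟩
  map_one' := Subtype.ext (map_one (dg b))
  map_mul' _ _ := Subtype.ext (map_mul (dg b) _ _)

/-- `t` in position `i`, `t⁻¹` in position `i.rev` -/
noncomputable def Ei {a : ℕ} (i : Fin a) (t : Fˣ) : Fin a → Fˣ := fun j => (if j = i then t else 1) * (if j = i.rev then t else 1)⁻¹

theorem Ei_mem {a : ℕ} (i : Fin a) (t : Fˣ) : Ei i t ∈ RG F a := by
  intro j
  unfold Ei
  have e1 : (j.rev = i) ↔ (j = i.rev) := ⟨fun h => by rw [← h, Fin.rev_rev], fun h => by rw [h, Fin.rev_rev]⟩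
  have e2 : (j.rev = i.rev) ↔ (j = i) := Fin.rev_inj
  simp only [e1, e2]
  generalize (if j = i then t else 1) = A
  generalize (if j = i.rev then t else 1) = B
  group

theorem Q_b_eq_zero (h2 : (2 : F) ≠ 0) (h : Gr Q b c) {i : Fin a} (hi : i.rev ≠ i) : Q (b i) = 0 := by
  have h1 := two_mul_Q Q (b i)
  have h3 : polarBilin Q (b i) (b i) = 0 := by
    show polar Q (b i) (b i) = 0
    rw [h, if_neg (Ne.symm hi)]
  rw [h3] at h1
  exact (mul_eq_zero.1 h1).resolve_left h2

theorem Q_pair (h2 : (2 : F) ≠ 0) (h : Gr Q b c) {i : Fin a} (hi : i.rev ≠ i) (t : F) :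
    Q (b i - t • b i.rev) = - (t * ((-1) ^ (i : ℕ) * c)) := by
  have h3 : i.rev.rev ≠ i.rev := by rw [Fin.rev_rev]; exact hi.symm
  rw [sub_eq_add_neg, ← neg_smul, Q_add, QuadraticMap.map_smul, Q_b_eq_zero h2 h hi, Q_b_eq_zero h2 h h3,
    polar_smul_right, h, if_pos rfl]
  simp only [_root_.mul_neg, _root_.neg_mul, _root_.neg_neg, _root_.smul_eq_mul, _root_.MulZeroClass.mul_zero, _root_.add_zero, _root_.zero_add]

/-- the basic diagonal isometry as a product of two reflections -/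
theorem dg_Ei (h2 : (2 : F) ≠ 0) (h : Gr Q b c) {i : Fin a} (hi : i.rev ≠ i) (t : Fˣ)
    (h3 : Q (b i - (1 : F) • b i.rev) ≠ 0) (h4 : Q (b i - (t : F) • b i.rev) ≠ 0) :
    dg b (Ei i t) = refl Q _ h3 * refl Q _ h4 := by
  have hc : (-1) ^ (i : ℕ) * c ≠ 0 := by
    intro h0
    rw [Q_pair h2 h hi, h0] at h3
    simp at h3
  have hc' : polar Q (b i.rev) (b i) = (-1) ^ (i : ℕ) * c := by
    rw [polar_comm, h, if_pos rfl]
  have hc'' : polar Q (b i) (b i.rev) = (-1) ^ (i : ℕ) * c := by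
    rw [h, if_pos rfl]
  have e1 : ∀ s : F, polar Q (b i - s • b i.rev) (b i) = - (s * ((-1) ^ (i : ℕ) * c)) := by
    intro s
    rw [polar_sub_left, polar_smul_left, hc', polar_self', Q_b_eq_zero h2 h hi]
    simp only [_root_.MulZeroClass.mul_zero, _root_.smul_eq_mul, _root_.zero_sub]
  have e2 : ∀ s : F, polar Q (b i - s • b i.rev) (b i.rev) = (-1) ^ (i : ℕ) * c := by
    intro s
    rw [polar_sub_left, polar_smul_left, hc'', polar_self',
      Q_b_eq_zero h2 h (i := i.rev) (by rw [Fin.rev_rev]; exact hi.symm)]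
    simp only [_root_.MulZeroClass.mul_zero, _root_.smul_eq_mul, _root_.sub_zero]
  have e3 : ∀ (s : F) (k : Fin a), k ≠ i → k ≠ i.rev → polar Q (b i - s • b i.rev) (b k) = 0 := by
    intro s k hk hk'
    rw [polar_sub_left, polar_smul_left, h, if_neg hk', h, if_neg (by rw [Fin.rev_rev]; exact hk)]
    simp
  set C : F := (-1) ^ (i : ℕ) * c with hC
  have ht : (t : F) ≠ 0 := t.ne_zero
  apply dg_unique
  intro k
  rw [LinearEquiv.mul_apply, refl_apply, refl_apply, Q_pair h2 h hi, Q_pair h2 h hi, ← hC]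
  by_cases hk : k = i
  · subst hk
    have hE : Ei k t k = t := by
      unfold Ei
      rw [if_pos rfl, if_neg (Ne.symm hi)]
      simp
    rw [hE, e1, polar_sub_right, polar_smul_right, e1, polar_sub_right, polar_smul_right, e1, e2]
    simp only [smul_eq_mul, one_mul]
    have e4 : (-((t : F) * C))⁻¹ * -((t : F) * C) = 1 := inv_mul_cancel₀ (neg_ne_zero.2 (mul_ne_zero ht hc))
    rw [e4]
    have e5 : (-C)⁻¹ * (-C - 1 * (-C - (t : F) * C)) = - (t : F) := by
      field_simp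
      ring
    rw [e5]
    module
  · by_cases hk' : k = i.rev
    · subst hk'
      have hE : Ei i t i.rev = t⁻¹ := by
        unfold Ei
        rw [if_neg hi, if_pos rfl, one_mul]
      rw [hE, e2, polar_sub_right, polar_smul_right, e2, polar_sub_right, polar_smul_right, e1, e2]
      simp only [smul_eq_mul, one_mul]
      have e5 : (-((t : F) * C))⁻¹ * C = - (t : F)⁻¹ := by
        field_simp
      rw [e5]
      have e6 : (-C)⁻¹ * (C - -(t : F)⁻¹ * (-C - (t : F) * C)) = (t : F)⁻¹ := by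
        field_simp
        ring
      rw [e6, Units.val_inv_eq_inv_val]
      have e7 : -(t : F)⁻¹ • (t : F) • b i.rev = - b i.rev := by
        rw [neg_smul, smul_smul, inv_mul_cancel₀ ht, one_smul]
      rw [smul_sub, e7]
      module
    · have hE : Ei i t k = 1 := by
        unfold Ei
        rw [if_neg hk, if_neg hk']
        simp
      rw [hE, e3 _ k hk hk', mul_zero, zero_smul, sub_zero, e3 _ k hk hk', mul_zero, zero_smul, sub_zero,
        Units.val_one, one_smul]

theorem spin_Ei [FiniteDimensional F V] [Finite V] [Fintype F] [DecidableEq F] (h2 : (2 : F) ≠ 0) (h : Gr Q b c)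
    (hc : c ≠ 0) {i : Fin a} (hi : i.rev ≠ i) (t : Fˣ) :
    ((spin Q ⟨dg b (Ei i t), dg_mem h2 h (Ei_mem i t)⟩ : ℤˣ) : ℤ) = quadraticChar F (t : F) := by
  have hC : (-1) ^ (i : ℕ) * c ≠ 0 := mul_ne_zero (pow_ne_zero _ (neg_ne_zero.2 one_ne_zero)) hc
  have h3 : Q (b i - (1 : F) • b i.rev) ≠ 0 := by
    rw [Q_pair h2 h hi, one_mul]
    exact neg_ne_zero.2 hC
  have h4 : Q (b i - (t : F) • b i.rev) ≠ 0 := by
    rw [Q_pair h2 h hi]
    exact neg_ne_zero.2 (mul_ne_zero t.ne_zero hC)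
  have h5 : (⟨dg b (Ei i t), dg_mem h2 h (Ei_mem i t)⟩ : O Q) =
      ⟨refl Q _ h3, refl_mem_O h3⟩ * ⟨refl Q _ h4, refl_mem_O h4⟩ := Subtype.ext (dg_Ei h2 h hi t h3 h4)
  rw [h5, map_mul, Units.val_mul, spin_refl_int h2, spin_refl_int h2, Q_pair h2 h hi, Q_pair h2 h hi, neg_mul_neg,
    ← map_mul, one_mul, neg_mul_neg]
  have h6 : (-1) ^ (i : ℕ) * c * ((t : F) * ((-1) ^ (i : ℕ) * c)) = ((-1) ^ (i : ℕ) * c) ^ 2 * t := by ring
  rw [h6, qc_sq_mul hC]

end Spin

section Odd

variable {Q : QuadraticForm F V} {m : ℕ} {b : Basis (Fin (2 * m + 1)) F V} {c : F}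

/-- the first half of the indices -/
def half (m : ℕ) : Finset (Fin (2 * m + 1)) := Finset.univ.filter fun i => (i : ℕ) < m

theorem mem_half {m : ℕ} {i : Fin (2 * m + 1)} : i ∈ half m ↔ (i : ℕ) < m := by
  simp [half]

theorem rev_ne_of_half {m : ℕ} {i : Fin (2 * m + 1)} (hi : i ∈ half m) : i.rev ≠ i := by
  rw [mem_half] at hi
  intro h
  have := congrArg Fin.val h
  rw [Fin.val_rev] at this
  omega

/-- an element of `RG` with middle coordinate one is a product of basic elements -/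
theorem eq_prod_Ei {d : Fin (2 * m + 1) → Fˣ} (hd : d ∈ RG F (2 * m + 1)) (hm : ∀ i : Fin (2 * m + 1), (i : ℕ) = m → d i = 1) :
    d = ∏ i ∈ half m, Ei i (d i) := by
  funext j
  rw [Finset.prod_apply]
  unfold Ei
  rw [Finset.prod_mul_distrib, Finset.prod_inv_distrib, Finset.prod_ite_eq]
  have h1 : ∏ i ∈ half m, (if j = i.rev then d i else 1) = if j.rev ∈ half m then d j.rev else 1 := by
    rw [← Finset.prod_ite_eq (half m) j.rev (fun i => d i)]
    refine Finset.prod_congr rfl fun i _ => ?_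
    congr 1
    rw [eq_iff_iff]
    exact ⟨fun h => by rw [h, Fin.rev_rev], fun h => by rw [← h, Fin.rev_rev]⟩
  rw [h1]
  simp only [mem_half, Fin.val_rev]
  have h3 := hd j
  rcases lt_trichotomy (j : ℕ) m with h | h | h
  · rw [if_pos h, if_neg (by omega), inv_one, mul_one]
  · rw [if_neg (by omega), if_neg (by omega), inv_one, mul_one, hm j h]
  · rw [if_neg (by omega), if_pos (by omega), one_mul]
    exact eq_inv_of_mul_eq_one_right h3

/-- **The spinor sign of a diagonal isometry.** -/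
theorem spin_dg [FiniteDimensional F V] [Finite V] [Fintype F] [DecidableEq F] (h2 : (2 : F) ≠ 0) (h : Gr Q b c)
    (hc : c ≠ 0) {d : Fin (2 * m + 1) → Fˣ} (hd : d ∈ RG F (2 * m + 1))
    (hm : ∀ i : Fin (2 * m + 1), (i : ℕ) = m → d i = 1) :
    ((spin Q ⟨dg b d, dg_mem h2 h hd⟩ : ℤˣ) : ℤ) = quadraticChar F ((∏ i ∈ half m, d i : Fˣ) : F) := by
  have h1 : (⟨d, hd⟩ : RG F (2 * m + 1)) = ∏ i ∈ half m, ⟨Ei i (d i), Ei_mem i (d i)⟩ := by
    apply Subtype.ext
    rw [Subgroup.val_finsetProd]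
    exact eq_prod_Ei hd hm
  have h3 : (⟨dg b d, dg_mem h2 h hd⟩ : O Q) = dgO h2 h ⟨d, hd⟩ := rfl
  have h4 : spin Q (dgO h2 h ⟨d, hd⟩) = ∏ i ∈ half m, spin Q (dgO h2 h ⟨Ei i (d i), Ei_mem i (d i)⟩) := by
    rw [h1]
    exact map_prod ((spin Q).comp (dgO h2 h)) _ _
  rw [h3, h4, Units.coe_prod, Units.coe_prod, map_prod]
  refine Finset.prod_congr rfl fun i hi => ?_
  exact spin_Ei h2 h hc (rev_ne_of_half hi) (d i)

/-- the determinant of a diagonal isometry -/
theorem det_dg_RG {d : Fin (2 * m + 1) → Fˣ} (hd : d ∈ RG F (2 * m + 1))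
    (hm : ∀ i : Fin (2 * m + 1), (i : ℕ) = m → d i = 1) : LinearEquiv.det (dg b d) = 1 := by
  rw [det_dg, eq_prod_Ei hd hm]
  simp only [Finset.prod_apply]
  rw [Finset.prod_comm]
  refine Finset.prod_eq_one fun i _ => ?_
  unfold Ei
  rw [Finset.prod_mul_distrib, Finset.prod_inv_distrib, Finset.prod_ite_eq', Finset.prod_ite_eq',
    if_pos (Finset.mem_univ _), if_pos (Finset.mem_univ _), mul_inv_cancel]

end Odd

end Cfsg.Agent.H382.SRJ
end

-- part: H382/SRJ2
section
/-!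
# TEAM SR, J pieces (helper382): the structure `JD` and the inverting involution

* `NB b` : the shift `b i ↦ b (i+1)`;
* `JD Q g σ b c` : `b` is a Gram basis and `g (x - N x) = σ • (x + N x)` for the shift `N`;
* `JD.T_one` : `T Q g 1 (χ ^ ((a ^ 2 - 1) / 8))`.
-/

set_option autoImplicit false

namespace Cfsg.Agent.H382.SRJ

open QuadraticMap Module
open Cfsg.Agent.LieClassical.OrthCore Cfsg.Agent.H160.QSpin Cfsg.Agent.H160.QDisc Cfsg.Agent.H160.QSplit
open Cfsg.Agent.H721.SR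

variable {F V W : Type*} [Field F] [AddCommGroup V] [Module F V] [AddCommGroup W] [Module F W]

section Shift

variable {a : ℕ} (b : Basis (Fin a) F V)

/-- the shift -/
noncomputable def NB : Module.End F V := b.constr F fun i => if h : (i : ℕ) + 1 < a then b ⟨i + 1, h⟩ else 0

theorem NB_apply (i : Fin a) : NB b (b i) = if h : (i : ℕ) + 1 < a then b ⟨i + 1, h⟩ else 0 := by
  rw [NB, Basis.constr_basis]

theorem NB_pow (k : ℕ) (i : Fin a) : (NB b ^ k) (b i) = if h : (i : ℕ) + k < a then b ⟨i + k, h⟩ else 0 := by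
  induction k with
  | zero =>
    rw [pow_zero, Module.End.one_apply, dif_pos (by simp)]
    rfl
  | succ k ih =>
    rw [pow_succ', Module.End.mul_apply, ih]
    by_cases h : (i : ℕ) + k < a
    · rw [dif_pos h, NB_apply]
      by_cases h3 : (i : ℕ) + k + 1 < a
      · rw [dif_pos h3, dif_pos (by omega)]
        rfl
      · rw [dif_neg h3, dif_neg (by omega)]
    · rw [dif_neg h, map_zero, dif_neg (by omega)]

theorem NB_nil : NB b ^ a = 0 := by
  apply b.ext
  intro i
  rw [NB_pow, dif_neg (by omega), LinearMap.zero_apply]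

theorem NB_unit_sub : IsUnit (1 - NB b) := IsNilpotent.isUnit_one_sub ⟨a, NB_nil b⟩

theorem NB_sub_surj (y : V) : ∃ x, x - NB b x = y :=
  ((Module.End.isUnit_iff _).1 (NB_unit_sub b)).2 y

end Shift

/-- data of a J piece -/
structure JD (Q : QuadraticForm F V) (g : V ≃ₗ[F] V) (σ : F) {a : ℕ} (b : Basis (Fin a) F V) (c : F) : Prop where
  gram : Gr Q b c
  cay : ∀ x, g (x - NB b x) = σ • (x + NB b x)

section JD

variable {Q : QuadraticForm F V} {g : V ≃ₗ[F] V} {σ : F} {a : ℕ} {b : Basis (Fin a) F V} {c : F}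

/-- the signs of the involution -/
def sg (F : Type*) [Field F] (m : ℕ) : Fin (2 * m + 1) → Fˣ := fun i => (-1) ^ (m + (i : ℕ))

theorem sg_mem (m : ℕ) : sg F m ∈ RG F (2 * m + 1) := by
  intro i
  unfold sg
  rw [← pow_add, Fin.val_rev]
  have e : m + (2 * m + 1 - (↑i + 1)) + (m + ↑i) = 2 * (2 * m) := by omega
  rw [e, pow_mul, neg_one_sq, one_pow]

theorem sg_mid (m : ℕ) (i : Fin (2 * m + 1)) (hi : (i : ℕ) = m) : sg F m i = 1 := by
  unfold sg
  rw [hi, ← two_mul, pow_mul, neg_one_sq, one_pow]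

theorem sg_sq (m : ℕ) : sg F m * sg F m = 1 := by
  funext i
  show sg F m i * sg F m i = 1
  unfold sg
  rw [← mul_pow, neg_one_mul, neg_neg, one_pow]

theorem prod_half {A : Type*} [CommMonoid A] (m : ℕ) (f : ℕ → A) :
    ∏ i ∈ half m, f i = ∏ i ∈ Finset.range m, f i := by
  unfold half
  rw [Finset.prod_filter, Fin.prod_univ_eq_prod_range (fun i => if i < m then f i else 1) (2 * m + 1),
    ← Finset.prod_filter]
  refine Finset.prod_congr ?_ fun _ _ => rfl
  ext i
  simp only [Finset.mem_filter, Finset.mem_range]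
  omega

theorem prod_sg (m : ℕ) : ∏ i ∈ half m, sg F m i = (-1) ^ (((2 * m + 1) ^ 2 - 1) / 8) := by
  have h1 := prod_half m (fun i => (-1 : Fˣ) ^ (m + i))
  unfold sg
  rw [h1, Finset.prod_pow_eq_pow_sum, Finset.sum_add_distrib, Finset.sum_const, Finset.card_range, smul_eq_mul]
  have h3 := Finset.sum_range_id_mul_two m
  set G := ∑ i ∈ Finset.range m, i with hG
  have h4 : ((2 * m + 1) ^ 2 - 1) / 8 = m + G := by
    apply Nat.div_eq_of_eq_mul_right (by norm_num)
    rcases Nat.eq_zero_or_pos m with h0 | h0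
    · subst h0
      simp at h3
      simp [h3]
    · obtain ⟨k, rfl⟩ := Nat.exists_eq_succ_of_ne_zero h0.ne'
      rw [Nat.succ_eq_add_one, Nat.add_sub_cancel] at h3
      have h5 : (2 * (k + 1) + 1) ^ 2 = 8 * (k + 1) + 4 * ((k + 1) * k) + 1 := by ring
      rw [Nat.succ_eq_add_one, h5, ← h3]
      omega
  rw [h4, pow_add, pow_add]
  congr 1
  rcases Nat.even_or_odd m with h5 | h5
  · rw [h5.neg_one_pow, (h5.mul_right m).neg_one_pow]
  · rw [h5.neg_one_pow, (h5.mul h5).neg_one_pow]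

theorem conj_of_cay {N : Module.End F V} {h : V ≃ₗ[F] V} (hs : σ * σ = 1)
    (hN : ∀ y : V, ∃ x, x - N x = y) (hc : ∀ x, g (x - N x) = σ • (x + N x)) (hh : ∀ x, h (N x) = - N (h x)) :
    h * g * h⁻¹ = g⁻¹ := by
  rw [eq_comm, inv_eq_iff_mul_eq_one]
  ext x
  obtain ⟨x, rfl⟩ := h.surjective x
  obtain ⟨z, rfl⟩ := hN x
  show g (h (g (h⁻¹ (h (z - N z))))) = h (z - N z)
  have e1 : h⁻¹ (h (z - N z)) = z - N z := h.symm_apply_apply _
  rw [e1, hc, LinearEquiv.map_smul, LinearEquiv.map_smul, map_add, hh, ← sub_eq_add_neg, hc, smul_smul, hs, one_smul,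
    map_sub, hh, sub_neg_eq_add]

theorem JD.T_one' {m : ℕ} {b : Basis (Fin (2 * m + 1)) F V} [Finite V] [FiniteDimensional F V] [Fintype F]
    [DecidableEq F] (h2 : (2 : F) ≠ 0) (hσ : σ = 1 ∨ σ = -1) (h : JD Q g σ b c) (hc : c ≠ 0) (χ : ℤˣ)
    (hχ : (χ : ℤ) = quadraticChar F (-1)) : T Q g 1 (χ ^ (((2 * m + 1) ^ 2 - 1) / 8)) := by
  have hs : σ * σ = 1 := by rcases hσ with rfl | rfl <;> ring
  refine ⟨dg b (sg F m), dg_mem h2 h.gram (sg_mem m), ?_, ?_, det_dg_RG (sg_mem m) (sg_mid m), ?_⟩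
  · rw [← map_mul, sg_sq, map_one]
  · refine conj_of_cay hs (NB_sub_surj b) h.cay ?_
    intro x
    have h1 : en (dg b (sg F m)) * NB b = - (NB b * en (dg b (sg F m))) := by
      apply b.ext
      intro i
      show dg b (sg F m) (NB b (b i)) = - NB b (dg b (sg F m) (b i))
      rw [dg_apply, map_smul, NB_apply]
      by_cases hi : (i : ℕ) + 1 < 2 * m + 1
      · rw [dif_pos hi, dg_apply]
        unfold sg
        simp only
        rw [← neg_smul]
        congr 1
        push_cast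
        ring
      · rw [dif_neg hi, map_zero, smul_zero, neg_zero]
    exact LinearMap.congr_fun h1 x
  · apply Units.ext
    rw [spin_dg h2 h.gram hc (sg_mem m) (sg_mid m), prod_sg]
    push_cast
    rw [map_pow, hχ]

/-- **J pieces.** -/
theorem JD.T_one [Finite V] [FiniteDimensional F V] [Fintype F] [DecidableEq F] (h2 : (2 : F) ≠ 0)
    (hσ : σ = 1 ∨ σ = -1) (h : JD Q g σ b c) (hc : c ≠ 0) (ha : Odd a) (χ : ℤˣ)
    (hχ : (χ : ℤ) = quadraticChar F (-1)) : T Q g 1 (χ ^ ((a ^ 2 - 1) / 8)) := by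
  obtain ⟨m, rfl⟩ := ha
  exact h.T_one' h2 hσ hc χ hχ

open Classical in
theorem JD.T_one_if [Finite V] [FiniteDimensional F V] [Finite F] (h2 : (2 : F) ≠ 0)
    (hσ : σ = 1 ∨ σ = -1) (h : JD Q g σ b c) (hc : c ≠ 0) (ha : Odd a) :
    T Q g 1 ((if IsSquare (-1 : F) then (1 : ℤˣ) else -1) ^ ((a ^ 2 - 1) / 8)) := by
  let _ := Fintype.ofFinite F
  refine h.T_one h2 hσ hc ha _ ?_
  have h1 : (-1 : F) ≠ 0 := neg_ne_zero.2 one_ne_zero
  split_ifs with hsq
  · rw [(quadraticChar_one_iff_isSquare h1).2 hsq]; rfl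
  · rw [quadraticChar_neg_one_iff_not_isSquare.2 hsq]; rfl

end JD

end Cfsg.Agent.H382.SRJ
end

-- part: H382/SRJ3
section
/-!
# TEAM SR, J pieces (helper382): from a cyclic piece to the structure `JD`

* `exists_JD` : a cyclic piece with `f = X - C σ` has a basis `b` with `JD Q g σ b c`.
-/

set_option autoImplicit false

namespace Cfsg.Agent.H382.SRJ

open QuadraticMap Module Polynomial
open Cfsg.Agent.LieClassical.OrthCore Cfsg.Agent.H160.QSpin Cfsg.Agent.H160.QDisc Cfsg.Agent.H160.QSplit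
open Cfsg.Agent.H721.SR

variable {F V W : Type*} [Field F] [AddCommGroup V] [Module F V] [AddCommGroup W] [Module F W]

section Skew

variable {Q : QuadraticForm F V} {N : Module.End F V} {a : ℕ}

theorem skew_pow (hN : ∀ x y, polar Q (N x) y = - polar Q x (N y)) (k : ℕ) (x y : V) :
    polar Q ((N ^ k) x) y = (-1) ^ k * polar Q x ((N ^ k) y) := by
  induction k generalizing x y with
  | zero => simp
  | succ k ih =>
    rw [pow_succ', Module.End.mul_apply, hN, ih, ← Module.End.mul_apply, ← pow_succ, pow_succ' N,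
      pow_succ (-1 : F)]
    ring

theorem skew_gram (hN : ∀ x y, polar Q (N x) y = - polar Q x (N y)) (i j : ℕ) (x y : V) :
    polar Q ((N ^ i) x) ((N ^ j) y) = (-1) ^ i * polar Q x ((N ^ (i + j)) y) := by
  rw [skew_pow hN, pow_add, Module.End.mul_apply]

theorem skew_odd (h2 : (2 : F) ≠ 0) (hN : ∀ x y, polar Q (N x) y = - polar Q x (N y)) {k : ℕ} (hk : Odd k) (x : V) :
    polar Q x ((N ^ k) x) = 0 := by
  have h1 := skew_pow hN k x x
  rw [hk.neg_one_pow, polar_comm] at h1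
  have h3 : 2 * polar Q x ((N ^ k) x) = 0 := by linear_combination h1
  exact (mul_eq_zero.1 h3).resolve_left h2

/-- one step of the normalisation -/
theorem norm_step (h2 : (2 : F) ≠ 0) (hN : ∀ x y, polar Q (N x) y = - polar Q x (N y)) (hnil : N ^ a = 0) {j : ℕ}
    (hj : j + 1 < a) {w : V} (h0 : ∀ k, j < k → k + 1 < a → polar Q w ((N ^ k) w) = 0)
    (hc : polar Q w ((N ^ (a - 1)) w) ≠ 0) :
    ∃ w' : V, (∀ k, j ≤ k → k + 1 < a → polar Q w' ((N ^ k) w') = 0) ∧ polar Q w' ((N ^ (a - 1)) w') ≠ 0 := by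
  have hbig : ∀ k, a ≤ k → ∀ x : V, (N ^ k) x = 0 := by
    intro k hk x
    rw [pow_eq_zero_of_le hk hnil, LinearMap.zero_apply]
  rcases Nat.even_or_odd j with he | ho
  · -- `a - 1` is even
    have hae : Even (a - 1) := by
      by_contra hcon
      exact hc (skew_odd h2 hN (Nat.not_even_iff_odd.1 hcon) w)
    have hle : j ≤ a - 1 := by omega
    have hel : Even (a - 1 - j) := (Nat.even_sub hle).2 (iff_of_true hae he)
    set l := a - 1 - j with hl
    set c := polar Q w ((N ^ (a - 1)) w) with hcdef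
    set x : F := - (polar Q w ((N ^ j) w) / (2 * c)) with hx
    have key : ∀ k, j ≤ k → polar Q (w + x • (N ^ l) w) ((N ^ k) (w + x • (N ^ l) w)) =
        polar Q w ((N ^ k) w) + 2 * x * polar Q w ((N ^ (k + l)) w) := by
      intro k hk
      have e1 : (N ^ k) ((N ^ l) w) = (N ^ (k + l)) w := by rw [pow_add, Module.End.mul_apply]
      rw [map_add, map_smul, polar_add_left, polar_add_right, polar_add_right, polar_smul_left, polar_smul_left,
        polar_smul_right, polar_smul_right, e1, skew_gram hN, skew_gram hN, hel.neg_one_pow,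
        hbig (l + (k + l)) (by omega), polar_zero_right, add_comm l k]
      simp only [smul_eq_mul]
      ring
    refine ⟨w + x • (N ^ l) w, ?_, ?_⟩
    · intro k hk hka
      rw [key k hk]
      rcases hk.eq_or_lt with rfl | hlt
      · have e2 : j + l = a - 1 := by omega
        rw [e2, ← hcdef, hx]
        field_simp
        ring
      · rw [h0 k hlt hka, hbig (k + l) (by omega), polar_zero_right, mul_zero, add_zero]
    · rw [key _ hle, hbig (a - 1 + l) (by omega), polar_zero_right, mul_zero, add_zero]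
      exact hc
  · refine ⟨w, fun k hk hka => ?_, hc⟩
    rcases hk.eq_or_lt with rfl | hlt
    · exact skew_odd h2 hN ho w
    · exact h0 k hlt hka

/-- the normalisation -/
theorem norm_all (h2 : (2 : F) ≠ 0) (hN : ∀ x y, polar Q (N x) y = - polar Q x (N y)) (hnil : N ^ a = 0)
    {v : V} (hc : polar Q v ((N ^ (a - 1)) v) ≠ 0) (t : ℕ) :
    ∃ w : V, (∀ k, a - 1 - t ≤ k → k + 1 < a → polar Q w ((N ^ k) w) = 0) ∧ polar Q w ((N ^ (a - 1)) w) ≠ 0 := by
  induction t with
  | zero => exact ⟨v, fun k hk hka => by omega, hc⟩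
  | succ t ih =>
    obtain ⟨w, h1, h3⟩ := ih
    by_cases hj : a - 1 - (t + 1) + 1 < a ∧ a - 1 - (t + 1) < a - 1 - t
    · obtain ⟨w', h4, h5⟩ := norm_step h2 hN hnil hj.1 (w := w) (fun k hk hka => h1 k (by omega) hka) h3
      exact ⟨w', h4, h5⟩
    · exact ⟨w, fun k hk hka => h1 k (by omega) hka, h3⟩

/-- a basis with antidiagonal Gram matrix -/
theorem exists_basis (h2 : (2 : F) ≠ 0) [FiniteDimensional F V] (hQ : Nondeg Q)
    (hN : ∀ x y, polar Q (N x) y = - polar Q x (N y)) (hnil : N ^ a = 0)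
    {v : V} (hv : (N ^ (a - 1)) v ≠ 0) (ha : 0 < a)
    (hspan : ∀ x : V, x ∈ Submodule.span F (Set.range fun i : Fin a => (N ^ (i : ℕ)) v)) :
    ∃ (b : Basis (Fin a) F V) (c : F), c ≠ 0 ∧ Gr Q b c ∧ NB b = N ∧ Odd a := by
  have hbig : ∀ k, a ≤ k → ∀ x : V, (N ^ k) x = 0 := by
    intro k hk x
    rw [pow_eq_zero_of_le hk hnil, LinearMap.zero_apply]
  have hc : polar Q v ((N ^ (a - 1)) v) ≠ 0 := by
    intro h0
    apply hv
    apply hQ
    intro y
    refine Submodule.span_induction (p := fun y _ => polar Q ((N ^ (a - 1)) v) y = 0) ?_ ?_ ?_ ?_ (hspan y)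
    · rintro _ ⟨i, rfl⟩
      rw [skew_gram hN]
      rcases Nat.eq_zero_or_pos (i : ℕ) with hi | hi
      · rw [hi, add_zero, h0, mul_zero]
      · rw [hbig _ (by omega), polar_zero_right, mul_zero]
    · exact polar_zero_right _ _
    · intro x y _ _ hx hy
      rw [polar_add_right, hx, hy, add_zero]
    · intro r x _ hx
      rw [polar_smul_right, hx, smul_zero]
  have hodd : Odd a := by
    by_contra hcon
    have h1 : Odd (a - 1) := by
      rw [Nat.not_odd_iff_even] at hcon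
      exact Nat.Even.sub_odd ha hcon odd_one
    exact hc (skew_odd h2 hN h1 v)
  obtain ⟨w, hw, hcw⟩ := norm_all h2 hN hnil hc (a - 1)
  set c := polar Q w ((N ^ (a - 1)) w) with hcdef
  have hgram : ∀ i j : Fin a, polar Q ((N ^ (i : ℕ)) w) ((N ^ (j : ℕ)) w) = if j = i.rev then (-1) ^ (i : ℕ) * c else 0 := by
    intro i j
    rw [skew_gram hN]
    by_cases hij : j = i.rev
    · rw [if_pos hij, hij, Fin.val_rev]
      have e : (i : ℕ) + (a - (i + 1)) = a - 1 := by omega
      rw [e]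
    · rw [if_neg hij]
      rw [Fin.ext_iff, Fin.val_rev] at hij
      rcases lt_or_ge ((i : ℕ) + j) a with hlt | hge
      · rw [hw _ (by omega) (by omega), mul_zero]
      · rw [hbig _ hge, polar_zero_right, mul_zero]
  have hli : LinearIndependent F (fun i : Fin a => (N ^ (i : ℕ)) w) := by
    rw [Fintype.linearIndependent_iff]
    intro f hf i
    have h1 : polar Q (∑ k, f k • (N ^ (k : ℕ)) w) ((N ^ (i.rev : ℕ)) w) = 0 := by
      rw [hf, polar_zero_left]
    have h3 : polar Q (∑ k, f k • (N ^ (k : ℕ)) w) ((N ^ (i.rev : ℕ)) w) =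
        ∑ k, f k * polar Q ((N ^ (k : ℕ)) w) ((N ^ (i.rev : ℕ)) w) := by
      have := LinearMap.congr_fun (map_sum (polarBilin Q) (fun k => f k • (N ^ (k : ℕ)) w) Finset.univ)
        ((N ^ (i.rev : ℕ)) w)
      rw [LinearMap.sum_apply] at this
      refine this.trans (Finset.sum_congr rfl fun k _ => ?_)
      rw [map_smul]
      rfl
    rw [h3, Finset.sum_eq_single i, hgram, if_pos rfl] at h1
    · exact (mul_eq_zero.1 h1).resolve_right (mul_ne_zero (pow_ne_zero _ (neg_ne_zero.2 one_ne_zero)) hcw)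
    · intro k _ hk
      rw [hgram, if_neg, mul_zero]
      intro h3
      exact hk (Fin.rev_injective h3).symm
    · intro h3
      exact absurd (Finset.mem_univ _) h3
  have hfr : finrank F V ≤ a := by
    have h1 : Submodule.span F (Set.range fun i : Fin a => (N ^ (i : ℕ)) v) = ⊤ := eq_top_iff.2 fun x _ => hspan x
    have h3 := finrank_range_le_card (R := F) (fun i : Fin a => (N ^ (i : ℕ)) v)
    unfold Set.finrank at h3
    rwa [h1, finrank_top, Fintype.card_fin] at h3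
  have hcard : Fintype.card (Fin a) = finrank F V := by
    refine le_antisymm hli.fintype_card_le_finrank ?_
    rwa [Fintype.card_fin]
  have : Nonempty (Fin a) := ⟨⟨0, ha⟩⟩
  let b := basisOfLinearIndependentOfCardEqFinrank hli hcard
  have hb : ∀ i, b i = (N ^ (i : ℕ)) w := fun i =>
    congrFun (coe_basisOfLinearIndependentOfCardEqFinrank hli hcard) i
  refine ⟨b, c, hcw, ?_, ?_, hodd⟩
  · intro i j
    rw [hb, hb, hgram]
  · apply b.ext
    intro i
    rw [NB_apply, hb, ← Module.End.mul_apply, ← pow_succ']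
    by_cases hi : (i : ℕ) + 1 < a
    · rw [dif_pos hi, hb]
    · rw [dif_neg hi, hbig _ (by omega)]

end Skew

section Cyc

variable {Q : QuadraticForm F V} {g : V ≃ₗ[F] V} {σ : F} {a : ℕ} {v : V}

theorem zpow_mem {S : Submodule F V} (h1 : ∀ x ∈ S, g x ∈ S) (h2 : ∀ x ∈ S, g⁻¹ x ∈ S) (hv : v ∈ S) (i : ℤ) :
    (g ^ i) v ∈ S := by
  induction i with
  | zero => exact hv
  | succ i ih =>
    rw [add_comm, zpow_one_add]
    exact h1 _ ih
  | pred i ih =>
    rw [sub_eq_add_neg, add_comm, zpow_add, zpow_neg_one]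
    exact h2 _ ih

theorem cyc_le {S : Submodule F V} (h1 : ∀ x ∈ S, g x ∈ S) (h2 : ∀ x ∈ S, g⁻¹ x ∈ S) (hv : v ∈ S) :
    cyc g v ≤ S := by
  unfold cyc
  rw [Submodule.span_le]
  rintro _ ⟨i, rfl⟩
  exact zpow_mem h1 h2 hv i

/-- an invertible operator equal to its powers: invariance under the inverse -/
theorem geom_mem {S : Submodule F V} {N : Module.End F V} (hnil : N ^ a = 0) (hS : ∀ x ∈ S, N x ∈ S) {x : V}
    (hx : x ∈ S) : ∃ y ∈ S, y - N y = x := by
  have hpow : ∀ k, (N ^ k) x ∈ S := by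
    intro k
    induction k with
    | zero => exact hx
    | succ k ih => rw [pow_succ', Module.End.mul_apply]; exact hS _ ih
  refine ⟨(∑ k ∈ Finset.range a, N ^ k) x, ?_, ?_⟩
  · rw [LinearMap.sum_apply]
    exact Submodule.sum_mem _ fun k _ => hpow k
  · have h1 := mul_neg_geom_sum N a
    rw [hnil, sub_zero] at h1
    exact LinearMap.congr_fun h1 x

/-- **From a cyclic piece to `JD`.** -/
theorem exists_JD_of_ann (h2 : (2 : F) ≠ 0) [FiniteDimensional F V] (hQ : Nondeg Q) (hg : g ∈ O Q)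
    (hσ : σ = 1 ∨ σ = -1) (hcyc : cyc g v = ⊤) (hpos : 0 < a) (hann : Ann g v ((X - C σ) ^ a)) :
    ∃ (b : Basis (Fin a) F V) (c : F), c ≠ 0 ∧ JD Q g σ b c ∧ Odd a := by
  have hs : σ * σ = 1 := by rcases hσ with rfl | rfl <;> ring
  obtain ⟨E, hEdef⟩ : ∃ E : Module.End F V, E = aeval (g : V →ₗ[F] V) (X - C σ) := ⟨_, rfl⟩
  have hEx : ∀ x, E x = g x - σ • x := by
    intro x
    rw [hEdef]
    simp
  have hE1 : (E ^ a) v = 0 := by
    have := (hann ((X - C σ) ^ a)).2 dvd_rfl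
    rwa [map_pow, ← hEdef] at this
  have hE2 : (E ^ (a - 1)) v ≠ 0 := by
    intro h0
    have h1 := (hann ((X - C σ) ^ (a - 1))).1 (by rw [map_pow, ← hEdef]; exact h0)
    rw [pow_dvd_pow_iff (X_sub_C_ne_zero σ) (not_isUnit_X_sub_C σ)] at h1
    omega
  have hEg : Commute E (en g) := by
    apply LinearMap.ext
    intro x
    show E (g x) = g (E x)
    rw [hEx, hEx, map_sub, LinearEquiv.map_smul]
  have hEg' : Commute E (en g⁻¹) := by
    apply LinearMap.ext
    intro x
    obtain ⟨x, rfl⟩ := g.surjective x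
    show E (g⁻¹ (g x)) = g⁻¹ (E (g x))
    have e1 : ∀ y, g⁻¹ (g y) = y := fun y => g.symm_apply_apply y
    have e3 : E (g x) = g (E x) := LinearMap.congr_fun hEg x
    rw [e1, e3, e1]
  have hEa : E ^ a = 0 := by
    have h1 : cyc g v ≤ LinearMap.ker (E ^ a) := by
      apply cyc_le
      · intro x hx
        rw [LinearMap.mem_ker] at hx ⊢
        have := LinearMap.congr_fun (hEg.pow_left a) x
        refine this.trans ?_
        show g ((E ^ a) x) = 0
        rw [hx, map_zero]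
      · intro x hx
        rw [LinearMap.mem_ker] at hx ⊢
        have := LinearMap.congr_fun (hEg'.pow_left a) x
        refine this.trans ?_
        show g⁻¹ ((E ^ a) x) = 0
        rw [hx, map_zero]
      · exact hE1
    rw [hcyc, top_le_iff, LinearMap.ker_eq_top] at h1
    exact h1
  -- the nilpotent part of `σ g`
  obtain ⟨K, hKdef⟩ : ∃ K : Module.End F V, K = σ • E := ⟨_, rfl⟩
  have hKx : ∀ x, K x = σ • g x - x := by
    intro x
    rw [hKdef, LinearMap.smul_apply, hEx, smul_sub, smul_smul, hs, one_smul]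
  have hKa : K ^ a = 0 := by rw [hKdef, _root_.smul_pow, hEa, smul_zero]
  have hKv : (K ^ (a - 1)) v ≠ 0 := by
    rw [hKdef, _root_.smul_pow, LinearMap.smul_apply]
    exact smul_ne_zero (pow_ne_zero _ (by rintro rfl; simp at hs)) hE2
  have hunit : IsUnit ((2 : F) • (1 : Module.End F V) + K) := by
    refine IsNilpotent.isUnit_add_left_of_commute ⟨a, hKa⟩ ?_ ?_
    · exact (Units.mk0 (2 : F) h2 • (1 : (Module.End F V)ˣ)).isUnit
    · exact (Commute.one_right K).smul_right _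
  obtain ⟨P, hP⟩ := hunit
  have hKP : Commute K ((P⁻¹ : (Module.End F V)ˣ) : Module.End F V) := by
    apply Commute.units_inv_right
    rw [hP]
    exact ((Commute.one_right K).smul_right _).add_right (Commute.refl _)
  obtain ⟨P', hP'⟩ : ∃ P' : Module.End F V, P' = ((P⁻¹ : (Module.End F V)ˣ) : Module.End F V) := ⟨_, rfl⟩
  rw [← hP'] at hKP
  obtain ⟨N, hNdef⟩ : ∃ N : Module.End F V, N = K * P' := ⟨_, rfl⟩
  have hy : ∀ x, P' x + σ • g (P' x) = x := by
    intro x
    have h1 : (P : Module.End F V) * P' = 1 := by rw [hP', Units.mul_inv]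
    rw [hP] at h1
    have h3 := LinearMap.congr_fun h1 x
    rw [Module.End.mul_apply, LinearMap.add_apply, LinearMap.smul_apply, Module.End.one_apply, hKx,
      Module.End.one_apply] at h3
    refine Eq.trans ?_ h3
    module
  have hNx : ∀ x, N x = σ • g (P' x) - P' x := by
    intro x
    rw [hNdef, Module.End.mul_apply, hKx]
  have hNa : N ^ a = 0 := by rw [hNdef, hKP.mul_pow, hKa, zero_mul]
  have hNv : (N ^ (a - 1)) v ≠ 0 := by
    rw [hNdef, hKP.mul_pow, (hKP.pow_pow _ _).eq, Module.End.mul_apply]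
    intro h0
    apply hKv
    have h1 : IsUnit (P' ^ (a - 1)) := by
      rw [hP', ← Units.val_pow_eq_pow_val]
      exact Units.isUnit _
    exact ((Module.End.isUnit_iff _).1 h1).1 (h0.trans (map_zero _).symm)
  have hcay : ∀ x, g (x - N x) = σ • (x + N x) := by
    intro x
    have e1 := hy x
    rw [hNx]
    generalize P' x = y at e1 ⊢
    rw [← e1]
    have e3 : y + σ • g y - (σ • g y - y) = (2 : F) • y := by module
    have e4 : y + σ • g y + (σ • g y - y) = (2 * σ) • g y := by module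
    rw [e3, e4, LinearEquiv.map_smul, smul_smul]
    congr 1
    linear_combination (-2 : F) * hs
  have hskew : ∀ x y, polar Q (N x) y = - polar Q x (N y) := by
    intro x y
    have e1 := hy x
    have e2 := hy y
    rw [hNx, hNx]
    generalize P' x = x' at e1 ⊢
    generalize P' y = y' at e2 ⊢
    rw [← e1, ← e2]
    simp only [polar_add_left, polar_add_right, polar_sub_left, polar_sub_right, polar_smul_left, polar_smul_right,
      polar_map hg, smul_eq_mul]
    linear_combination (2 * polar Q x' y') * hs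
  have hspan : ∀ x : V, x ∈ Submodule.span F (Set.range fun i : Fin a => (N ^ (i : ℕ)) v) := by
    obtain ⟨S, hS⟩ : ∃ S, S = Submodule.span F (Set.range fun i : Fin a => (N ^ (i : ℕ)) v) := ⟨_, rfl⟩
    have hNS : ∀ x ∈ S, N x ∈ S := by
      intro x hx
      rw [hS] at hx ⊢
      refine Submodule.span_induction (p := fun y _ => N y ∈ Submodule.span F (Set.range fun i : Fin a => (N ^ (i : ℕ)) v))
        ?_ ?_ ?_ ?_ hx
      · rintro _ ⟨i, rfl⟩
        simp only
        rw [← Module.End.mul_apply, ← pow_succ']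
        by_cases hi : (i : ℕ) + 1 < a
        · exact Submodule.subset_span ⟨⟨i + 1, hi⟩, rfl⟩
        · rw [pow_eq_zero_of_le (by omega) hNa, LinearMap.zero_apply]
          exact Submodule.zero_mem _
      · rw [map_zero]; exact Submodule.zero_mem _
      · intro x y _ _ hx hy
        rw [map_add]; exact Submodule.add_mem _ hx hy
      · intro r x _ hx
        rw [map_smul]; exact Submodule.smul_mem _ _ hx
    have hvS : v ∈ S := by
      rw [hS]
      exact Submodule.subset_span ⟨⟨0, hpos⟩, rfl⟩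
    have h1 : cyc g v ≤ S := by
      apply cyc_le
      · intro x hx
        obtain ⟨y, hyS, rfl⟩ := geom_mem hNa hNS hx
        rw [hcay]
        exact S.smul_mem _ (S.add_mem hyS (hNS _ hyS))
      · intro x hx
        have hNa' : (-N) ^ a = 0 := by rw [neg_pow, hNa, mul_zero]
        obtain ⟨y, hyS, rfl⟩ := geom_mem hNa' (fun x hx => S.neg_mem (hNS x hx)) hx
        have e1 : y - (-N) y = σ • g (y - N y) := by
          rw [hcay, smul_smul, hs, one_smul, LinearMap.neg_apply, sub_neg_eq_add]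
        rw [e1, LinearEquiv.map_smul]
        have e2 : g⁻¹ (g (y - N y)) = y - N y := g.symm_apply_apply _
        rw [e2]
        exact S.smul_mem _ (S.sub_mem hyS (hNS _ hyS))
      · exact hvS
    intro x
    rw [← hS]
    exact h1 (by rw [hcyc]; trivial)
  obtain ⟨b, c, hc, hG, hNB, hodd⟩ := exists_basis h2 hQ hskew hNa hNv hpos hspan
  exact ⟨b, c, hc, ⟨hG, fun x => by rw [hNB]; exact hcay x⟩, hodd⟩

/-- **From a cyclic piece to `JD`.** -/
theorem exists_JD (h2 : (2 : F) ≠ 0) [FiniteDimensional F V] (hQ : Nondeg Q) (hg : g ∈ O Q)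
    (hσ : σ = 1 ∨ σ = -1) (hcyc : cyc g v = ⊤) (hC : CPiece (polarBilin Q) g (X - C σ) a v) :
    ∃ (b : Basis (Fin a) F V) (c : F), c ≠ 0 ∧ JD Q g σ b c ∧ Odd a :=
  exists_JD_of_ann h2 hQ hg hσ hcyc hC.pos hC.ann

end Cyc

end Cfsg.Agent.H382.SRJ
end

-- part: H382/SRJ4
section
/-!
# TEAM SR, J pieces (helper382): uniqueness, existence, determinant and spinor sign

* `JD.smul` : rescaling; `JD.iso` : two J pieces with the same data are isometric as pairs;
* `JD.iso_of_dc` : lemma U;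
* `exists_JD_fin` : existence on `Fin a → F`;
* `JD.el` : `σ • g` has determinant one and spinor sign one.
-/

set_option autoImplicit false

namespace Cfsg.Agent.H382.SRJ

open QuadraticMap Module Polynomial
open Cfsg.Agent.LieClassical.OrthCore Cfsg.Agent.H160.QSpin Cfsg.Agent.H160.QDisc Cfsg.Agent.H160.QSplit
open Cfsg.Agent.H721.SR

variable {F V W : Type*} [Field F] [AddCommGroup V] [Module F V] [AddCommGroup W] [Module F W]

section Iso

variable {Q : QuadraticForm F V} {g : V ≃ₗ[F] V} {σ : F} {a : ℕ} {b : Basis (Fin a) F V} {c : F}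
  {Q' : QuadraticForm F W} {g' : W ≃ₗ[F] W} {b' : Basis (Fin a) F W} {c' : F}

/-- the shift of a transported basis -/
theorem NB_map (e : V ≃ₗ[F] W) (hb : ∀ i, e (b i) = b' i) (x : V) : e (NB b x) = NB b' (e x) := by
  have h : (e : V →ₗ[F] W) ∘ₗ NB b = NB b' ∘ₗ (e : V →ₗ[F] W) := by
    apply b.ext
    intro i
    show e (NB b (b i)) = NB b' (e (b i))
    rw [NB_apply, hb, NB_apply]
    by_cases hi : (i : ℕ) + 1 < a
    · rw [dif_pos hi, dif_pos hi, hb]
    · rw [dif_neg hi, dif_neg hi, map_zero]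
  exact LinearMap.congr_fun h x

/-- two J pieces with the same data are isometric as pairs -/
theorem JD.iso (h2 : (2 : F) ≠ 0) (h : JD Q g σ b c) (h' : JD Q' g' σ b' c) :
    ∃ e : V ≃ₗ[F] W, IsIso Q Q' e ∧ cj e g = g' ∧ ∀ i, e (b i) = b' i := by
  have hb : ∀ i, (b.equiv b' (Equiv.refl _)) (b i) = b' i := fun i => by
    rw [Basis.equiv_apply]; rfl
  refine ⟨b.equiv b' (Equiv.refl _), isIso_of_polar h2 ?_, ?_, hb⟩
  · have h5 : LinearMap.BilinForm.comp (polarBilin Q') (b.equiv b' (Equiv.refl _) : V →ₗ[F] W)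
        (b.equiv b' (Equiv.refl _) : V →ₗ[F] W) = polarBilin Q := by
      apply LinearMap.BilinForm.ext_basis b
      intro i j
      rw [LinearMap.BilinForm.comp_apply, LinearEquiv.coe_coe, hb, hb]
      show polar Q' (b' i) (b' j) = polar Q (b i) (b j)
      rw [h.gram, h'.gram]
    intro x y
    exact congrArg (fun B : LinearMap.BilinForm F V => B x y) h5
  · generalize b.equiv b' (Equiv.refl _) = e at hb
    ext w
    obtain ⟨w, rfl⟩ := e.surjective w
    obtain ⟨x, rfl⟩ := NB_sub_surj b w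
    rw [cj_apply', h.cay, LinearEquiv.map_smul, map_add, map_sub, NB_map e hb, h'.cay]

/-- rescaling -/
theorem JD.scale (h : JD Q g σ b c) {t : F} (ht : t ≠ 0) :
    JD Q g σ (b.unitsSMul fun _ => Units.mk0 t ht) (t ^ 2 * c) := by
  have hb : ∀ i, (b.unitsSMul fun _ => Units.mk0 t ht) i = t • b i := fun i => by
    rw [Basis.unitsSMul_apply]; rfl
  have hN : NB (b.unitsSMul fun _ => Units.mk0 t ht) = NB b := by
    apply b.ext
    intro i
    have h1 : b i = t⁻¹ • (b.unitsSMul fun _ => Units.mk0 t ht) i := by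
      rw [hb, smul_smul, inv_mul_cancel₀ ht, one_smul]
    have h3 : NB (b.unitsSMul fun _ => Units.mk0 t ht) (b i) =
        t⁻¹ • NB (b.unitsSMul fun _ => Units.mk0 t ht) ((b.unitsSMul fun _ => Units.mk0 t ht) i) := by
      rw [← map_smul, ← h1]
    rw [h3, NB_apply, NB_apply]
    by_cases hi : (i : ℕ) + 1 < a
    · rw [dif_pos hi, dif_pos hi, hb, smul_smul, inv_mul_cancel₀ ht, one_smul]
    · rw [dif_neg hi, dif_neg hi, smul_zero]
  refine ⟨fun i j => ?_, fun x => by rw [hN]; exact h.cay x⟩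
  rw [hb, hb, polar_smul_left, polar_smul_right, h.gram]
  simp only [smul_eq_mul]
  split_ifs
  · ring
  · ring

/-- **Lemma U.** Two J pieces with the same `a`, `σ` and class are isometric as pairs. -/
theorem JD.iso_of_dc [FiniteDimensional F V] [FiniteDimensional F W] [Fintype F] [DecidableEq F] (h2 : (2 : F) ≠ 0)
    (ha : Odd a) (h : JD Q g σ b c) (h' : JD Q' g' σ b' c') (hc : c ≠ 0) (hc' : c' ≠ 0) (hd : dc Q = dc Q') :
    ∃ e : V ≃ₗ[F] W, IsIso Q Q' e ∧ Cfsg.Agent.H160.QSpin.cj e g = g' := by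
  rw [h.gram.dc_odd hc ha, h'.gram.dc_odd hc' ha] at hd
  obtain ⟨t, ht⟩ : IsSquare (c' / c) := by
    rw [← quadraticChar_one_iff_isSquare (div_ne_zero hc' hc)]
    have h3 : quadraticChar F c' = quadraticChar F (c' / c) * quadraticChar F c := by
      rw [← map_mul, div_mul_cancel₀ _ hc]
    rcases quadraticChar_dichotomy hc' with h5 | h5
    · rw [hd, h5] at h3; linarith only [h3]
    · rw [hd, h5] at h3; linarith
  have ht0 : t ≠ 0 := by
    rintro rfl
    rw [mul_zero] at ht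
    exact div_ne_zero hc' hc ht
  have h4 : t ^ 2 * c = c' := by rw [pow_two, ← ht, div_mul_cancel₀ _ hc]
  have h5 := h.scale ht0
  rw [h4] at h5
  obtain ⟨e, he, hg, -⟩ := h5.iso h2 h'
  exact ⟨e, he, hg⟩

end Iso

/-! ### Existence -/

section Ex

/-- the Gram bilinear form -/
noncomputable def grB {a : ℕ} (b : Basis (Fin a) F V) (c : F) : LinearMap.BilinForm F V :=
  Matrix.toBilin b (Matrix.of fun i j : Fin a => if j = i.rev then (-1) ^ (i : ℕ) * c else (0 : F))

theorem grB_apply {a : ℕ} (b : Basis (Fin a) F V) (c : F) (i j : Fin a) :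
    grB b c (b i) (b j) = if j = i.rev then (-1) ^ (i : ℕ) * c else 0 := by
  have h1 := LinearMap.BilinForm.toMatrix_apply b (grB b c) i j
  rw [← h1, grB, LinearMap.BilinForm.toMatrix_toBilin, Matrix.of_apply]

/-- the Gram quadratic form -/
noncomputable def grQ {a : ℕ} (b : Basis (Fin a) F V) (c : F) : QuadraticForm F V :=
  (2 : F)⁻¹ • (grB b c).toQuadraticMap

theorem polar_grQ (h2 : (2 : F) ≠ 0) {a : ℕ} (ha : Odd a) (b : Basis (Fin a) F V) (c : F) : Gr (grQ b c) b c := by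
  intro i j
  have h1 : polar (grQ b c) (b i) (b j) = (2 : F)⁻¹ * (grB b c (b i) (b j) + grB b c (b j) (b i)) := by
    simp only [grQ, QuadraticMap.polar, _root_.smul_apply, LinearMap.BilinMap.toQuadraticMap_apply, map_add,
      LinearMap.add_apply, smul_eq_mul]
    ring
  rw [h1, grB_apply, grB_apply]
  by_cases hij : j = i.rev
  · rw [if_pos hij, if_pos (by rw [hij, Fin.rev_rev]), hij, Fin.val_rev]
    have h3 : (-1 : F) ^ (a - ((i : ℕ) + 1)) = (-1) ^ (i : ℕ) := by
      obtain ⟨k, hk⟩ := ha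
      have h5 : (-1 : F) ^ (a - ((i : ℕ) + 1)) * (-1) ^ (i : ℕ) = 1 := by
        rw [← pow_add]
        have e : a - ((i : ℕ) + 1) + i = 2 * k := by omega
        rw [e, pow_mul, neg_one_sq, one_pow]
      have h6 : (-1 : F) ^ (i : ℕ) * (-1) ^ (i : ℕ) = 1 := by
        rw [← mul_pow, neg_one_mul, neg_neg, one_pow]
      calc (-1 : F) ^ (a - ((i : ℕ) + 1)) = (-1 : F) ^ (a - ((i : ℕ) + 1)) * ((-1 : F) ^ (i : ℕ) * (-1) ^ (i : ℕ)) := by
            rw [h6, mul_one]
        _ = _ := by rw [← mul_assoc, h5, one_mul]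
    rw [h3, ← two_mul, inv_mul_cancel_left₀ h2]
  · rw [if_neg hij, if_neg, add_zero, mul_zero]
    intro h
    exact hij (by rw [h, Fin.rev_rev])

end Ex

/-! ### Determinant and spinor sign -/

section Det

variable {Q : QuadraticForm F V} {g : V ≃ₗ[F] V} {σ : F} {a : ℕ} {b : Basis (Fin a) F V} {c : F}

/-- the unipotent part -/
theorem JD.unip (hσ : σ = 1 ∨ σ = -1) (h : JD Q g σ b c) : (σ • en g - 1) ^ a = 0 := by
  have hs : σ * σ = 1 := by rcases hσ with rfl | rfl <;> ring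
  obtain ⟨P, hP⟩ := NB_unit_sub b
  have h1 : σ • en g - 1 = (2 : F) • (NB b * ((P⁻¹ : (Module.End F V)ˣ) : Module.End F V)) := by
    apply LinearMap.ext
    intro y
    obtain ⟨x, rfl⟩ := NB_sub_surj b y
    have h3 : ((P⁻¹ : (Module.End F V)ˣ) : Module.End F V) (x - NB b x) = x := by
      have h4 : ((P⁻¹ : (Module.End F V)ˣ) : Module.End F V) * (P : Module.End F V) = 1 := Units.inv_mul P
      rw [hP] at h4
      exact LinearMap.congr_fun h4 x
    show σ • g (x - NB b x) - (x - NB b x) = (2 : F) • NB b (((P⁻¹ : (Module.End F V)ˣ) : Module.End F V) (x - NB b x))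
    rw [h3, h.cay, smul_smul, hs, one_smul]
    module
  have hcomm : Commute (NB b) ((P⁻¹ : (Module.End F V)ˣ) : Module.End F V) := by
    apply Commute.units_inv_right
    rw [hP]
    exact (Commute.one_right _).sub_right (Commute.refl _)
  rw [h1, _root_.smul_pow, hcomm.mul_pow, NB_nil, zero_mul, smul_zero]

/-- negating an isometry -/
theorem JD.neg (h : JD Q g σ b c) : JD Q (LinearEquiv.neg F * g) (-σ) b c := by
  refine ⟨h.gram, fun x => ?_⟩
  show - g (x - NB b x) = _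
  rw [h.cay, neg_smul]

end Det

end Cfsg.Agent.H382.SRJ
end

-- part: H382/SRJ5
section
/-!
# TEAM SR, J pieces (helper382): two pieces with the same `(a, σ)`, and `JD` as a cyclic piece

* `JD.flip`, `JD.flip_dc` : re-decomposition of a sum of two J pieces with the same `a` and `σ`;
* `JD.cpiece`, `JD.cyc_eq` : `JD` data give a cyclic piece.
-/

set_option autoImplicit false

namespace Cfsg.Agent.H382.SRJ

open QuadraticMap Module Polynomial
open Cfsg.Agent.LieClassical.OrthCore Cfsg.Agent.H160.QSpin Cfsg.Agent.H160.QDisc Cfsg.Agent.H160.QSplit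
open Cfsg.Agent.H721.SR

variable {F V W : Type*} [Field F] [AddCommGroup V] [Module F V] [AddCommGroup W] [Module F W]

section Flip

variable {Q : QuadraticForm F V} {g : V ≃ₗ[F] V} {σ : F} {a : ℕ} {b : Basis (Fin a) F V} {c : F}
  {Q' : QuadraticForm F W} {g' : W ≃ₗ[F] W} {b' : Basis (Fin a) F W} {c' : F}

/-- the Gram matrix determines the polar form -/
theorem Gr.polar_eq (h : Gr Q b c) (x y : V) : polar Q x y = c * grB b 1 x y := by
  have h1 : polarBilin Q = c • grB b 1 := by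
    apply LinearMap.BilinForm.ext_basis b
    intro i j
    show polar Q (b i) (b j) = c * grB b 1 (b i) (b j)
    rw [h, grB_apply]
    split_ifs <;> ring
  exact congrArg (fun B : LinearMap.BilinForm F V => B x y) h1

theorem grB_map (e : V ≃ₗ[F] W) (hb : ∀ i, e (b i) = b' i) (x y : V) : grB b' 1 (e x) (e y) = grB b (1 : F) x y := by
  have h5 : LinearMap.BilinForm.comp (grB b' 1) (e : V →ₗ[F] W) (e : V →ₗ[F] W) = grB b 1 := by
    apply LinearMap.BilinForm.ext_basis b
    intro i j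
    rw [LinearMap.BilinForm.comp_apply, LinearEquiv.coe_coe, hb, hb, grB_apply, grB_apply]
  exact congrArg (fun B : LinearMap.BilinForm F V => B x y) h5

/-- **Re-decomposition of two J pieces with the same `a` and `σ`.** -/
theorem JD.flip (h2 : (2 : F) ≠ 0) (ha : Odd a) (h : JD Q g σ b c) (h' : JD Q' g' σ b' c') (x y : F)
    (hxy : x ^ 2 * c + y ^ 2 * c' ≠ 0) :
    ∃ (Q₁ : QuadraticForm F V) (Q₂ : QuadraticForm F W) (e : (V × W) ≃ₗ[F] (V × W)),
      JD Q₁ g σ b (x ^ 2 * c + y ^ 2 * c') ∧ JD Q₂ g' σ b' (c * c' * (x ^ 2 * c + y ^ 2 * c')) ∧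
      IsIso (Q₁.prod Q₂) (Q.prod Q') e ∧ Cfsg.Agent.H160.QSpin.cj e (pr g g') = pr g g' := by
  obtain ⟨φ, hφ⟩ : ∃ φ : V ≃ₗ[F] W, ∀ i, φ (b i) = b' i :=
    ⟨b.equiv b' (Equiv.refl _), fun i => by rw [Basis.equiv_apply]; rfl⟩
  have hφN := NB_map φ hφ
  have hφN' : ∀ w, φ.symm (NB b' w) = NB b (φ.symm w) := by
    intro w
    apply φ.injective
    rw [hφN, LinearEquiv.apply_symm_apply, LinearEquiv.apply_symm_apply]
  have hφg : ∀ v, φ (g v) = g' (φ v) := by
    intro v
    obtain ⟨v, rfl⟩ := NB_sub_surj b v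
    rw [h.cay, LinearEquiv.map_smul, map_add, map_sub, hφN, h'.cay]
  have hφg' : ∀ w, φ.symm (g' w) = g (φ.symm w) := by
    intro w
    apply φ.injective
    rw [hφg, LinearEquiv.apply_symm_apply, LinearEquiv.apply_symm_apply]
  set k := x ^ 2 * c + y ^ 2 * c' with hk
  let A : (V × W) →ₗ[F] (V × W) :=
    LinearMap.prod (x • LinearMap.fst F V W + (y * c') • (φ.symm : W →ₗ[F] V) ∘ₗ LinearMap.snd F V W)
      (y • (φ : V →ₗ[F] W) ∘ₗ LinearMap.fst F V W - (x * c) • LinearMap.snd F V W)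
  let B : (V × W) →ₗ[F] (V × W) :=
    LinearMap.prod ((k⁻¹ * (x * c)) • LinearMap.fst F V W + (k⁻¹ * (y * c')) • (φ.symm : W →ₗ[F] V) ∘ₗ LinearMap.snd F V W)
      ((k⁻¹ * y) • (φ : V →ₗ[F] W) ∘ₗ LinearMap.fst F V W - (k⁻¹ * x) • LinearMap.snd F V W)
  have hA : ∀ z : V × W, A z = (x • z.1 + (y * c') • φ.symm z.2, y • φ z.1 - (x * c) • z.2) := fun z => rfl
  have hB : ∀ z : V × W, B z = ((k⁻¹ * (x * c)) • z.1 + (k⁻¹ * (y * c')) • φ.symm z.2,
      (k⁻¹ * y) • φ z.1 - (k⁻¹ * x) • z.2) := fun z => rfl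
  have hkk : k⁻¹ * k = 1 := inv_mul_cancel₀ hxy
  have hAB : ∀ z, A (B z) = z := by
    intro z
    rw [hA, hB]
    apply Prod.ext
    · simp only [map_sub, LinearEquiv.map_smul, LinearEquiv.symm_apply_apply]
      have : x • ((k⁻¹ * (x * c)) • z.1 + (k⁻¹ * (y * c')) • φ.symm z.2) +
          (y * c') • ((k⁻¹ * y) • z.1 - (k⁻¹ * x) • φ.symm z.2) = (k⁻¹ * k) • z.1 := by
        rw [hk]; module
      rw [this, hkk, one_smul]
    · simp only [map_add, LinearEquiv.map_smul, LinearEquiv.apply_symm_apply]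
      have : y • ((k⁻¹ * (x * c)) • φ z.1 + (k⁻¹ * (y * c')) • z.2) -
          (x * c) • ((k⁻¹ * y) • φ z.1 - (k⁻¹ * x) • z.2) = (k⁻¹ * k) • z.2 := by
        rw [hk]; module
      rw [this, hkk, one_smul]
  have hBA : ∀ z, B (A z) = z := by
    intro z
    rw [hB, hA]
    apply Prod.ext
    · simp only [map_sub, LinearEquiv.map_smul, LinearEquiv.symm_apply_apply]
      have : (k⁻¹ * (x * c)) • (x • z.1 + (y * c') • φ.symm z.2) +
          (k⁻¹ * (y * c')) • (y • z.1 - (x * c) • φ.symm z.2) = (k⁻¹ * k) • z.1 := by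
        rw [hk]; module
      rw [this, hkk, one_smul]
    · simp only [map_add, LinearEquiv.map_smul, LinearEquiv.apply_symm_apply]
      have : (k⁻¹ * y) • (x • φ z.1 + (y * c') • z.2) - (k⁻¹ * x) • (y • φ z.1 - (x * c) • z.2) =
          (k⁻¹ * k) • z.2 := by
        rw [hk]; module
      rw [this, hkk, one_smul]
  let e : (V × W) ≃ₗ[F] (V × W) := LinearEquiv.ofLinearMap A B (LinearMap.ext hAB) (LinearMap.ext hBA)
  have he : ∀ z, e z = (x • z.1 + (y * c') • φ.symm z.2, y • φ z.1 - (x * c) • z.2) := hA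
  refine ⟨grQ b k, grQ b' (c * c' * k), e, ⟨polar_grQ h2 ha b k, h.cay⟩, ⟨polar_grQ h2 ha b' _, h'.cay⟩, ?_, ?_⟩
  · apply isIso_of_polar h2
    rintro ⟨u, w⟩ ⟨u', w'⟩
    obtain ⟨z, rfl⟩ := φ.surjective w
    obtain ⟨z', rfl⟩ := φ.surjective w'
    rw [polar_pr, polar_pr, he, he]
    simp only [LinearEquiv.symm_apply_apply]
    have e1 : y • φ u - (x * c) • φ z = φ (y • u - (x * c) • z) := by
      rw [map_sub, LinearEquiv.map_smul, LinearEquiv.map_smul]
    have e2 : y • φ u' - (x * c) • φ z' = φ (y • u' - (x * c) • z') := by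
      rw [map_sub, LinearEquiv.map_smul, LinearEquiv.map_smul]
    rw [e1, e2, h.gram.polar_eq, h'.gram.polar_eq, (polar_grQ h2 ha b k).polar_eq,
      (polar_grQ h2 ha b' (c * c' * k)).polar_eq, grB_map φ hφ, grB_map φ hφ]
    simp only [map_add, map_sub, map_smul, LinearMap.add_apply, LinearMap.sub_apply, LinearMap.smul_apply, smul_eq_mul]
    rw [hk]
    ring
  · ext1 z
    obtain ⟨z, rfl⟩ := e.surjective z
    rw [cj_apply', pr_apply, pr_apply, he, he]
    simp only [map_add, map_sub, LinearEquiv.map_smul, hφg, hφg']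

end Flip

/-! ### Cyclic pieces from `JD` -/

section Back

variable {Q : QuadraticForm F V} {g : V ≃ₗ[F] V} {σ : F} {a : ℕ} {v : V}

theorem ann_of (h1 : ((aeval (g : V →ₗ[F] V) (X - C σ)) ^ a) v = 0)
    (h3 : ((aeval (g : V →ₗ[F] V) (X - C σ)) ^ (a - 1)) v ≠ 0) : Ann g v ((X - C σ) ^ a) := by
  classical
  intro p
  constructor
  · intro hp
    obtain ⟨x, y, hxy⟩ : ∃ x y, EuclideanDomain.gcd p ((X - C σ) ^ a) = p * x + (X - C σ) ^ a * y :=
      ⟨_, _, EuclideanDomain.gcd_eq_gcd_ab p ((X - C σ) ^ a)⟩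
    set d := EuclideanDomain.gcd p ((X - C σ) ^ a) with hd
    have hdv : aeval (g : V →ₗ[F] V) d v = 0 := by
      rw [hxy, map_add, mul_comm p x, mul_comm _ y, map_mul, map_mul, map_pow, LinearMap.add_apply,
        Module.End.mul_apply, Module.End.mul_apply, hp, h1, map_zero, map_zero, add_zero]
    obtain ⟨i, hi, hass⟩ := (dvd_prime_pow (prime_X_sub_C σ) a).1 (EuclideanDomain.gcd_dvd_right p ((X - C σ) ^ a))
    have hiv : ((aeval (g : V →ₗ[F] V) (X - C σ)) ^ i) v = 0 := by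
      obtain ⟨r, hr⟩ := hass.dvd
      rw [← map_pow, hr, mul_comm, map_mul, Module.End.mul_apply, hdv, map_zero]
    rcases hi.eq_or_lt with rfl | hlt
    · exact hass.symm.dvd.trans (EuclideanDomain.gcd_dvd_left p _)
    · exfalso
      apply h3
      have e : a - 1 = (a - 1 - i) + i := by omega
      rw [e, pow_add, Module.End.mul_apply, hiv, map_zero]
  · rintro ⟨r, rfl⟩
    rw [mul_comm, map_mul, Module.End.mul_apply, map_pow, h1, map_zero]

theorem aeval_X_sub (x : V) : aeval (g : V →ₗ[F] V) (X - C σ) x = g x - σ • x := by simp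

variable [NeZero a] {b : Basis (Fin a) F V} {c : F}

theorem JD.ann (h2 : (2 : F) ≠ 0) (hσ : σ = 1 ∨ σ = -1) (h : JD Q g σ b c) : Ann g (b 0) ((X - C σ) ^ a) := by
  have hs : σ * σ = 1 := by rcases hσ with rfl | rfl <;> ring
  have hE : aeval (g : V →ₗ[F] V) (X - C σ) = σ • (σ • en g - 1) := by
    apply LinearMap.ext
    intro x
    rw [aeval_X_sub]
    show _ = σ • (σ • g x - x)
    rw [smul_sub, smul_smul, hs, one_smul]
  obtain ⟨P, hP⟩ := NB_unit_sub b
  have h1 : σ • en g - 1 = (2 : F) • (NB b * ((P⁻¹ : (Module.End F V)ˣ) : Module.End F V)) := by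
    apply LinearMap.ext
    intro y
    obtain ⟨x, rfl⟩ := NB_sub_surj b y
    have h3 : ((P⁻¹ : (Module.End F V)ˣ) : Module.End F V) (x - NB b x) = x := by
      have h4 : ((P⁻¹ : (Module.End F V)ˣ) : Module.End F V) * (P : Module.End F V) = 1 := Units.inv_mul P
      rw [hP] at h4
      exact LinearMap.congr_fun h4 x
    show σ • g (x - NB b x) - (x - NB b x) = (2 : F) • NB b (((P⁻¹ : (Module.End F V)ˣ) : Module.End F V) (x - NB b x))
    rw [h3, h.cay, smul_smul, hs, one_smul]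
    module
  have hcomm : Commute (NB b) ((P⁻¹ : (Module.End F V)ˣ) : Module.End F V) := by
    apply Commute.units_inv_right
    rw [hP]
    exact (Commute.one_right _).sub_right (Commute.refl _)
  apply ann_of
  · rw [hE, _root_.smul_pow, h.unip hσ, smul_zero, LinearMap.zero_apply]
  · rw [hE, _root_.smul_pow, h1, _root_.smul_pow, hcomm.mul_pow, (hcomm.pow_pow _ _).eq, LinearMap.smul_apply,
      LinearMap.smul_apply, Module.End.mul_apply]
    have hσ0 : σ ≠ 0 := by rintro rfl; simp at hs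
    refine smul_ne_zero (pow_ne_zero _ hσ0) (smul_ne_zero (pow_ne_zero _ h2) ?_)
    intro h0
    have h5 : IsUnit ((((P⁻¹ : (Module.End F V)ˣ) : Module.End F V)) ^ (a - 1)) := by
      rw [← Units.val_pow_eq_pow_val]
      exact Units.isUnit _
    have h6 : (NB b ^ (a - 1)) (b 0) = 0 := ((Module.End.isUnit_iff _).1 h5).1 (h0.trans (map_zero _).symm)
    have hpos : 0 < a := Nat.pos_of_ne_zero (NeZero.ne a)
    rw [NB_pow, dif_pos (by rw [Fin.val_zero]; omega)] at h6
    exact b.ne_zero _ h6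

end Back

end Cfsg.Agent.H382.SRJ
end

-- part: H382/SRJ6
section
/-!
# TEAM SR, J pieces (helper382): the hypotheses `HypJT`, `HypJU` of the decomposition
-/

set_option autoImplicit false

namespace Cfsg.Agent.H382.SRJ

open QuadraticMap Module Polynomial
open Cfsg.Agent.LieClassical.OrthCore Cfsg.Agent.H160.QSpin Cfsg.Agent.H160.QDisc Cfsg.Agent.H160.QSplit
open Cfsg.Agent.H721.SR

universe u v

theorem hypJT (F : Type u) [Field F] (h2 : (2 : F) ≠ 0) : Cfsg.Agent.H853.SR.HypJT.{u, v} F := by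
  intro V _ _ _ _ Q g σ a v hQ hg hσ _ hC hcyc
  obtain ⟨b, c, hc, h, ho⟩ := exists_JD h2 hQ hg hσ hcyc hC
  have hfr : finrank F V = a := by rw [finrank_eq_card_basis b, Fintype.card_fin]
  have hF : Finite F := by
    have hpos : 0 < a := hC.pos
    have hne : b ⟨0, hpos⟩ ≠ 0 := b.ne_zero _
    exact Finite.of_injective (fun r : F => r • b ⟨0, hpos⟩) (smul_left_injective F hne)
  refine ⟨hfr, ?_⟩
  have h3 := h.T_one_if h2 hσ hc ho
  exact h3

theorem hypJU (F : Type u) [Field F] [Fintype F] [DecidableEq F] (h2 : (2 : F) ≠ 0) :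
    Cfsg.Agent.H853.SR.HypJU.{u, v} F := by
  intro V W _ _ _ _ _ _ _ _ Q Q' g g' σ a v v' hQ hQ' hg hg' hσ ha hC hcyc hC' hcyc' hd
  obtain ⟨b, c, hc, h, -⟩ := exists_JD h2 hQ hg hσ hcyc hC
  obtain ⟨b', c', hc', h', -⟩ := exists_JD h2 hQ' hg' hσ hcyc' hC'
  exact h.iso_of_dc h2 ha h' hc hc' hd

end Cfsg.Agent.H382.SRJ
end

-- part: H595/SR/Core
section
/-!
# TEAM SR, A pieces: the general step

`T_of_invol` : an isometric involution `h` inverting `g` (no eigenvalue `±1`, `dim V = 2 d`), and `r` in the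
centraliser of `g`, with adjoint `h r h`, nonsquare determinant and `det (r + h r h) ≠ 0`, give `T Q g ((-1)^d) s`
for both signs `s`.
-/

set_option autoImplicit false

namespace Cfsg.Agent.H595.SR

open Polynomial Module QuadraticMap
open Cfsg.Agent.LieClassical.OrthCore Cfsg.Agent.H160.QSpin Cfsg.Agent.H160.QDisc Cfsg.Agent.H160.QSplit
open Cfsg.Agent.H721.SR

section Adj

variable {F V : Type*} [Field F] [AddCommGroup V] [Module F V]

/-- adjoint of a polynomial in `g` -/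
theorem polar_aeval {Q : QuadraticForm F V} {g : V ≃ₗ[F] V} (hg : g ∈ O Q) (p : F[X]) (x y : V) :
    polar Q (aeval (en g) p x) y = polar Q x (aeval (en g⁻¹) p y) := by
  induction p using Polynomial.induction_on' generalizing x y with
  | add p q hp hq =>
    rw [map_add, map_add, LinearMap.add_apply, LinearMap.add_apply, polar_add_left, polar_add_right, hp, hq]
  | monomial n a =>
    have h1 : ∀ (n : ℕ) (x y : V), polar Q ((en g ^ n) x) y = polar Q x ((en g⁻¹ ^ n) y) := by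
      intro n
      induction n with
      | zero => intro x y; rfl
      | succ n ih =>
        intro x y
        rw [pow_succ', Module.End.mul_apply, pow_succ, Module.End.mul_apply]
        rw [← ih]
        exact polar_inv hg _ _
    rw [aeval_monomial, aeval_monomial, Module.End.mul_apply, Module.End.mul_apply, algebraMap_end_apply,
      algebraMap_end_apply, polar_smul_left, polar_smul_right, h1]

end Adj

variable {F V : Type*} [Field F] [Fintype F] [DecidableEq F] [AddCommGroup V] [Module F V] [FiniteDimensional F V]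
  [Finite V]

omit [Fintype F] [DecidableEq F] [Finite V] in
/-- a linear map which is injective has nonzero determinant -/
theorem det_ne_zero_of_inj {T : Module.End F V} (h : ∀ x, T x = 0 → x = 0) : LinearMap.det T ≠ 0 := by
  have h1 : LinearMap.ker T = ⊥ := by
    rw [LinearMap.ker_eq_bot']
    exact h
  have h2 : IsUnit T := (LinearMap.isUnit_iff_ker_eq_bot T).2 h1
  exact ((LinearMap.isUnit_iff_isUnit_det T).1 h2).ne_zero

omit [Fintype F] [DecidableEq F] [Finite V] in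
/-- a self-adjoint map commuting with a skew-adjoint isomorphism has square determinant -/
theorem isSquare_det_of_comm (h2 : (2 : F) ≠ 0) {Q : QuadraticForm F V} (hQ : Nondeg Q) {S e : Module.End F V}
    (hS : ∀ x y, polar Q (S x) y = - polar Q x (S y)) (he : ∀ x y, polar Q (e x) y = polar Q x (e y))
    (hc : S * e = e * S) (hSd : LinearMap.det S ≠ 0) (hed : LinearMap.det e ≠ 0) : IsSquare (LinearMap.det e) := by
  have key : ∀ (t : Module.End F V), (∀ x y, polar Q (t x) y = - polar Q x (t y)) → LinearMap.det t ≠ 0 →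
      IsSquare (gdet Q * LinearMap.det t) := by
    intro t ht htd
    let b := finBasis F V
    let A : LinearMap.BilinForm F V := LinearMap.BilinForm.compRight (polarBilin Q) t
    have hA : A.IsAlt := by
      intro x
      show polar Q x (t x) = 0
      have h1 := ht x x
      rw [polar_comm Q (t x) x] at h1
      have h3 : 2 * polar Q x (t x) = 0 := by linear_combination h1
      exact (mul_eq_zero.1 h3).resolve_left h2
    have hsurj : Function.Surjective t := by
      have h1 : IsUnit t := (LinearMap.isUnit_iff_isUnit_det t).2 (isUnit_iff_ne_zero.2 htd)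
      exact ((Module.End.isUnit_iff t).1 h1).2
    have hnd : ∀ u, (∀ v, A u v = 0) → u = 0 := by
      intro u hu
      apply hQ
      intro y
      obtain ⟨v, rfl⟩ := hsurj y
      exact hu v
    have h1 := isSquare_det_of_isAlt A hA hnd b
    have h3 : LinearMap.BilinForm.toMatrix b A =
        LinearMap.BilinForm.toMatrix b (polarBilin Q) * LinearMap.toMatrix b b t :=
      LinearMap.BilinForm.toMatrix_compRight b (polarBilin Q) t
    rw [h3, Matrix.det_mul, LinearMap.det_toMatrix] at h1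
    exact h1
  have k1 := key S hS hSd
  have k2 := key (e * S) (by
    intro x y
    rw [Module.End.mul_apply, he, hS, ← Module.End.mul_apply, hc]) (by
    rw [map_mul]; exact mul_ne_zero hed hSd)
  rw [map_mul] at k2
  obtain ⟨a, ha⟩ := k1
  obtain ⟨b, hb⟩ := k2
  have ha0 : a ≠ 0 := by
    rintro rfl
    rw [mul_zero] at ha
    exact (mul_ne_zero (gdet_ne hQ) hSd) ha
  refine ⟨b / a, ?_⟩
  have h3 : a * a * LinearMap.det e = b * b := by rw [← ha, ← hb]; ring
  field_simp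
  linear_combination h3

omit [Fintype F] [DecidableEq F] [Finite V] in
/-- the determinant of the inverting involution -/
theorem det_of_invol (h2 : (2 : F) ≠ 0) {h : V ≃ₗ[F] V} (hh : h * h = 1) {S : Module.End F V}
    (hS : ∀ x, h (S x) = - S (h x)) (hSi : ∀ x, S x = 0 → x = 0) {d : ℕ} (hd : finrank F V = 2 * d) :
    LinearMap.det (en h) = (-1) ^ d := by
  have hhv : ∀ v, en h (en h v) = v := fun v => LinearEquiv.congr_fun hh v
  rw [Cfsg.Agent.H382.Own5.det_invol h2 hhv]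
  congr 1
  have hc : IsCompl (Cfsg.Agent.H382.Own5.eig (en h) 1) (Cfsg.Agent.H382.Own5.eig (en h) (-1)) :=
    Cfsg.Agent.H382.Own5.eig_compl h2 one_ne_zero (fun v => by rw [hhv, one_mul, one_smul])
  have hadd := Submodule.finrank_add_eq_of_isCompl hc
  have hle : ∀ c c' : F, c' = -c → finrank F (Cfsg.Agent.H382.Own5.eig (en h) c) ≤
      finrank F (Cfsg.Agent.H382.Own5.eig (en h) c') := by
    intro c c' hcc
    let φ : Cfsg.Agent.H382.Own5.eig (en h) c →ₗ[F] Cfsg.Agent.H382.Own5.eig (en h) c' :=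
      (S.restrict (fun x hx => by
        rw [Cfsg.Agent.H382.Own5.mem_eig] at hx ⊢
        have h3 : en h (S x) = - S (en h x) := hS x
        rw [h3, hx, map_smul, hcc, neg_smul]) :
        Cfsg.Agent.H382.Own5.eig (en h) c →ₗ[F] Cfsg.Agent.H382.Own5.eig (en h) c')
    apply LinearMap.finrank_le_finrank_of_injective (f := φ)
    rw [← LinearMap.ker_eq_bot, LinearMap.ker_eq_bot']
    intro x hx
    apply Subtype.ext
    apply hSi
    exact congrArg Subtype.val hx
  have l1 := hle 1 (-1) rfl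
  have l2 := hle (-1) 1 (neg_neg 1).symm
  rw [hd] at hadd
  omega

/-- **general step** -/
theorem T_of_invol (h2 : (2 : F) ≠ 0) {Q : QuadraticForm F V} (hQ : Nondeg Q) {g h : V ≃ₗ[F] V}
    (hh : h * h = 1) (hhO : h ∈ O Q) (hhg : h * g * h⁻¹ = g⁻¹) {d : ℕ} (hd : finrank F V = 2 * d)
    (hg : g ∈ O Q) (hgi : ∀ x, g x = g⁻¹ x → x = 0)
    {r r' : Module.End F V} (hr : ∀ x y, polar Q (r x) y = polar Q x (r' y)) (hrr : r * r' = r' * r)
    (hrg : r * en g = en g * r) (hr'g : r' * en g = en g * r') (hhr : ∀ x, h (r x) = r' (h x))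
    (hns : ¬ IsSquare (LinearMap.det r)) (hne : LinearMap.det (r + r') ≠ 0) (s : ℤˣ) :
    T Q g ((-1) ^ d) s := by
  have hhv : ∀ v, h (h v) = v := fun v => LinearEquiv.congr_fun hh v
  have hinv : h⁻¹ = h := inv_eq_of_mul_eq_one_right hh
  have hhgv : ∀ v, h (g v) = g⁻¹ (h v) := by
    intro v
    have h3 := LinearEquiv.congr_fun hhg (h v)
    rw [hinv] at h3
    have h4 : (h * g * h) (h v) = h (g (h (h v))) := rfl
    rw [h4, hhv] at h3
    exact h3
  have hhgv' : ∀ v, h (g⁻¹ v) = g (h v) := by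
    intro v
    have h3 := hhgv (h v)
    rw [hhv] at h3
    rw [← h3, hhv]
  -- the skew map
  set S : Module.End F V := en g - en g⁻¹ with hS
  have hSa : ∀ x, S x = g x - g⁻¹ x := fun x => rfl
  have hSskew : ∀ x y, polar Q (S x) y = - polar Q x (S y) := by
    intro x y
    have i1 : polar Q (g⁻¹ x) y = polar Q x (g y) := by
      have := polar_inv ((O Q).inv_mem hg) x y
      rw [inv_inv] at this
      exact this
    rw [hSa, hSa, polar_sub_left, polar_sub_right, polar_inv hg, i1]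
    ring
  have hSi : ∀ x, S x = 0 → x = 0 := by
    intro x hx
    rw [hSa, sub_eq_zero] at hx
    exact hgi x hx
  have hdet : LinearEquiv.det h = (-1) ^ d := by
    apply Units.ext
    rw [LinearEquiv.coe_det]
    have h3 : LinearMap.det (en h) = (-1) ^ d := by
      refine det_of_invol h2 hh (S := S) (fun x => ?_) hSi hd
      rw [hSa, hSa, map_sub, hhgv, hhgv']
      abel
    rw [h3]
    simp only [_root_.Units.val_pow_eq_pow_val, _root_.Units.val_neg, _root_.Units.val_one]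
  by_cases hs : spin Q ⟨h, hhO⟩ = s
  · exact ⟨h, hhO, hh, hhg, hdet, hs⟩
  -- `c = r r'⁻¹`
  have hrdet : LinearMap.det r' = LinearMap.det r := by
    have h3 : r' = en h * r * en h := by
      apply LinearMap.ext
      intro x
      rw [Module.End.mul_apply, Module.End.mul_apply]
      show r' x = h (r (h x))
      rw [hhr, hhv]
    rw [h3, map_mul, map_mul]
    have h4 : LinearMap.det (en h) * LinearMap.det (en h) = 1 := by
      rw [← map_mul, ← en_mul, hh]
      exact map_one _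
    linear_combination (LinearMap.det r) * h4
  have hrne : LinearMap.det r ≠ 0 := by
    intro h0
    apply hns
    rw [h0]
    exact ⟨0, by simp⟩
  have hr'ne : LinearMap.det r' ≠ 0 := by rw [hrdet]; exact hrne
  have hr' : ∀ x y, polar Q (r' x) y = polar Q x (r y) := by
    intro x y
    rw [polar_comm, ← hr, polar_comm]
  have hru : IsUnit r := (LinearMap.isUnit_iff_isUnit_det r).2 (isUnit_iff_ne_zero.2 hrne)
  have hru' : IsUnit r' := (LinearMap.isUnit_iff_isUnit_det r').2 (isUnit_iff_ne_zero.2 hr'ne)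
  obtain ⟨u, hu⟩ := hru
  obtain ⟨u', hu'⟩ := hru'
  have huu : u * u' = u' * u := by
    apply Units.ext
    rw [Units.val_mul, Units.val_mul, hu, hu', hrr]
  let c : V ≃ₗ[F] V := LinearMap.GeneralLinearGroup.generalLinearEquiv F V (u * u'⁻¹)
  obtain ⟨ri, hri⟩ : ∃ ri : Module.End F V, ri = ((u'⁻¹ : (Module.End F V)ˣ) : Module.End F V) := ⟨_, rfl⟩
  have hcv : ∀ x, c x = r (ri x) := by
    intro x
    show ((u * u'⁻¹ : (Module.End F V)ˣ) : Module.End F V) x = _
    rw [Units.val_mul, Module.End.mul_apply, hu, hri]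
  have hu'v : ∀ x, r' (ri x) = x := by
    intro x
    have h3 := LinearMap.congr_fun (Units.mul_inv u') x
    rw [Module.End.mul_apply, hu', ← hri] at h3
    exact h3
  have hu'v' : ∀ x, ri (r' x) = x := by
    intro x
    have h3 := LinearMap.congr_fun (Units.inv_mul u') x
    rw [Module.End.mul_apply, hu', ← hri] at h3
    exact h3
  have hcr : ∀ x, c (r' x) = r x := by
    intro x
    rw [hcv, hu'v']
  have hsurj' : ∀ x, ∃ y, r' y = x := fun x => ⟨_, hu'v x⟩
  have hcO : c ∈ O Q := by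
    intro x
    obtain ⟨y, rfl⟩ := hsurj' x
    rw [hcr]
    have h3 : polar Q (r y) (r y) = polar Q (r' y) (r' y) := by
      rw [hr, hr', ← Module.End.mul_apply, ← Module.End.mul_apply, hrr]
    rw [polar_self', polar_self'] at h3
    exact mul_left_cancel₀ h2 h3
  have hcg : c * g = g * c := by
    ext x
    obtain ⟨y, rfl⟩ := hsurj' x
    show c (g (r' y)) = g (c (r' y))
    have h3 : g (r' y) = r' (g y) := (LinearMap.congr_fun hr'g y).symm
    rw [h3, hcr, hcr]
    exact LinearMap.congr_fun hrg y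
  have hhr' : ∀ x, h (r' x) = r (h x) := by
    intro x
    have h3 := hhr (h x)
    rw [hhv] at h3
    rw [← h3, hhv]
  have hch : (h * c) * (h * c) = 1 := by
    ext x
    obtain ⟨y, rfl⟩ := hsurj' x
    show h (c (h (c (r' y)))) = r' y
    rw [hcr, hhr, hcr, hhr, hhv]
  have hen : en c * r' = r := by
    apply LinearMap.ext
    intro x
    exact hcr x
  have hdetc : LinearMap.det (en c) = 1 := by
    have h3 := congrArg LinearMap.det hen
    rw [map_mul, hrdet] at h3
    exact mul_right_cancel₀ hrne (by rw [h3, one_mul])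
  have hdetc' : LinearEquiv.det c = 1 := by
    apply Units.ext
    rw [LinearEquiv.coe_det]
    exact hdetc
  have hdet1 : LinearMap.det (1 + en c) * LinearMap.det r' = LinearMap.det (r + r') := by
    rw [← map_mul, add_mul, one_mul, hen, add_comm]
  have hdet1ne : LinearMap.det (1 + en c) ≠ 0 := by
    intro h0
    rw [h0, zero_mul] at hdet1
    exact hne hdet1.symm
  have hsq : IsSquare (LinearMap.det (r + r')) := by
    refine isSquare_det_of_comm h2 hQ (S := S) hSskew (fun x y => ?_) ?_ (det_ne_zero_of_inj hSi) hne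
    · rw [LinearMap.add_apply, LinearMap.add_apply, polar_add_left, polar_add_right, hr, hr', add_comm]
    · have hcom : ∀ t : Module.End F V, t * en g = en g * t → t * en g⁻¹ = en g⁻¹ * t := by
        intro t ht
        have h3 : en g⁻¹ * (t * en g) * en g⁻¹ = en g⁻¹ * (en g * t) * en g⁻¹ := by rw [ht]
        rw [mul_assoc, mul_assoc, en_mul_inv, mul_one, ← mul_assoc (en g⁻¹) (en g) t, en_inv_mul, one_mul] at h3
        exact h3.symm
      have c1 := hcom r hrg
      have c2 := hcom r' hr'g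
      rw [hS, sub_mul, mul_sub, mul_add, mul_add, add_mul, add_mul, hrg, hr'g, c1, c2]
  have hqc : quadraticChar F (LinearMap.det (1 + en c)) = -1 := by
    have h3 := congrArg (quadraticChar F) hdet1
    rw [map_mul, hrdet, (quadraticChar_one_iff_isSquare hne).2 hsq, quadraticChar_neg_one_iff_not_isSquare.2 hns] at h3
    linarith only [h3]
  have hspin : ((spin Q ⟨c, hcO⟩ : ℤˣ) : ℤ) = -1 := by
    rw [Cfsg.Agent.H899.O7.Zass.zass h2 hQ ⟨d, by rw [hd]; ring⟩ (finrank F V) hcO hdetc' hdet1ne (by omega), hqc]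
  have hspin' : spin Q ⟨c, hcO⟩ = -1 := Units.ext hspin
  refine ⟨h * c, (O Q).mul_mem hhO hcO, hch, ?_, by rw [map_mul, hdetc', hdet, mul_one], ?_⟩
  · rw [mul_inv_rev, mul_assoc h c g, hcg]
    rw [← hhg]
    group
  · have h3 : (⟨h * c, (O Q).mul_mem hhO hcO⟩ : O Q) = ⟨h, hhO⟩ * ⟨c, hcO⟩ := rfl
    rw [h3, map_mul, hspin']
    rcases Int.units_eq_one_or (spin Q ⟨h, hhO⟩) with h4 | h4 <;> rcases Int.units_eq_one_or s with h5 | h5
    · exact absurd (h4.trans h5.symm) hs
    · rw [h4, h5, one_mul]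
    · rw [h4, h5, neg_mul_neg, one_mul]
    · exact absurd (h4.trans h5.symm) hs

end Cfsg.Agent.H595.SR
end

-- part: H595/SR/Gen
section
/-!
# TEAM SR, A pieces: the inverting involution of a cyclic module

* `mem_cyc` : `cyc g v` is the set of the `p(g) v`;
* `exists_invol` : if `V = F[g] u` there is an isometric involution `h` with `h (p(g) u) = p(g⁻¹) u`;
* `det_aeval` : `det p(g) = nm M p` if `V = F[g] u` and `(M)` is the annihilator of `u`;
* `T_of_gen` : the summary.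
-/

set_option autoImplicit false

namespace Cfsg.Agent.H595.SR

open Polynomial Module QuadraticMap
open Cfsg.Agent.LieClassical.OrthCore Cfsg.Agent.H160.QSpin Cfsg.Agent.H160.QDisc Cfsg.Agent.H160.QSplit
open Cfsg.Agent.H721.SR Cfsg.Agent.H152

section

variable {F V : Type*} [Field F] [AddCommGroup V] [Module F V]

theorem aeval_comm (T : Module.End F V) (p q : F[X]) (x : V) :
    aeval T p (aeval T q x) = aeval T q (aeval T p x) := by
  rw [← Module.End.mul_apply, ← Module.End.mul_apply, ← map_mul, ← map_mul, mul_comm]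

theorem aeval_inv_comm (g : V ≃ₗ[F] V) (p q : F[X]) :
    aeval (en g) p * aeval (en g⁻¹) q = aeval (en g⁻¹) q * aeval (en g) p := by
  have h : Commute (en g) (en g⁻¹) := by
    show en g * en g⁻¹ = en g⁻¹ * en g
    rw [en_mul_inv, en_inv_mul]
  have h1 : Commute (aeval (en g) p) (en g⁻¹) := by
    induction p using Polynomial.induction_on' with
    | add p q hp hq => rw [map_add]; exact hp.add_left hq
    | monomial n a =>
      rw [aeval_monomial]
      exact (Algebra.commute_algebraMap_left a _).mul_left (h.pow_left n)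
  have h2 : Commute (aeval (en g) p) (aeval (en g⁻¹) q) := by
    induction q using Polynomial.induction_on' with
    | add p q hp hq => rw [map_add]; exact hp.add_right hq
    | monomial n a =>
      rw [aeval_monomial]
      exact (Algebra.commute_algebraMap_right a _).mul_right (h1.pow_right n)
  exact h2

theorem aeval_inv_comm_apply (g : V ≃ₗ[F] V) (p q : F[X]) (x : V) :
    aeval (en g) p (aeval (en g⁻¹) q x) = aeval (en g⁻¹) q (aeval (en g) p x) :=
  LinearMap.congr_fun (aeval_inv_comm g p q) x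

theorem mem_cyc [Finite V] (g : V ≃ₗ[F] V) (v x : V) : x ∈ cyc g v ↔ ∃ p : F[X], aeval (en g) p v = x := by
  constructor
  · intro hx
    refine Submodule.span_induction ?_ ⟨0, by simp⟩ ?_ ?_ hx
    · rintro _ ⟨i, rfl⟩
      have hfin : Finite (V ≃ₗ[F] V) := Finite.of_injective (fun e : V ≃ₗ[F] V => (e : V → V)) DFunLike.coe_injective
      obtain ⟨n, hn⟩ : ∃ n : ℕ, g ^ n = g ^ i := by
        have h1 : g ^ i ∈ Submonoid.powers g := by
          rw [mem_powers_iff_mem_zpowers]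
          exact ⟨i, rfl⟩
        exact h1
      refine ⟨X ^ n, ?_⟩
      rw [map_pow, aeval_X, ← en_pow, hn]
      rfl
    · rintro x y _ _ ⟨p, rfl⟩ ⟨q, rfl⟩
      exact ⟨p + q, by rw [map_add]; rfl⟩
    · rintro a x _ ⟨p, rfl⟩
      exact ⟨C a * p, by rw [map_mul, aeval_C, Module.End.mul_apply, algebraMap_end_apply]⟩
  · rintro ⟨p, rfl⟩
    induction p using Polynomial.induction_on' with
    | add p q hp hq => rw [map_add]; exact Submodule.add_mem _ hp hq
    | monomial n a =>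
      rw [aeval_monomial, Module.End.mul_apply, algebraMap_end_apply, ← en_pow]
      apply Submodule.smul_mem
      apply Submodule.subset_span
      refine ⟨n, ?_⟩
      show (g ^ ((n : ℕ) : ℤ)) v = (g ^ n) v
      rw [zpow_natCast]

theorem cyc_inv [Finite V] (g : V ≃ₗ[F] V) (v : V) : cyc g⁻¹ v = cyc g v := by
  unfold cyc
  congr 1
  ext x
  constructor
  · rintro ⟨i, rfl⟩
    exact ⟨-i, by simp⟩
  · rintro ⟨i, rfl⟩
    exact ⟨-i, by simp⟩

/-- the module map `h` -/
theorem exists_invol (h2 : (2 : F) ≠ 0) {Q : QuadraticForm F V} (hQ : Nondeg Q) {g : V ≃ₗ[F] V} (hg : g ∈ O Q) {u : V}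
    (hu : ∀ x, ∃ p : F[X], aeval (en g) p u = x) :
    ∃ h : V ≃ₗ[F] V, h ∈ O Q ∧ h * h = 1 ∧ h * g * h⁻¹ = g⁻¹ ∧
      ∀ (p : F[X]) (x : V), h (aeval (en g) p x) = aeval (en g⁻¹) p (h x) := by
  let φ : F[X] →ₗ[F] V := (LinearMap.applyₗ u).comp (aeval (en g)).toLinearMap
  let ψ : F[X] →ₗ[F] V := (LinearMap.applyₗ u).comp (aeval (en g⁻¹)).toLinearMap
  have hφ : ∀ p, φ p = aeval (en g) p u := fun _ => rfl
  have hψ : ∀ p, ψ p = aeval (en g⁻¹) p u := fun _ => rfl
  have hφs : LinearMap.range φ = ⊤ := by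
    rw [LinearMap.range_eq_top]
    exact hu
  obtain ⟨σ, hσ⟩ := φ.exists_rightInverse_of_surjective hφs
  have hker : ∀ p, φ p = 0 → ψ p = 0 := by
    intro p hp
    rw [hφ] at hp
    rw [hψ]
    apply hQ
    intro y
    rw [polar_comm, ← polar_aeval hg]
    obtain ⟨q, rfl⟩ := hu y
    rw [aeval_comm, hp, map_zero]
    exact polar_zero_left Q _
  have hH : ∀ p, ψ (σ (φ p)) = ψ p := by
    intro p
    rw [← sub_eq_zero, ← map_sub]
    apply hker
    rw [map_sub]
    have := LinearMap.congr_fun hσ (φ p)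
    rw [LinearMap.comp_apply, LinearMap.id_apply] at this
    rw [this, sub_self]
  let H : V →ₗ[F] V := ψ.comp σ
  have hHa : ∀ p, H (aeval (en g) p u) = aeval (en g⁻¹) p u := hH
  have hHu : H u = u := by
    have := hHa 1
    rwa [map_one, map_one] at this
  have hHp : ∀ (p : F[X]) (x : V), H (aeval (en g) p x) = aeval (en g⁻¹) p (H x) := by
    intro p x
    obtain ⟨q, rfl⟩ := hu x
    have h3 : aeval (en g) p (aeval (en g) q u) = aeval (en g) (p * q) u := by rw [map_mul]; rfl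
    rw [h3, hHa, hHa, map_mul]
    rfl
  have hHg : ∀ x, H (g x) = g⁻¹ (H x) := by
    intro x
    have := hHp X x
    rwa [aeval_X, aeval_X] at this
  have hHg' : ∀ x, H (g⁻¹ x) = g (H x) := by
    intro x
    have h3 := hHg (g⁻¹ x)
    have h4 : g (g⁻¹ x) = x := g.apply_symm_apply x
    rw [h4] at h3
    rw [h3]
    exact (g.apply_symm_apply _).symm
  have hHp' : ∀ (p : F[X]) (x : V), H (aeval (en g⁻¹) p x) = aeval (en g) p (H x) := by
    intro p
    induction p using Polynomial.induction_on' with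
    | add p q hp hq =>
      intro x
      rw [map_add, map_add, LinearMap.add_apply, LinearMap.add_apply, map_add, hp, hq]
    | monomial n a =>
      intro x
      rw [aeval_monomial, aeval_monomial, Module.End.mul_apply, Module.End.mul_apply, algebraMap_end_apply,
        algebraMap_end_apply, map_smul]
      congr 1
      induction n generalizing x with
      | zero => rfl
      | succ n ih =>
        rw [pow_succ, pow_succ, Module.End.mul_apply, Module.End.mul_apply, ih]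
        congr 1
        exact hHg' x
  have hHH : ∀ x, H (H x) = x := by
    intro x
    obtain ⟨p, rfl⟩ := hu x
    rw [hHa, hHp', hHu]
  let h : V ≃ₗ[F] V := LinearEquiv.ofInvolutive H hHH
  have hh : ∀ x, h x = H x := fun _ => rfl
  have hhh : h * h = 1 := by
    ext x
    exact hHH x
  refine ⟨h, ?_, hhh, ?_, hHp⟩
  · intro x
    have h3 : polar Q (H x) (H x) = polar Q x x := by
      obtain ⟨p, rfl⟩ := hu x
      rw [hHa, ← polar_aeval hg, aeval_inv_comm_apply, polar_comm, ← polar_aeval hg]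
    rw [polar_self', polar_self'] at h3
    exact mul_left_cancel₀ h2 h3
  · have hinv : h⁻¹ = h := inv_eq_of_mul_eq_one_right hhh
    rw [hinv]
    ext x
    show H (g (H x)) = g⁻¹ x
    rw [hHg, hHH]

end

end Cfsg.Agent.H595.SR
end

-- part: H595/SR/OoddA
section
/-!
# TEAM SR, task SR-OODD_A: the A pieces (plan S4971, section 7)

* `T_cyclic` : cyclic piece, `f` does not divide `X ∓ 1`, `k` odd: `T Q g ((-1)^d) s` for both `s`;
* `T_pair`   : pair piece, `f` not associated to `f.reverse`, `k` odd: the same.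
-/

set_option autoImplicit false

namespace Cfsg.Agent.H595.SR

open Polynomial Module QuadraticMap
open Cfsg.Agent.LieClassical.OrthCore Cfsg.Agent.H160.QSpin Cfsg.Agent.H160.QDisc Cfsg.Agent.H160.QSplit
open Cfsg.Agent.H721.SR Cfsg.Agent.H152

section Gen

variable {F V : Type*} [Field F] [AddCommGroup V] [Module F V]

theorem aeval_mul_apply (T : Module.End F V) (p q : F[X]) (x : V) :
    aeval T (p * q) x = aeval T p (aeval T q x) := by
  rw [map_mul]; rfl

/-- multiplication by `q` is injective on a primary cyclic module if `f ∤ q` -/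
theorem inj_of_ann {T : Module.End F V} {v : V} {f : F[X]} {k : ℕ} (hf : Irreducible f)
    (hann : ∀ p : F[X], aeval T p v = 0 ↔ f ^ k ∣ p) {q : F[X]} (hq : ¬ f ∣ q) (p : F[X])
    (h : aeval T q (aeval T p v) = 0) : aeval T p v = 0 := by
  rw [← aeval_mul_apply, hann] at h
  rw [hann]
  have hc : IsCoprime (f ^ k) q := (hf.coprime_iff_not_dvd.2 hq).pow_left
  exact hc.dvd_of_dvd_mul_left h

/-- the determinant of `p(g)` on a cyclic module -/
theorem det_aeval_of_ann [FiniteDimensional F V] {T : Module.End F V} {u : V} {M : F[X]} (hM0 : M ≠ 0)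
    (hu : ∀ x, ∃ p : F[X], aeval T p u = x) (hann : ∀ p : F[X], aeval T p u = 0 ↔ M ∣ p) (p : F[X]) :
    LinearMap.det (aeval T p) = nm M p := by
  have h : IsCyc T (fun _ : Fin 1 => M) (fun _ => u) := by
    constructor
    · intro m
      obtain ⟨p, rfl⟩ := hu m
      exact ⟨fun _ => p, by rw [Fin.sum_univ_one]⟩
    · intro f
      rw [Fin.sum_univ_one, hann]
      exact ⟨fun h i => by rw [Subsingleton.elim i 0]; exact h, fun h => h 0⟩
  rw [h.det_of_equiv (fun _ => hM0) (aeval T p) (fun _ => p) (fun x i => h.equiv_aeval p x i), Fin.prod_univ_one]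

theorem not_isSquare_mul_sq {a c : F} (ha : ¬ IsSquare a) (hc : c ≠ 0) : ¬ IsSquare (a * c ^ 2) := by
  rintro ⟨b, hb⟩
  apply ha
  refine ⟨b / c, ?_⟩
  field_simp
  linear_combination hb

theorem not_isSquare_pow {a : F} (ha : ¬ IsSquare a) {k : ℕ} (hk : Odd k) : ¬ IsSquare (a ^ k) := by
  obtain ⟨j, rfl⟩ := hk
  have ha0 : a ≠ 0 := by
    rintro rfl
    exact ha ⟨0, by simp⟩
  have := not_isSquare_mul_sq ha (pow_ne_zero j ha0)
  have e : a ^ (2 * j + 1) = a * (a ^ j) ^ 2 := by ring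
  rwa [e]

theorem exists_not_isSquare [Fintype F] [DecidableEq F] (h2 : (2 : F) ≠ 0) : ∃ a : F, ¬ IsSquare a := by
  obtain ⟨a, -, ha⟩ := exists_qc h2 (Or.inr rfl : (-1 : ℤ) = 1 ∨ (-1 : ℤ) = -1)
  exact ⟨a, quadraticChar_neg_one_iff_not_isSquare.1 ha⟩

theorem exists_order [Finite V] (g : V ≃ₗ[F] V) : ∃ n : ℕ, g ^ (n + 1) = 1 := by
  have hfin : Finite (V ≃ₗ[F] V) := Finite.of_injective (fun e : V ≃ₗ[F] V => (e : V → V)) DFunLike.coe_injective
  refine ⟨orderOf g - 1, ?_⟩
  rw [Nat.sub_add_cancel (orderOf_pos g)]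
  exact pow_orderOf_eq_one g

theorem en_inv_eq {g : V ≃ₗ[F] V} {n : ℕ} (hn : g ^ (n + 1) = 1) : en g⁻¹ = en g ^ n := by
  rw [← en_pow]
  congr 1
  rw [pow_succ] at hn
  exact (eq_inv_of_mul_eq_one_left hn).symm

/-- a polynomial in `g⁻¹` is a polynomial in `g` -/
theorem aeval_inv_eq {g : V ≃ₗ[F] V} {n : ℕ} (hn : g ^ (n + 1) = 1) (p : F[X]) :
    aeval (en g⁻¹) p = aeval (en g) (p.comp (X ^ n)) := by
  rw [aeval_comp, map_pow, aeval_X, en_inv_eq hn]

theorem aeval_pow_sub_one {g : V ≃ₗ[F] V} {n : ℕ} (hn : g ^ (n + 1) = 1) :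
    aeval (en g) (X ^ (n + 1) - 1 : F[X]) = 0 := by
  rw [map_sub, map_pow, aeval_X, map_one, ← en_pow, hn]
  exact sub_self _

end Gen

variable {F V : Type*} [Field F] [Fintype F] [AddCommGroup V] [Module F V] [Finite V]

/-- the summary for a cyclic module -/
theorem T_of_gen (h2 : (2 : F) ≠ 0) {Q : QuadraticForm F V} (hQ : Nondeg Q) {g : V ≃ₗ[F] V} (hg : g ∈ O Q) {u : V}
    (hu : ∀ x, ∃ p : F[X], aeval (en g) p u = x) (hgi : ∀ x, g x = g⁻¹ x → x = 0) {d : ℕ}
    (hd : finrank F V = 2 * d) {P : F[X]} (hP : ¬ IsSquare (LinearMap.det (aeval (en g) P)))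
    (hP' : LinearMap.det (aeval (en g) P + aeval (en g⁻¹) P) ≠ 0) (s : ℤˣ) : T Q g ((-1) ^ d) s := by
  classical
  have hfd : FiniteDimensional F V := Module.Finite.of_finite
  obtain ⟨h, hhO, hhh, hhg, hp⟩ := exists_invol h2 hQ hg hu
  have hX : aeval (en g) P * en g = en g * aeval (en g) P := by
    have h1 : aeval (en g) P * aeval (en g) (X : F[X]) = aeval (en g) (X : F[X]) * aeval (en g) P := by
      rw [← map_mul, ← map_mul, mul_comm]
    rwa [aeval_X] at h1
  have hX' : aeval (en g⁻¹) P * en g = en g * aeval (en g⁻¹) P := by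
    have h1 := aeval_inv_comm g (X : F[X]) P
    rw [aeval_X] at h1
    exact h1.symm
  exact T_of_invol h2 hQ hhh hhO hhg hd hg hgi (polar_aeval hg P) (aeval_inv_comm g P P) hX hX' (hp P) hP hP' s

omit [Fintype F] [Finite V] in
/-- `g x = g⁻¹ x` -/
theorem sq_of_eq {g : V ≃ₗ[F] V} {x : V} (h : g x = g⁻¹ x) : aeval (en g) (X ^ 2 - 1 : F[X]) x = 0 := by
  have h1 : g (g x) = x := by
    rw [h]
    exact g.apply_symm_apply x
  rw [map_sub, map_pow, aeval_X, map_one, LinearMap.sub_apply, pow_two, Module.End.mul_apply]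
  show g (g x) - x = 0
  rw [h1, sub_self]

omit [Fintype F] in
theorem not_dvd_sq_sub_one {f : F[X]} (hf : Irreducible f) (h1 : ¬ f ∣ X - 1) (h3 : ¬ f ∣ X + 1) :
    ¬ f ∣ X ^ 2 - 1 := by
  have e : (X ^ 2 - 1 : F[X]) = (X - 1) * (X + 1) := by ring
  rw [e]
  intro h
  rcases hf.prime.dvd_or_dvd h with h | h
  · exact h1 h
  · exact h3 h

/-- **SR-OODD_A, cyclic pieces.** -/
theorem T_cyclic' (h2 : (2 : F) ≠ 0) {Q : QuadraticForm F V} (hQ : Nondeg Q) {g : V ≃ₗ[F] V} (hg : g ∈ O Q) {v : V}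
    (hV : cyc g v = ⊤) {f : F[X]} {k : ℕ} (hf : Irreducible f) (hann : Ann g v (f ^ k)) (hk : Odd k)
    (hf1 : ¬ f ∣ X - 1) (hf2 : ¬ f ∣ X + 1) {d : ℕ} (hd : finrank F V = 2 * d) (s : ℤˣ) :
    T Q g ((-1) ^ d) s := by
  classical
  have hfd : FiniteDimensional F V := Module.Finite.of_finite
  have hu : ∀ x, ∃ p : F[X], aeval (en g) p v = x := by
    intro x
    rw [← mem_cyc, hV]
    trivial
  have hann' : ∀ p : F[X], aeval (en g) p v = 0 ↔ f ^ k ∣ p := hann
  obtain ⟨n, hn⟩ := exists_order g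
  have hsq : ¬ f ∣ X ^ 2 - 1 := not_dvd_sq_sub_one hf hf1 hf2
  have hk0 : k ≠ 0 := by rintro rfl; exact absurd hk (by decide)
  have hgi : ∀ x, g x = g⁻¹ x → x = 0 := by
    intro x hx
    obtain ⟨p, rfl⟩ := hu x
    exact inj_of_ann hf hann' hsq p (sq_of_eq hx)
  -- nonsingular polynomials
  have hns : ∀ q : F[X], ¬ f ∣ q → LinearMap.det (aeval (en g) q) ≠ 0 := by
    intro q hq
    apply det_ne_zero_of_inj
    intro x hx
    obtain ⟨p, rfl⟩ := hu x
    exact inj_of_ann hf hann' hq p hx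
  have hfk : f ^ k ∣ X ^ (n + 1) - 1 := by
    rw [← hann', aeval_pow_sub_one hn]
    rfl
  have hfN : f ∣ X ^ (n + 1) - 1 := (dvd_pow_self f hk0).trans hfk
  have hdet : ∀ p : F[X], LinearMap.det (aeval (en g) p) = nm f p ^ k := by
    intro p
    rw [det_aeval_of_ann (pow_ne_zero k hf.ne_zero) hu hann', nm_pow_left hf.ne_zero]
  obtain ⟨a, ha⟩ := exists_not_isSquare (F := F) h2
  obtain ⟨P, hP⟩ := exists_nm hf a
  have hPns : ¬ IsSquare (LinearMap.det (aeval (en g) P)) := by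
    rw [hdet, hP]
    exact not_isSquare_pow ha hk
  have hsum : ∀ p : F[X], aeval (en g) p + aeval (en g⁻¹) p = aeval (en g) (p + p.comp (X ^ n)) := by
    intro p
    rw [aeval_inv_eq hn, map_add]
  by_cases hdiv : f ∣ P + P.comp (X ^ n)
  · refine T_of_gen h2 hQ hg hu hgi hd (P := P * (X + 1) ^ 2) ?_ ?_ s
    · rw [map_mul, map_pow, map_mul, map_pow]
      exact not_isSquare_mul_sq hPns (hns _ hf2)
    · rw [hsum]
      apply hns
      intro hd2
      rw [mul_comp, pow_comp, add_comp, X_comp, one_comp] at hd2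
      -- multiply by `X ^ 2`
      have h3 : f ∣ P * ((X ^ 2 - 1) * (X + 1) ^ 2) := by
        have e : P * ((X ^ 2 - 1) * (X + 1) ^ 2) =
            X ^ 2 * (P * (X + 1) ^ 2 + P.comp (X ^ n) * (X ^ n + 1) ^ 2) -
              (P + P.comp (X ^ n)) * (X ^ 2 * (X ^ n + 1) ^ 2) +
              (X ^ (n + 1) - 1) * (P * (X ^ (n + 1) + 1 + 2 * X)) := by
          ring
        rw [e]
        exact dvd_add (dvd_sub (hd2.mul_left _) (hdiv.mul_right _)) (hfN.mul_right _)
      rcases hf.prime.dvd_or_dvd h3 with h4 | h4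
      · have h6 : nm f P = nm f 0 := nm_congr (by rwa [sub_zero])
        have h7 : nm f (0 : F[X]) * nm f 0 = nm f 0 := by rw [← nm_mul, mul_zero]
        rw [← h6, hP] at h7
        exact ha ⟨a, h7.symm⟩
      · rcases hf.prime.dvd_or_dvd h4 with h5 | h5
        · exact hsq h5
        · exact hf2 (hf.prime.dvd_of_dvd_pow h5)
  · refine T_of_gen h2 hQ hg hu hgi hd hPns ?_ s
    rw [hsum]
    exact hns _ hdiv

omit [Fintype F] in
/-- an irreducible divisor of `X ∓ 1` is associated to its reverse -/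
theorem associated_reverse {f : F[X]} (hf : Irreducible f) (h : f ∣ X - 1 ∨ f ∣ X + 1) : Associated f f.reverse := by
  have hc : ∀ c : F, c = 1 ∨ c = -1 → f ∣ X - C c → Associated f f.reverse := by
    intro c hc h
    have h1 : Associated f (X - C c) := hf.associated_of_dvd (irreducible_X_sub_C c) h
    obtain ⟨u, hu⟩ := h1.symm
    obtain ⟨a, ha, ha'⟩ := Polynomial.isUnit_iff.1 u.isUnit
    rw [← ha'] at hu
    have hr : (X - C c : F[X]).reverse = C (-c) * (X - C c) := by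
      have h3 : (X - C c : F[X]).natDegree = 1 := natDegree_X_sub_C c
      unfold Polynomial.reverse
      rw [h3, reflect_sub, reflect_one_X, reflect_C]
      have h4 : c * c = 1 := by rcases hc with rfl | rfl <;> norm_num
      rw [map_neg, neg_mul, mul_sub, ← C_mul, h4, C_1, pow_one]
      ring
    rw [← hu, reverse_mul_of_domain, reverse_C, hr]
    have hcu : IsUnit (C (-c) : F[X]) := by
      rw [isUnit_C]
      rcases hc with rfl | rfl <;> simp
    obtain ⟨w, hw⟩ := hcu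
    refine ⟨w, ?_⟩
    rw [hw]
    ring
  rcases h with h | h
  · exact hc 1 (Or.inl rfl) (by rwa [C_1])
  · exact hc (-1) (Or.inr rfl) (by rw [C_neg, C_1, sub_neg_eq_add]; exact h)

omit [Fintype F] in
theorem not_dvd_reverse {f : F[X]} (hf : Irreducible f) (h : ¬ Associated f f.reverse) : ¬ f ∣ f.reverse := by
  rintro ⟨c, hc⟩
  apply h
  have h0 : f.reverse ≠ 0 := by rw [Ne, reverse_eq_zero]; exact hf.ne_zero
  have hc0 : c ≠ 0 := by rintro rfl; rw [mul_zero] at hc; exact h0 hc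
  have h1 := reverse_natDegree_le f
  rw [hc, natDegree_mul hf.ne_zero hc0] at h1
  have h3 : c.natDegree = 0 := by omega
  have h4 : IsUnit c := by
    rw [Polynomial.isUnit_iff]
    rw [natDegree_eq_zero] at h3
    obtain ⟨a, rfl⟩ := h3
    refine ⟨a, ?_, rfl⟩
    rw [isUnit_iff_ne_zero]
    rintro rfl
    exact hc0 (map_zero C)
  obtain ⟨u, hu⟩ := h4
  exact ⟨u, by rw [hu, hc]⟩

/-- **SR-OODD_A, pair pieces.** -/
theorem T_pair' (h2 : (2 : F) ≠ 0) {Q : QuadraticForm F V} (hQ : Nondeg Q) {g : V ≃ₗ[F] V} (hg : g ∈ O Q) {v w : V}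
    (hV : cyc g v ⊔ cyc g w = ⊤) {f : F[X]} {k : ℕ} (hf : Irreducible f) (hannv : Ann g v (f ^ k))
    (hannw : Ann g⁻¹ w (f ^ k)) (isov : Iso0 (polarBilin Q) (cyc g v)) (isow : Iso0 (polarBilin Q) (cyc g w))
    (hk : Odd k) (hfr : ¬ Associated f f.reverse) {d : ℕ} (hd : finrank F V = 2 * d) (s : ℤˣ) :
    T Q g ((-1) ^ d) s := by
  classical
  have hfd : FiniteDimensional F V := Module.Finite.of_finite
  have hv' : ∀ p : F[X], aeval (en g) p v = 0 ↔ f ^ k ∣ p := hannv
  have hw' : ∀ p : F[X], aeval (en g⁻¹) p w = 0 ↔ f ^ k ∣ p := hannw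
  obtain ⟨n, hn⟩ := exists_order g
  have hk0 : k ≠ 0 := by rintro rfl; exact absurd hk (by decide)
  have hsq : ¬ f ∣ X ^ 2 - 1 := not_dvd_sq_sub_one hf (fun h => hfr (associated_reverse hf (Or.inl h)))
    (fun h => hfr (associated_reverse hf (Or.inr h)))
  have hfN : f ∣ X ^ (n + 1) - 1 := by
    refine (dvd_pow_self f hk0).trans ?_
    rw [← hv', aeval_pow_sub_one hn]
    rfl
  have hfX : ¬ f ∣ X := by
    intro h
    have h1 : f ∣ 1 := by
      have e : (1 : F[X]) = X ^ (n + 1) - (X ^ (n + 1) - 1) := by ring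
      rw [e]
      exact dvd_sub (h.trans (dvd_pow_self X (Nat.succ_ne_zero n))) hfN
    exact hf.not_isUnit (isUnit_of_dvd_one h1)
  -- the reversed polynomial kills `w`
  have hrev : aeval (en g) (f.reverse ^ k) w = 0 := by
    let ug : (Module.End F V)ˣ := ⟨en g, en g⁻¹, en_mul_inv g, en_inv_mul g⟩
    have h1 := aeval_reverse (F := F) ug⁻¹ f
    rw [inv_inv] at h1
    have h3 : aeval (en g) f.reverse * (en g⁻¹) ^ f.natDegree = aeval (en g⁻¹) f := h1
    have h4 : aeval (en g) f.reverse = aeval (en g⁻¹) f * aeval (en g) (X ^ f.natDegree : F[X]) := by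
      rw [← h3, map_pow, aeval_X, mul_assoc, ← en_pow, ← en_pow, ← en_mul, inv_pow, inv_mul_cancel]
      exact (mul_one _).symm
    have h5 : aeval (en g) (f.reverse ^ k) =
        aeval (en g) ((X ^ f.natDegree) ^ k : F[X]) * aeval (en g⁻¹) (f ^ k) := by
      have hcm : Commute (aeval (en g⁻¹) f) (aeval (en g) (X ^ f.natDegree : F[X])) :=
        (aeval_inv_comm g (X ^ f.natDegree : F[X]) f).symm
      rw [map_pow, h4, hcm.mul_pow, ← map_pow, ← map_pow, aeval_inv_comm]
    rw [h5, Module.End.mul_apply, (hw' _).2 dvd_rfl, map_zero]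
  -- the idempotent `e`
  have hco : IsCoprime (f ^ k) (f.reverse ^ k) :=
    (hf.coprime_iff_not_dvd.2 (not_dvd_reverse hf hfr)).pow
  obtain ⟨a, b, hab⟩ := hco
  obtain ⟨e, he⟩ : ∃ e : F[X], e = b * f.reverse ^ k := ⟨_, rfl⟩
  have he1 : f ^ k ∣ 1 - e := ⟨a, by rw [he, ← hab]; ring⟩
  have hew : aeval (en g) e w = 0 := by rw [he, aeval_mul_apply, hrev, map_zero]
  have hev : aeval (en g) e v = v := by
    have h1 := (hv' _).2 he1
    rw [map_sub, map_one, LinearMap.sub_apply] at h1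
    exact (sub_eq_zero.1 h1).symm
  have hecv : ∀ y ∈ cyc g v, aeval (en g) e y = y := by
    intro y hy
    obtain ⟨p, rfl⟩ := (mem_cyc g v y).1 hy
    rw [aeval_comm, hev]
  have hecw : ∀ z ∈ cyc g w, aeval (en g) e z = 0 := by
    intro z hz
    obtain ⟨p, rfl⟩ := (mem_cyc g w z).1 hz
    rw [aeval_comm, hew, map_zero]
  have hcycv : ∀ (p : F[X]), ∀ y ∈ cyc g v, aeval (en g) p y ∈ cyc g v := by
    intro p y hy
    obtain ⟨q, rfl⟩ := (mem_cyc g v y).1 hy
    rw [mem_cyc]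
    exact ⟨p * q, aeval_mul_apply _ _ _ _⟩
  have hcycw : ∀ (p : F[X]), ∀ y ∈ cyc g w, aeval (en g) p y ∈ cyc g w := by
    intro p y hy
    obtain ⟨q, rfl⟩ := (mem_cyc g w y).1 hy
    rw [mem_cyc]
    exact ⟨p * q, aeval_mul_apply _ _ _ _⟩
  have hcycw' : ∀ (p : F[X]), ∀ y ∈ cyc g w, aeval (en g⁻¹) p y ∈ cyc g w := by
    intro p y hy
    rw [aeval_inv_eq hn]
    exact hcycw _ y hy
  have hcycv' : ∀ (p : F[X]), ∀ y ∈ cyc g v, aeval (en g⁻¹) p y ∈ cyc g v := by
    intro p y hy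
    rw [aeval_inv_eq hn]
    exact hcycv _ y hy
  have hdec : ∀ x, ∃ y ∈ cyc g v, ∃ z ∈ cyc g w, y + z = x := by
    intro x
    rw [← Submodule.mem_sup, hV]
    trivial
  have hvv : v ∈ cyc g v := (mem_cyc g v v).2 ⟨1, by rw [map_one]; rfl⟩
  have hww : w ∈ cyc g w := (mem_cyc g w w).2 ⟨1, by rw [map_one]; rfl⟩
  -- the adjoint of `e`
  have he'v : ∀ x ∈ cyc g v, aeval (en g⁻¹) e x = 0 := by
    intro x hx
    apply hQ
    intro y
    obtain ⟨y, hy, z, hz, rfl⟩ := hdec y
    rw [polar_comm, ← polar_aeval hg, map_add, hecw z hz, add_zero]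
    exact isov _ (hcycv e y hy) _ hx
  have he'w : ∀ x ∈ cyc g w, aeval (en g⁻¹) e x = x := by
    intro x hx
    rw [← sub_eq_zero]
    apply hQ
    intro y
    obtain ⟨y, hy, z, hz, rfl⟩ := hdec y
    rw [polar_sub_left, polar_comm, ← polar_aeval hg, map_add, hecw z hz, add_zero, hecv y hy, polar_comm Q x,
      polar_add_left]
    have h1 : polar Q z x = 0 := isow _ hz _ hx
    rw [h1, add_zero, sub_self]
  -- the generator `u = v + w`
  obtain ⟨u, hu0⟩ : ∃ u, u = v + w := ⟨_, rfl⟩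
  have hu : ∀ x, ∃ p : F[X], aeval (en g) p u = x := by
    intro x
    obtain ⟨y, hy, z, hz, rfl⟩ := hdec x
    obtain ⟨p, rfl⟩ := (mem_cyc g v y).1 hy
    obtain ⟨q, rfl⟩ := (mem_cyc g w z).1 hz
    refine ⟨p * e + q * (1 - e), ?_⟩
    have k1 : aeval (en g) (p * e + q * (1 - e)) v = aeval (en g) p v := by
      rw [map_add, LinearMap.add_apply, aeval_mul_apply, aeval_mul_apply, map_sub, map_one, LinearMap.sub_apply, hev]
      show aeval (en g) p v + aeval (en g) q (v - v) = _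
      rw [sub_self, map_zero, add_zero]
    have k2 : aeval (en g) (p * e + q * (1 - e)) w = aeval (en g) q w := by
      rw [map_add, LinearMap.add_apply, aeval_mul_apply, aeval_mul_apply, map_sub, map_one, LinearMap.sub_apply, hew,
        map_zero, zero_add, sub_zero]
      rfl
    rw [hu0, LinearMap.map_add, k1, k2]
  -- the annihilator of `w`
  obtain ⟨m, hm⟩ : ∃ m : F[X], ∀ p : F[X], aeval (en g) p w = 0 ↔ m ∣ p := by
    let I : Ideal F[X] :=
      { carrier := {p | aeval (en g) p w = 0}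
        add_mem' := fun {a b} ha hb => by
          show aeval (en g) (a + b) w = 0
          rw [map_add, LinearMap.add_apply, ha, hb, add_zero]
        zero_mem' := by
          show aeval (en g) (0 : F[X]) w = 0
          rw [map_zero]; rfl
        smul_mem' := fun c x hx => by
          show aeval (en g) (c * x) w = 0
          rw [aeval_mul_apply, hx, map_zero] }
    refine ⟨Submodule.IsPrincipal.generator I, fun p => ?_⟩
    rw [← Ideal.mem_span_singleton, Ideal.span_singleton_generator]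
    exact Iff.rfl
  have hm0 : m ≠ 0 := by
    rintro rfl
    have h1 := (hm _).1 hrev
    rw [zero_dvd_iff] at h1
    exact pow_ne_zero k (by rw [Ne, reverse_eq_zero]; exact hf.ne_zero) h1
  have hcom : IsCoprime (f ^ k) m :=
    IsCoprime.of_isCoprime_of_dvd_right (⟨a, b, hab⟩ : IsCoprime (f ^ k) (f.reverse ^ k)) ((hm _).1 hrev)
  have hannu : ∀ p : F[X], aeval (en g) p u = 0 ↔ f ^ k * m ∣ p := by
    intro p
    constructor
    · intro h
      have h1 : aeval (en g) p v = 0 := by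
        have h3 : aeval (en g) e (aeval (en g) p u) = aeval (en g) p v := by
          rw [aeval_comm, hu0, map_add, hev, hew, add_zero]
        rw [← h3, h, map_zero]
      have h3 : aeval (en g) p w = 0 := by
        rw [hu0, map_add, h1, zero_add] at h
        exact h
      exact hcom.mul_dvd ((hv' p).1 h1) ((hm p).1 h3)
    · intro h
      rw [hu0, map_add, (hv' p).2 ((dvd_mul_right _ _).trans h), (hm p).2 ((dvd_mul_left _ _).trans h), add_zero]
  have hdet : ∀ p : F[X], LinearMap.det (aeval (en g) (p * e + (1 - e))) = nm f p ^ k := by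
    intro p
    rw [det_aeval_of_ann (mul_ne_zero (pow_ne_zero k hf.ne_zero) hm0) hu hannu,
      nm_mul_left (pow_ne_zero k hf.ne_zero) hm0]
    have h1 : nm (f ^ k) (p * e + (1 - e)) = nm (f ^ k) p := by
      apply nm_congr
      have e1 : p * e + (1 - e) - p = (1 - e) * (1 - p) := by ring
      rw [e1]
      exact he1.mul_right _
    have h3 : nm m (p * e + (1 - e)) = nm m 1 := by
      apply nm_congr
      have e1 : p * e + (1 - e) - 1 = e * (p - 1) := by ring
      rw [e1]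
      exact ((hm e).1 hew).mul_right _
    rw [h1, h3, nm_one_right, mul_one, nm_pow_left hf.ne_zero]
  -- no eigenvalues `±1`
  have hinjv : ∀ q : F[X], ¬ f ∣ q → ∀ y ∈ cyc g v, aeval (en g) q y = 0 → y = 0 := by
    intro q hq y hy h
    obtain ⟨p, rfl⟩ := (mem_cyc g v y).1 hy
    exact inj_of_ann hf hv' hq p h
  have hinjw : ∀ q : F[X], ¬ f ∣ q → ∀ y ∈ cyc g w, aeval (en g⁻¹) q y = 0 → y = 0 := by
    intro q hq y hy h
    rw [← cyc_inv] at hy
    obtain ⟨p, rfl⟩ := (mem_cyc g⁻¹ w y).1 hy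
    exact inj_of_ann hf hw' hq p h
  have hgi : ∀ x, g x = g⁻¹ x → x = 0 := by
    intro x hx
    have h1 := sq_of_eq hx
    have h3 : aeval (en g⁻¹) (X ^ 2 - 1 : F[X]) x = 0 := by
      apply sq_of_eq
      rw [inv_inv]
      exact hx.symm
    obtain ⟨y, hy, z, hz, rfl⟩ := hdec x
    have hy0 : y = 0 := by
      apply hinjv _ hsq y hy
      have h4 : aeval (en g) e (aeval (en g) (X ^ 2 - 1 : F[X]) (y + z)) = aeval (en g) (X ^ 2 - 1 : F[X]) y := by
        rw [aeval_comm, map_add, hecv y hy, hecw z hz, add_zero]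
      rw [← h4, h1, map_zero]
    have hz0 : z = 0 := by
      apply hinjw _ hsq z hz
      rw [hy0, zero_add] at h3
      exact h3
    rw [hy0, hz0, add_zero]
  -- the choice of `p`
  obtain ⟨c, hc⟩ := exists_not_isSquare (F := F) h2
  obtain ⟨p, hp, hp1⟩ : ∃ p : F[X], ¬ IsSquare (nm f p) ∧ ¬ f ∣ p + 1 := by
    obtain ⟨p, hp⟩ := exists_nm hf c
    by_cases hdiv : f ∣ p + 1
    · refine ⟨p * X ^ 2, ?_, ?_⟩
      · rw [pow_two, nm_mul, nm_mul, hp, ← pow_two]
        apply not_isSquare_mul_sq hc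
        intro h0
        obtain ⟨a', b', hab'⟩ := hf.coprime_iff_not_dvd.2 hfX
        have h1 : nm f (b' * X) = nm f 1 := by
          apply nm_congr
          rw [← hab']
          exact ⟨-a', by ring⟩
        rw [nm_mul, h0, mul_zero, nm_one_right] at h1
        exact zero_ne_one h1
      · intro h
        apply hsq
        have e1 : (X ^ 2 - 1 : F[X]) = (p + 1) * X ^ 2 - (p * X ^ 2 + 1) := by ring
        rw [e1]
        exact dvd_sub (hdiv.mul_right _) h
    · exact ⟨p, by rw [hp]; exact hc, hdiv⟩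
  refine T_of_gen h2 hQ hg hu hgi hd (P := p * e + (1 - e)) ?_ ?_ s
  · rw [hdet]
    exact not_isSquare_pow hp hk
  · apply det_ne_zero_of_inj
    intro x hx
    obtain ⟨y, hy, z, hz, rfl⟩ := hdec x
    have a1 : aeval (en g) (p * e + (1 - e)) y = aeval (en g) p y := by
      rw [map_add, LinearMap.add_apply, aeval_mul_apply, hecv y hy, map_sub, map_one, LinearMap.sub_apply, hecv y hy]
      show aeval (en g) p y + (y - y) = _
      rw [sub_self, add_zero]
    have a2 : aeval (en g) (p * e + (1 - e)) z = z := by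
      rw [map_add, LinearMap.add_apply, aeval_mul_apply, hecw z hz, map_sub, map_one, LinearMap.sub_apply, hecw z hz,
        map_zero, zero_add, sub_zero]
      rfl
    have a3 : aeval (en g⁻¹) (p * e + (1 - e)) y = y := by
      rw [map_add, LinearMap.add_apply, aeval_mul_apply, he'v y hy, map_sub, map_one, LinearMap.sub_apply, he'v y hy,
        map_zero, zero_add, sub_zero]
      rfl
    have a4 : aeval (en g⁻¹) (p * e + (1 - e)) z = aeval (en g⁻¹) p z := by
      rw [map_add, LinearMap.add_apply, aeval_mul_apply, he'w z hz, map_sub, map_one, LinearMap.sub_apply, he'w z hz]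
      show aeval (en g⁻¹) p z + (z - z) = _
      rw [sub_self, add_zero]
    rw [LinearMap.add_apply, LinearMap.map_add, LinearMap.map_add, a1, a2, a3, a4] at hx
    have hx' : aeval (en g) (p + 1) y + aeval (en g⁻¹) (p + 1) z = 0 := by
      rw [map_add, map_add, map_one, map_one, LinearMap.add_apply, LinearMap.add_apply, ← hx]
      show aeval (en g) p y + y + (aeval (en g⁻¹) p z + z) = _
      abel
    have hy0 : y = 0 := by
      apply hinjv _ hp1 y hy
      have h4 := congrArg (aeval (en g) e) hx'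
      rw [map_add, hecv _ (hcycv _ y hy), hecw _ (hcycw' _ z hz), add_zero, map_zero] at h4
      exact h4
    have hz0 : z = 0 := by
      apply hinjw _ hp1 z hz
      rw [hy0, map_zero, zero_add] at hx'
      exact hx'
    rw [hy0, hz0, add_zero]

/-- **SR-OODD_A, cyclic pieces** (interface form). -/
theorem T_cyclic (h2 : (2 : F) ≠ 0) {Q : QuadraticForm F V} (hQ : Nondeg Q) {g : V ≃ₗ[F] V} (hg : g ∈ O Q) {v : V}
    (hV : cyc g v = ⊤) {f : F[X]} {k : ℕ} (hP : CPiece (polarBilin Q) g f k v) (hk : Odd k)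
    (hf1 : ¬ Associated f (X - 1)) (hf2 : ¬ Associated f (X + 1)) {d : ℕ} (hd : finrank F V = 2 * d) (s : ℤˣ) :
    T Q g ((-1) ^ d) s := by
  refine T_cyclic' h2 hQ hg hV hP.irr hP.ann hk (fun h => hf1 ?_) (fun h => hf2 ?_) hd s
  · refine hP.irr.associated_of_dvd ?_ h
    rw [← C_1]
    exact irreducible_X_sub_C 1
  · refine hP.irr.associated_of_dvd ?_ h
    have e : (X + 1 : F[X]) = X - C (-1) := by rw [C_neg, C_1, sub_neg_eq_add]
    rw [e]
    exact irreducible_X_sub_C (-1)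

/-- **SR-OODD_A, pair pieces** (interface form). -/
theorem T_pair (h2 : (2 : F) ≠ 0) {Q : QuadraticForm F V} (hQ : Nondeg Q) {g : V ≃ₗ[F] V} (hg : g ∈ O Q) {v w : V}
    (hV : cyc g v ⊔ cyc g w = ⊤) {f : F[X]} {k : ℕ} (hP : PPiece (polarBilin Q) g f k v w) (hk : Odd k)
    (hfr : ¬ Associated f f.reverse) {d : ℕ} (hd : finrank F V = 2 * d) (s : ℤˣ) : T Q g ((-1) ^ d) s :=
  T_pair' h2 hQ hg hV hP.irr hP.annv hP.annw hP.isov hP.isow hk hfr hd s

end Cfsg.Agent.H595.SR
end

-- part: H721/SR/DecF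
section
/-!
# TEAM SR: the decomposition theorem for orthogonal groups, q odd (helper721)

`decAll` : the hypothesis `DecAll` of the orthogonal rows.
-/

set_option autoImplicit false

namespace Cfsg.Agent.H721.SRDec

open Polynomial Module QuadraticMap
open Cfsg.Agent.LieClassical.OrthCore Cfsg.Agent.H160.QSpin Cfsg.Agent.H160.QDisc Cfsg.Agent.H721.SR
open Cfsg.Agent.H853.SR

universe u v

theorem hypA (F : Type u) [Field F] [Fintype F] [DecidableEq F] (h2 : (2 : F) ≠ 0) : HypA.{u, v} F := by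
  intro V _ _ _ _ Q g f k d hQ hg hk hd h s
  rcases h with ⟨v, hp, ht, -, h1, h2'⟩ | ⟨v, w, hp, ht, hr⟩
  · exact Cfsg.Agent.H595.SR.T_cyclic h2 hQ hg ht hp hk h1 h2' hd s
  · exact Cfsg.Agent.H595.SR.T_pair h2 hQ hg ht hp hk hr hd s

theorem coe_ch (F : Type u) [Field F] [Fintype F] [DecidableEq F] (j : ℕ) :
    ((ch F ^ j : ℤˣ) : ℤ) = quadraticChar F (-1) ^ j := by
  rw [Units.val_pow_eq_pow_val]
  congr 1
  have h1 : (-1 : F) ≠ 0 := neg_ne_zero.2 one_ne_zero
  unfold ch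
  split_ifs with h
  · rw [(quadraticChar_one_iff_isSquare h1).2 h]; rfl
  · rw [quadraticChar_neg_one_iff_not_isSquare.2 h]; rfl

theorem hypE (F : Type u) [Field F] [Fintype F] [DecidableEq F] (h2 : (2 : F) ≠ 0) : HypE.{u, v} F := by
  intro V _ _ _ _ Q g f k hQ hg hk h
  rcases h with ⟨v, hp, ht, -, h1, h2'⟩ | ⟨v, w, hp, ht, -⟩
  · have hf : ¬ f ∣ X ^ 2 - 1 := by
      intro hd
      rw [show (X ^ 2 - 1 : F[X]) = (X - 1) * (X + 1) by ring] at hd
      rcases hp.irr.prime.dvd_or_dvd hd with h | h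
      · refine h1 (hp.irr.associated_of_dvd ?_ h)
        rw [← C_1]
        exact irreducible_X_sub_C 1
      · refine h2' (hp.irr.associated_of_dvd ?_ h)
        have e : (X + 1 : F[X]) = X - C (-1) := by rw [C_neg, C_1, sub_neg_eq_add]
        rw [e]
        exact irreducible_X_sub_C (-1)
    obtain ⟨j, s, e1, e2, e3, e4⟩ := Cfsg.Agent.H4.SR.epiece_cyc h2 hQ hg hp ht hf hk
    refine ⟨j, e1, e2, ?_⟩
    have : s = ch F ^ j := Units.ext (by rw [e3, coe_ch])
    rwa [this] at e4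
  · obtain ⟨j, s, e1, e2, e3, e4⟩ := Cfsg.Agent.H4.SR.epiece_pair h2 hQ hg hp ht hk
    refine ⟨j, e1, e2, ?_⟩
    have : s = ch F ^ j := Units.ext (by rw [e3, coe_ch])
    rwa [this] at e4

theorem decAll : Cfsg.Agent.H164.SRO.DecAll := by
  intro F _ _ _ ho V _ _ _ _ Q hQ hn hc g hg
  have h2 := Cfsg.Agent.H164.SRO.two_ne ho
  exact dec h2 (hypA F h2) (hypE F h2) (Cfsg.Agent.H382.SRJ.hypJT F h2) (Cfsg.Agent.H382.SRJ.hypJU F h2) V Q hQ hn hc g
    hg.1

end Cfsg.Agent.H721.SRDec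
end

private theorem dce_31795d92e09e : _root_.True := by
  try have : _root_.True := by simp only [_root_.Cfsg.Agent.H382.SRJ.dgf.eq_1]
  try have : _root_.True := by simp only [_root_.Cfsg.Agent.H382.SRJ.grQ.eq_1]
  try have : _root_.True := by simp only [_root_.Cfsg.Agent.H382.SRJ.grB.eq_1]
  try have : _root_.True := by simp only [_root_.Cfsg.Agent.H382.SRJ.half.eq_1]
  try have : _root_.True := by simp only [_root_.Cfsg.Agent.H382.SRJ.NB.eq_1]
  exact _root_.True.intro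
end

-- part: H575/SR/Pieces
section
prune_inst 0x4e1005a407d400200001905168020000022000122004b800028e0070207c8882aa0c3a221aaa0050212100c4548350048111000100200000000000400011901a09080d002336d000406001f000000000000000000020000000000000000000000000000000
set_option linter.all false
open scoped Cfsg.Agent.FastGrp

-- part: H575/SR/Inv
section
/-!
# TEAM SR, task SR-G2: inverters (helper575)

* `gram`      : a symmetry of a spanning family up to `ε` gives a similitude of square one;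
* `inv_cyc`   : the inverter of a cyclic space;
* `inv_pair`  : the inverter of a pair of totally isotropic cyclic spaces;
* `fix_half`  : an inverter of square one of an element without eigenvalue `±1` has a half-dimensional fixed space;
* `glue`      : inverters of a nondegenerate invariant subspace and of its complement;
* `isVert`, `isVert_half` : the inverter of an isometry.
-/

set_option autoImplicit false

namespace Cfsg.Agent.H575.SR

open Polynomial Module
open Cfsg.Agent.H721.SR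

universe u

variable {F V : Type*} [Field F] [AddCommGroup V] [Module F V]

section Gram

variable {ι : Type*} {B : V →ₗ[F] V →ₗ[F] F} {ε : F} {U : Submodule F V} {u : ι → V} {σ : ι → ι}

theorem gram_key (hB : ∀ i j, B (u (σ i)) (u (σ j)) = ε * B (u i) (u j)) (c d : ι →₀ F) :
    B (Finsupp.linearCombination F (fun i => u (σ i)) c) (Finsupp.linearCombination F (fun i => u (σ i)) d) =
      ε * B (Finsupp.linearCombination F u c) (Finsupp.linearCombination F u d) := by
  have h : (B.compl₁₂ (Finsupp.linearCombination F (fun i => u (σ i)))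
        (Finsupp.linearCombination F (fun i => u (σ i)))) =
      ε • (B.compl₁₂ (Finsupp.linearCombination F u) (Finsupp.linearCombination F u)) := by
    ext i j
    simpa only [_root_.LinearMap.coe_comp, _root_.Function.comp_apply, _root_.Finsupp.lsingle_apply, _root_.LinearMap.compl₁₂_apply, _root_.Finsupp.linearCombination_single, _root_.one_smul, _root_.LinearMap.coe_smul, _root_.Pi.smul_apply, _root_.smul_eq_mul] using hB i j
  have h1 := congrArg (fun T : (ι →₀ F) →ₗ[F] (ι →₀ F) →ₗ[F] F => T c d) h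
  simpa only [_root_.LinearMap.compl₁₂_apply, _root_.LinearMap.smul_apply, _root_.smul_eq_mul] using h1

/-- A symmetry `σ` of a spanning family of `U` preserving `B` up to `ε` gives an involution of `U`. -/
theorem gram (hU : NdOn B U) (hmem : ∀ i, u i ∈ U) (hspan : U ≤ Submodule.span F (Set.range u))
    (hσ : ∀ i, u (σ (σ i)) = u i) (hB : ∀ i j, B (u (σ i)) (u (σ j)) = ε * B (u i) (u j)) :
    ∃ h : ↥U ≃ₗ[F] ↥U, h * h = 1 ∧ (∀ i, ((h ⟨u i, hmem i⟩ : U) : V) = u (σ i)) ∧
      ∀ x y : U, B (h x) (h y) = ε * B x y := by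
  classical
  have hrange : U = Submodule.span F (Set.range u) :=
    le_antisymm hspan (Submodule.span_le.2 (by rintro _ ⟨i, rfl⟩; exact hmem i))
  set Φ := Finsupp.linearCombination F u with hΦ
  set Ψ := Finsupp.linearCombination F (fun i => u (σ i)) with hΨ
  have hΦU : ∀ c, Φ c ∈ U := fun c => by
    rw [hrange, hΦ, ← Finsupp.range_linearCombination]
    exact ⟨c, rfl⟩
  have hΨΦ : ∀ c, Ψ c = Φ (c.mapDomain σ) := fun c => by
    rw [hΨ, hΦ, Finsupp.linearCombination_mapDomain]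
    rfl
  have hΨU : ∀ c, Ψ c ∈ U := fun c => by rw [hΨΦ]; exact hΦU _
  have hΨΨ : ∀ c, Ψ (c.mapDomain σ) = Φ c := fun c => by
    rw [hΨ, hΦ, Finsupp.linearCombination_mapDomain]
    congr 2
    funext i
    exact hσ i
  have hsurj : ∀ x ∈ U, ∃ c, Φ c = x := by
    intro x hx
    rw [hrange, ← Finsupp.range_linearCombination] at hx
    exact hx
  have hker : ∀ c, Φ c = 0 → Ψ c = 0 := by
    intro c hc
    refine hU _ (hΨU c) fun y hy => ?_
    obtain ⟨d, rfl⟩ := hsurj y hy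
    rw [← hΨΨ d, hΨ, gram_key hB, ← hΦ, hc, map_zero, LinearMap.zero_apply, mul_zero]
  -- the maps with values in `U`
  let ΦU : (ι →₀ F) →ₗ[F] ↥U := Φ.codRestrict U hΦU
  let ΨU : (ι →₀ F) →ₗ[F] ↥U := Ψ.codRestrict U hΨU
  have hΦs : Function.Surjective ΦU := by
    rintro ⟨x, hx⟩
    obtain ⟨c, hc⟩ := hsurj x hx
    exact ⟨c, Subtype.ext hc⟩
  have hk : LinearMap.ker ΦU ≤ LinearMap.ker ΨU := by
    intro c hc
    rw [LinearMap.mem_ker] at hc ⊢
    exact Subtype.ext (hker c (congrArg Subtype.val hc))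
  let h0 : ↥U →ₗ[F] ↥U := (LinearMap.ker ΦU).liftQ ΨU hk ∘ₗ (ΦU.quotKerEquivOfSurjective hΦs).symm.toLinearMap
  have hh0 : ∀ c, h0 (ΦU c) = ΨU c := by
    intro c
    have h1 : (ΦU.quotKerEquivOfSurjective hΦs).symm (ΦU c) = Submodule.Quotient.mk c := by
      rw [LinearEquiv.symm_apply_eq]
      rfl
    show (LinearMap.ker ΦU).liftQ ΨU hk ((ΦU.quotKerEquivOfSurjective hΦs).symm (ΦU c)) = ΨU c
    rw [h1]
    rfl
  have hΨU' : ∀ c, ΨU c = ΦU (c.mapDomain σ) := fun c => Subtype.ext (hΨΦ c)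
  have hinv : Function.Involutive h0 := by
    intro x
    obtain ⟨c, rfl⟩ := hΦs x
    rw [hh0, hΨU', hh0]
    exact Subtype.ext (hΨΨ c)
  refine ⟨LinearEquiv.ofInvolutive h0 hinv, ?_, ?_, ?_⟩
  · ext x
    exact congrArg Subtype.val (hinv x)
  · intro i
    have h1 : (⟨u i, hmem i⟩ : ↥U) = ΦU (Finsupp.single i 1) := by
      apply Subtype.ext
      show u i = Φ (Finsupp.single i 1)
      rw [hΦ, Finsupp.linearCombination_single, one_smul]
    show ((h0 ⟨u i, hmem i⟩ : ↥U) : V) = u (σ i)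
    rw [h1, hh0]
    show Ψ (Finsupp.single i 1) = u (σ i)
    rw [hΨ, Finsupp.linearCombination_single, one_smul]
  · intro x y
    obtain ⟨c, rfl⟩ := hΦs x
    obtain ⟨d, rfl⟩ := hΦs y
    show B (h0 (ΦU c) : ↥U) (h0 (ΦU d) : ↥U) = _
    rw [hh0, hh0]
    exact gram_key hB c d

end Gram

/-! ### Cyclic spaces -/

section Cyc

variable {B : V →ₗ[F] V →ₗ[F] F} {ε : F} {g : V ≃ₗ[F] V}

theorem zpow_mem_cyc (g : V ≃ₗ[F] V) (v : V) (i : ℤ) : (g ^ i) v ∈ cyc g v := Submodule.subset_span ⟨i, rfl⟩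

theorem self_mem_cyc (g : V ≃ₗ[F] V) (v : V) : v ∈ cyc g v := by
  have h := zpow_mem_cyc g v 0
  rwa [zpow_zero, LinearEquiv.coe_one, id_eq] at h

theorem apply_zpow (g : V ≃ₗ[F] V) (v : V) (i : ℤ) : g ((g ^ i) v) = (g ^ (i + 1)) v := by
  rw [add_comm, zpow_add, zpow_one]
  rfl

theorem inv_apply_zpow (g : V ≃ₗ[F] V) (v : V) (i : ℤ) : g⁻¹ ((g ^ i) v) = (g ^ (i - 1)) v := by
  rw [sub_eq_add_neg, add_comm, zpow_add, zpow_neg_one]
  rfl

theorem apply_mem_cyc (g : V ≃ₗ[F] V) {v x : V} (hx : x ∈ cyc g v) : g x ∈ cyc g v := by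
  refine Submodule.span_induction (p := fun x _ => g x ∈ cyc g v) ?_ ?_ ?_ ?_ hx
  · rintro _ ⟨i, rfl⟩
    rw [apply_zpow]
    exact zpow_mem_cyc _ _ _
  · rw [map_zero]; exact zero_mem _
  · intro x y _ _ h1 h2
    rw [map_add]; exact add_mem h1 h2
  · intro a x _ h
    rw [map_smul]; exact Submodule.smul_mem _ _ h

theorem inv_apply_mem_cyc (g : V ≃ₗ[F] V) {v x : V} (hx : x ∈ cyc g v) : g⁻¹ x ∈ cyc g v := by
  refine Submodule.span_induction (p := fun x _ => g⁻¹ x ∈ cyc g v) ?_ ?_ ?_ ?_ hx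
  · rintro _ ⟨i, rfl⟩
    rw [inv_apply_zpow]
    exact zpow_mem_cyc _ _ _
  · rw [map_zero]; exact zero_mem _
  · intro x y _ _ h1 h2
    rw [map_add]; exact add_mem h1 h2
  · intro a x _ h
    rw [map_smul]; exact Submodule.smul_mem _ _ h

theorem inv_apply_self' (g : V ≃ₗ[F] V) (x : V) : g⁻¹ (g x) = x := g.symm_apply_apply x

theorem apply_inv_self' (g : V ≃ₗ[F] V) (x : V) : g (g⁻¹ x) = x := g.apply_symm_apply x

theorem cyc_iff (g : V ≃ₗ[F] V) (v x : V) : g x ∈ cyc g v ↔ x ∈ cyc g v := by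
  refine ⟨fun h => ?_, apply_mem_cyc g⟩
  have := inv_apply_mem_cyc g h
  rwa [inv_apply_self'] at this

theorem isom_zpow (hS : St B ε g) (i : ℤ) (x y : V) : B ((g ^ i) x) ((g ^ i) y) = B x y := by
  have hn : ∀ n : ℕ, ∀ x y, B ((g ^ n) x) ((g ^ n) y) = B x y := by
    intro n
    induction n with
    | zero => intro x y; rw [pow_zero]; rfl
    | succ n ih =>
      intro x y
      rw [pow_succ]
      show B ((g ^ n) (g x)) ((g ^ n) (g y)) = B x y
      rw [ih, hS.isom]
  obtain ⟨n, rfl | rfl⟩ := Int.eq_nat_or_neg i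
  · rw [zpow_natCast]; exact hn n x y
  · have h := hn n ((g ^ (-(n : ℤ))) x) ((g ^ (-(n : ℤ))) y)
    have e : ∀ z, (g ^ n) ((g ^ (-(n : ℤ))) z) = z := by
      intro z
      have : g ^ n * g ^ (-(n : ℤ)) = 1 := by rw [zpow_neg, zpow_natCast, mul_inv_cancel]
      exact congrArg (fun t : V ≃ₗ[F] V => t z) this
    rw [e, e] at h
    exact h.symm

/-- `B(g^i x, g^j y) = B(g^(i-j) x, y)`, in symmetric form -/
theorem isom_neg (hS : St B ε g) (i j : ℤ) (x y : V) :
    B ((g ^ (-i)) x) ((g ^ (-j)) y) = ε * B ((g ^ i) y) ((g ^ j) x) := by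
  have h1 := isom_zpow hS (i + j) ((g ^ (-i)) x) ((g ^ (-j)) y)
  have e1 : (g ^ (i + j)) ((g ^ (-i)) x) = (g ^ j) x := by
    have : g ^ (i + j) * g ^ (-i) = g ^ j := by rw [← zpow_add]; congr 1; ring
    exact congrArg (fun t : V ≃ₗ[F] V => t x) this
  have e2 : (g ^ (i + j)) ((g ^ (-j)) y) = (g ^ i) y := by
    have : g ^ (i + j) * g ^ (-j) = g ^ i := by rw [← zpow_add]; congr 1; ring
    exact congrArg (fun t : V ≃ₗ[F] V => t y) this
  rw [e1, e2] at h1
  rw [← h1]
  exact hS.symm _ _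

/-- restriction of `g` to an invariant subspace -/
noncomputable def res (g : V ≃ₗ[F] V) (U : Submodule F V) (h : ∀ x, g x ∈ U ↔ x ∈ U) : ↥U ≃ₗ[F] ↥U where
  toFun x := ⟨g x, (h x).2 x.2⟩
  invFun x := ⟨g⁻¹ x, (h _).1 (by rw [apply_inv_self']; exact x.2)⟩
  map_add' x y := Subtype.ext (map_add g _ _)
  map_smul' a x := Subtype.ext (map_smul g _ _)
  left_inv x := Subtype.ext (inv_apply_self' g _)
  right_inv x := Subtype.ext (apply_inv_self' g _)

@[simp] theorem res_coe (g : V ≃ₗ[F] V) (U : Submodule F V) (h : ∀ x, g x ∈ U ↔ x ∈ U) (x : U) :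
    ((res g U h x : U) : V) = g x := rfl

@[simp] theorem res_inv_coe (g : V ≃ₗ[F] V) (U : Submodule F V) (h : ∀ x, g x ∈ U ↔ x ∈ U) (x : U) :
    (((res g U h)⁻¹ x : U) : V) = g⁻¹ x := rfl

/-- criterion for `h g h⁻¹ = g⁻¹` for `h² = 1` -/
theorem inverts_iff {W : Type*} [AddCommGroup W] [Module F W] {g h : W ≃ₗ[F] W} (h2 : h * h = 1) :
    h * g * h⁻¹ = g⁻¹ ↔ ∀ x, h (g x) = g⁻¹ (h x) := by
  have hi : h⁻¹ = h := inv_eq_of_mul_eq_one_left h2
  have h3 : ∀ x, h (h x) = x := fun x => congrArg (fun t : W ≃ₗ[F] W => t x) h2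
  constructor
  · intro h1 x
    have h4 := congrArg (fun t : W ≃ₗ[F] W => t (h x)) h1
    rw [hi] at h4
    have h5 : h (g (h (h x))) = g⁻¹ (h x) := h4
    rwa [h3] at h5
  · intro h1
    rw [hi]
    ext x
    show h (g (h x)) = g⁻¹ x
    rw [h1, h3]

/-- **The inverter of a nondegenerate cyclic space.** -/
theorem inv_cyc (hS : St B ε g) {v : V} (hnd : NdOn B (cyc g v)) :
    ∃ h : ↥(cyc g v) ≃ₗ[F] ↥(cyc g v), h * h = 1 ∧
      h * res g _ (cyc_iff g v) * h⁻¹ = (res g _ (cyc_iff g v))⁻¹ ∧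
      (∀ i : ℤ, ((h ⟨(g ^ i) v, zpow_mem_cyc g v i⟩ : cyc g v) : V) = (g ^ (-i)) v) ∧
      ∀ x y : cyc g v, B (h x) (h y) = ε * B x y := by
  obtain ⟨h, h2, hu, hB⟩ := gram (B := B) (ε := ε) (U := cyc g v) (u := fun i : ℤ => (g ^ i) v)
    (σ := fun i => -i) hnd (zpow_mem_cyc g v) le_rfl (fun i => by simp only [neg_neg]) (fun i j => by
      show B ((g ^ (-i)) v) ((g ^ (-j)) v) = ε * B ((g ^ i) v) ((g ^ j) v)
      exact isom_neg hS i j v v)
  refine ⟨h, h2, ?_, hu, hB⟩
  rw [inverts_iff h2]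
  have key : ∀ x ∈ cyc g v, ∀ hx : x ∈ cyc g v, h (res g _ (cyc_iff g v) ⟨x, hx⟩) =
      (res g _ (cyc_iff g v))⁻¹ (h ⟨x, hx⟩) := by
    intro x hx'
    refine Submodule.span_induction (p := fun x _ => ∀ hx : x ∈ cyc g v, h (res g _ (cyc_iff g v) ⟨x, hx⟩) =
      (res g _ (cyc_iff g v))⁻¹ (h ⟨x, hx⟩)) ?_ ?_ ?_ ?_ hx'
    · rintro _ ⟨i, rfl⟩ hx
      apply Subtype.ext
      have e1 : res g _ (cyc_iff g v) ⟨(g ^ i) v, hx⟩ = ⟨(g ^ (i + 1)) v, zpow_mem_cyc g v _⟩ :=
        Subtype.ext (apply_zpow g v i)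
      have h3 : ((h ⟨(g ^ (i + 1)) v, zpow_mem_cyc g v _⟩ : cyc g v) : V) = (g ^ (-(i + 1))) v := hu (i + 1)
      have h4 : ((h ⟨(g ^ i) v, hx⟩ : cyc g v) : V) = (g ^ (-i)) v := hu i
      rw [e1, h3, res_inv_coe, h4, inv_apply_zpow]
      congr 2
      ring
    · intro hx
      have e0 : (⟨0, hx⟩ : cyc g v) = 0 := rfl
      rw [e0, map_zero, map_zero, map_zero]
    · intro x y hx hy h1 h2 hxy
      have e0 : (⟨x + y, hxy⟩ : cyc g v) = ⟨x, hx⟩ + ⟨y, hy⟩ := rfl
      rw [e0, map_add, map_add, map_add, map_add, h1 hx, h2 hy]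
    · intro a x hx h1 hax
      have e0 : (⟨a • x, hax⟩ : cyc g v) = a • ⟨x, hx⟩ := rfl
      rw [e0, map_smul, map_smul, map_smul, map_smul, h1 hx]
  rintro ⟨x, hx⟩
  exact key x hx hx

/-! ### Pairs -/

/-- generators of a pair -/
def pg (g : V ≃ₗ[F] V) (v w : V) : ℤ ⊕ ℤ → V := Sum.elim (fun i => (g ^ i) v) (fun i => (g ^ i) w)

/-- the symmetry of the index set -/
def ps : ℤ ⊕ ℤ → ℤ ⊕ ℤ := Sum.elim (fun i => Sum.inr (-i)) (fun i => Sum.inl (-i))

theorem pair_iff (g : V ≃ₗ[F] V) (v w x : V) : g x ∈ cyc g v ⊔ cyc g w ↔ x ∈ cyc g v ⊔ cyc g w := by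
  constructor
  · intro h
    obtain ⟨a, ha, b, hb, hab⟩ := Submodule.mem_sup.1 h
    have : x = g⁻¹ a + g⁻¹ b := by rw [← map_add, hab, inv_apply_self']
    rw [this]
    exact Submodule.add_mem_sup (inv_apply_mem_cyc g ha) (inv_apply_mem_cyc g hb)
  · intro h
    obtain ⟨a, ha, b, hb, hab⟩ := Submodule.mem_sup.1 h
    rw [← hab, map_add]
    exact Submodule.add_mem_sup (apply_mem_cyc g ha) (apply_mem_cyc g hb)

theorem pg_mem (g : V ≃ₗ[F] V) (v w : V) (i : ℤ ⊕ ℤ) : pg g v w i ∈ cyc g v ⊔ cyc g w := by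
  rcases i with i | i
  · exact (le_sup_left : cyc g v ≤ _) (zpow_mem_cyc g v i)
  · exact (le_sup_right : cyc g w ≤ _) (zpow_mem_cyc g w i)

theorem le_span_pg (g : V ≃ₗ[F] V) (v w : V) : cyc g v ⊔ cyc g w ≤ Submodule.span F (Set.range (pg g v w)) := by
  refine sup_le ?_ ?_
  · refine Submodule.span_le.2 ?_
    rintro _ ⟨i, rfl⟩
    exact Submodule.subset_span ⟨Sum.inl i, rfl⟩
  · refine Submodule.span_le.2 ?_
    rintro _ ⟨i, rfl⟩
    exact Submodule.subset_span ⟨Sum.inr i, rfl⟩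

/-- **The inverter of a pair of totally isotropic cyclic spaces.** -/
theorem inv_pair (hS : St B ε g) {v w : V} (hv : Iso0 B (cyc g v)) (hw : Iso0 B (cyc g w))
    (hnd : NdOn B (cyc g v ⊔ cyc g w)) :
    ∃ h : ↥(cyc g v ⊔ cyc g w) ≃ₗ[F] ↥(cyc g v ⊔ cyc g w), h * h = 1 ∧
      h * res g _ (pair_iff g v w) * h⁻¹ = (res g _ (pair_iff g v w))⁻¹ ∧
      (∀ i : ℤ, ((h ⟨(g ^ i) v, pg_mem g v w (Sum.inl i)⟩ : ↥(cyc g v ⊔ cyc g w)) : V) = (g ^ (-i)) w) ∧
      (∀ i : ℤ, ((h ⟨(g ^ i) w, pg_mem g v w (Sum.inr i)⟩ : ↥(cyc g v ⊔ cyc g w)) : V) = (g ^ (-i)) v) ∧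
      ∀ x y : ↥(cyc g v ⊔ cyc g w), B (h x) (h y) = ε * B x y := by
  obtain ⟨h, h2, hu, hB⟩ := gram (B := B) (ε := ε) (U := cyc g v ⊔ cyc g w) (u := pg g v w)
    (σ := ps) hnd (pg_mem g v w) (le_span_pg g v w) (fun i => by
      rcases i with i | i
      · show (g ^ (- -i)) v = (g ^ i) v
        rw [neg_neg]
      · show (g ^ (- -i)) w = (g ^ i) w
        rw [neg_neg]) (fun i j => by
      rcases i with i | i <;> rcases j with j | j
      · show B ((g ^ (-i)) w) ((g ^ (-j)) w) = ε * B ((g ^ i) v) ((g ^ j) v)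
        rw [hw _ (zpow_mem_cyc _ _ _) _ (zpow_mem_cyc _ _ _), hv _ (zpow_mem_cyc _ _ _) _ (zpow_mem_cyc _ _ _),
          mul_zero]
      · show B ((g ^ (-i)) w) ((g ^ (-j)) v) = ε * B ((g ^ i) v) ((g ^ j) w)
        exact isom_neg hS i j w v
      · show B ((g ^ (-i)) v) ((g ^ (-j)) w) = ε * B ((g ^ i) w) ((g ^ j) v)
        exact isom_neg hS i j v w
      · show B ((g ^ (-i)) v) ((g ^ (-j)) v) = ε * B ((g ^ i) w) ((g ^ j) w)
        rw [hw _ (zpow_mem_cyc _ _ _) _ (zpow_mem_cyc _ _ _), hv _ (zpow_mem_cyc _ _ _) _ (zpow_mem_cyc _ _ _),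
          mul_zero])
  refine ⟨h, h2, ?_, fun i => hu (Sum.inl i), fun i => hu (Sum.inr i), hB⟩
  rw [inverts_iff h2]
  have key : ∀ x (hx : x ∈ cyc g v ⊔ cyc g w), h (res g _ (pair_iff g v w) ⟨x, hx⟩) =
      (res g _ (pair_iff g v w))⁻¹ (h ⟨x, hx⟩) := by
    intro x hx
    have hx' := le_span_pg g v w hx
    -- generalise the membership proof
    suffices hh : ∀ hx : x ∈ cyc g v ⊔ cyc g w, h (res g _ (pair_iff g v w) ⟨x, hx⟩) =
        (res g _ (pair_iff g v w))⁻¹ (h ⟨x, hx⟩) from hh hx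
    clear hx
    have hle : Submodule.span F (Set.range (pg g v w)) ≤ cyc g v ⊔ cyc g w :=
      Submodule.span_le.2 (by rintro _ ⟨i, rfl⟩; exact pg_mem g v w i)
    refine Submodule.span_induction (p := fun x _ => ∀ hx : x ∈ cyc g v ⊔ cyc g w,
      h (res g _ (pair_iff g v w) ⟨x, hx⟩) = (res g _ (pair_iff g v w))⁻¹ (h ⟨x, hx⟩)) ?_ ?_ ?_ ?_ hx'
    · rintro _ ⟨i, rfl⟩ hx
      apply Subtype.ext
      rcases i with i | i
      · have e1 : res g _ (pair_iff g v w) ⟨pg g v w (Sum.inl i), hx⟩ =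
            ⟨pg g v w (Sum.inl (i + 1)), pg_mem g v w _⟩ := Subtype.ext (apply_zpow g v i)
        rw [e1, hu (Sum.inl (i + 1)), res_inv_coe, hu (Sum.inl i)]
        show (g ^ (-(i + 1))) w = g⁻¹ ((g ^ (-i)) w)
        rw [inv_apply_zpow]
        congr 2
        ring
      · have e1 : res g _ (pair_iff g v w) ⟨pg g v w (Sum.inr i), hx⟩ =
            ⟨pg g v w (Sum.inr (i + 1)), pg_mem g v w _⟩ := Subtype.ext (apply_zpow g w i)
        rw [e1, hu (Sum.inr (i + 1)), res_inv_coe, hu (Sum.inr i)]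
        show (g ^ (-(i + 1))) v = g⁻¹ ((g ^ (-i)) v)
        rw [inv_apply_zpow]
        congr 2
        ring
    · intro hx
      have e0 : (⟨0, hx⟩ : ↥(cyc g v ⊔ cyc g w)) = 0 := rfl
      rw [e0, map_zero, map_zero, map_zero]
    · intro x y hx hy h1 h2 hxy
      have hx'' := hle hx
      have hy'' := hle hy
      have e0 : (⟨x + y, hxy⟩ : ↥(cyc g v ⊔ cyc g w)) = ⟨x, hx''⟩ + ⟨y, hy''⟩ := rfl
      rw [e0, map_add, map_add, map_add, map_add, h1 hx'', h2 hy'']
    · intro a x hx h1 hax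
      have hx'' := hle hx
      have e0 : (⟨a • x, hax⟩ : ↥(cyc g v ⊔ cyc g w)) = a • ⟨x, hx''⟩ := rfl
      rw [e0, map_smul, map_smul, map_smul, map_smul, h1 hx'']
  rintro ⟨x, hx⟩
  exact key x hx

end Cyc

/-! ### The fixed space of an inverter -/

section Half

variable [FiniteDimensional F V]

end Half

end Cfsg.Agent.H575.SR
end

-- part: H575/SR/Glue
section
/-!
# TEAM SR, task SR-G2: gluing inverters along an orthogonal decomposition (helper575)

`Pieces F` : the statement of THEOREM PIECE (every nonzero space has a cyclic or a pair piece, if `2 ≠ 0` or `1` is not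
an eigenvalue). `isVert`: every isometry is inverted by an `ε`-similitude of square one.
-/

set_option autoImplicit false

namespace Cfsg.Agent.H575.SR

open Polynomial Module
open Cfsg.Agent.H721.SR

universe u v

section

variable {F V : Type*} [Field F] [AddCommGroup V] [Module F V]
variable {B : V →ₗ[F] V →ₗ[F] F} {ε : F} {g : V ≃ₗ[F] V}

theorem St.refl (hS : St B ε g) {x y : V} (h : B x y = 0) : B y x = 0 := by
  rw [hS.symm, h, mul_zero]

/-- the orthogonal complement -/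
def perp (B : V →ₗ[F] V →ₗ[F] F) (U : Submodule F V) : Submodule F V where
  carrier := {x | ∀ y ∈ U, B y x = 0}
  add_mem' := fun {a b} ha hb y hy => by rw [map_add, ha y hy, hb y hy, add_zero]
  zero_mem' := fun y _ => map_zero _
  smul_mem' := fun c x hx y hy => by rw [map_smul, hx y hy, smul_zero]

theorem mem_perp {U : Submodule F V} {x : V} : x ∈ perp B U ↔ ∀ y ∈ U, B y x = 0 := Iff.rfl

theorem isCompl_perp [FiniteDimensional F V] (hS : St B ε g) {U : Submodule F V} (hU : NdOn B U) :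
    IsCompl U (perp B U) := by
  have h0 : (LinearMap.BilinForm.IsRefl (B : LinearMap.BilinForm F V)) := fun x y h => St.refl hS h
  have e : perp B U = LinearMap.BilinForm.orthogonal B U := rfl
  rw [e, LinearMap.BilinForm.isCompl_orthogonal_iff_disjoint h0, Submodule.disjoint_def]
  intro x hx hx'
  exact hU x hx fun y hy => St.refl hS (hx' y hy)

theorem perp_iff (hS : St B ε g) {U : Submodule F V} (hg : ∀ x, g x ∈ U ↔ x ∈ U) (x : V) :
    g x ∈ perp B U ↔ x ∈ perp B U := by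
  rw [mem_perp, mem_perp]
  constructor
  · intro h y hy
    rw [← hS.isom]
    exact h _ ((hg y).2 hy)
  · intro h y hy
    have h1 : g⁻¹ y ∈ U := by rw [← hg, apply_inv_self']; exact hy
    have h2 := hS.isom (g⁻¹ y) x
    rw [apply_inv_self'] at h2
    rw [h2]
    exact h _ h1

/-- the restriction of the form -/
def rB (B : V →ₗ[F] V →ₗ[F] F) (U : Submodule F V) : ↥U →ₗ[F] ↥U →ₗ[F] F := B.compl₁₂ U.subtype U.subtype

@[simp] theorem rB_apply (U : Submodule F V) (x y : U) : rB B U x y = B x y := rfl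

theorem St.restrict (hS : St B ε g) {U : Submodule F V} (hg : ∀ x, g x ∈ U ↔ x ∈ U) (hU : NdOn B U) :
    St (rB B U) ε (res g U hg) where
  eps := hS.eps
  symm x y := hS.symm _ _
  nondeg x h := Subtype.ext (hU x x.2 fun y hy => h ⟨y, hy⟩)
  isom x y := hS.isom _ _

theorem ndOn_perp [FiniteDimensional F V] (hS : St B ε g) {U : Submodule F V} (hU : NdOn B U) : NdOn B (perp B U) := by
  intro x hx h
  apply hS.nondeg
  intro y
  obtain ⟨a, ha, b, hb, rfl⟩ : ∃ a ∈ U, ∃ b ∈ perp B U, a + b = y := by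
    rw [← Submodule.mem_sup, (isCompl_perp hS hU).sup_eq_top]
    exact Submodule.mem_top
  rw [map_add, h b hb, add_zero]
  exact St.refl hS (hx a ha)

/-- **Gluing inverters.** -/
theorem glue (hS : St B ε g) {U W : Submodule F V} (hc : IsCompl U W) (hUW : ∀ x ∈ U, ∀ y ∈ W, B x y = 0)
    (hgU : ∀ x, g x ∈ U ↔ x ∈ U) (hgW : ∀ x, g x ∈ W ↔ x ∈ W) {hU : ↥U ≃ₗ[F] ↥U} {hW : ↥W ≃ₗ[F] ↥W}
    (hU2 : hU * hU = 1) (hW2 : hW * hW = 1) (hUg : hU * res g U hgU * hU⁻¹ = (res g U hgU)⁻¹)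
    (hWg : hW * res g W hgW * hW⁻¹ = (res g W hgW)⁻¹) (hUB : ∀ x y : U, B (hU x) (hU y) = ε * B x y)
    (hWB : ∀ x y : W, B (hW x) (hW y) = ε * B x y) :
    ∃ h : V ≃ₗ[F] V, h * h = 1 ∧ h * g * h⁻¹ = g⁻¹ ∧ (∀ x y, B (h x) (h y) = ε * B x y) ∧
      (∀ x : U, h x = hU x) ∧ ∀ x : W, h x = hW x := by
  set e := Submodule.prodEquivOfIsCompl U W hc with he
  set h : V ≃ₗ[F] V := e.symm.trans ((hU.prodCongr hW).trans e) with hh
  have hval : ∀ (x : U) (y : W), h ((x : V) + y) = (hU x : V) + hW y := by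
    intro x y
    have h1 : (x : V) + y = e (x, y) := (Submodule.coe_prodEquivOfIsCompl' U W hc (x, y)).symm
    rw [hh, LinearEquiv.trans_apply, LinearEquiv.trans_apply, h1, LinearEquiv.symm_apply_apply]
    exact Submodule.coe_prodEquivOfIsCompl' U W hc _
  have hU3 : ∀ x : U, hU (hU x) = x := fun x => congrArg (fun t : ↥U ≃ₗ[F] ↥U => t x) hU2
  have hW3 : ∀ x : W, hW (hW x) = x := fun x => congrArg (fun t : ↥W ≃ₗ[F] ↥W => t x) hW2
  have hdec : ∀ x : V, ∃ (a : U) (b : W), (a : V) + b = x := by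
    intro x
    refine ⟨(e.symm x).1, (e.symm x).2, ?_⟩
    have h1 := Submodule.coe_prodEquivOfIsCompl' U W hc (e.symm x)
    rw [← he, LinearEquiv.apply_symm_apply] at h1
    exact h1.symm
  have h2 : h * h = 1 := by
    ext x
    obtain ⟨a, b, rfl⟩ := hdec x
    show h (h ((a : V) + b)) = (a : V) + b
    rw [hval, hval, hU3, hW3]
  refine ⟨h, h2, ?_, ?_, ?_, ?_⟩
  · rw [inverts_iff h2]
    intro x
    obtain ⟨a, b, rfl⟩ := hdec x
    have h3 := congrArg Subtype.val ((inverts_iff hU2).1 hUg a)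
    have h4 := congrArg Subtype.val ((inverts_iff hW2).1 hWg b)
    rw [res_inv_coe] at h3 h4
    have h5 : g ((a : V) + b) = (res g U hgU a : V) + (res g W hgW b : V) := by rw [map_add]; rfl
    rw [h5, hval, hval, map_add, h3, h4]
  · intro x y
    obtain ⟨a, b, rfl⟩ := hdec x
    obtain ⟨c, d, rfl⟩ := hdec y
    rw [hval, hval]
    simp only [map_add, LinearMap.add_apply]
    rw [hUB, hWB, hUW _ (hU a).2 _ (hW d).2, hUW _ a.2 _ d.2, St.refl hS (hUW _ (hU c).2 _ (hW b).2),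
      St.refl hS (hUW _ c.2 _ b.2)]
    ring
  · intro x
    have h3 := hval x 0
    simpa using h3
  · intro x
    have h3 := hval 0 x
    simpa only [_root_.ZeroMemClass.coe_zero, _root_.zero_add, _root_.map_zero] using h3

theorem cyc_ne_bot {v : V} (hv : v ≠ 0) : cyc g v ≠ ⊥ := fun h => hv (by
  have := self_mem_cyc g v
  rw [h] at this
  exact (Submodule.mem_bot F).1 this)

theorem ann_ne_zero {f : F[X]} {k : ℕ} {v : V} (hf : Irreducible f) (hk : 0 < k) (h : Ann g v (f ^ k)) : v ≠ 0 := by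
  rintro rfl
  have h1 : f ^ k ∣ 1 := (h 1).1 (map_zero _)
  exact hf.not_isUnit (isUnit_of_dvd_one ((dvd_pow_self f hk.ne').trans h1))

end

/-- THEOREM PIECE for the spaces over `F` -/
def Pieces (F : Type v) [Field F] : Prop :=
  ∀ (V : Type u) [AddCommGroup V] [Module F V] [FiniteDimensional F V] [Nontrivial V]
    (B : V →ₗ[F] V →ₗ[F] F) (ε : F) (g : V ≃ₗ[F] V), St B ε g → ((2 : F) ≠ 0 ∨ ∀ x, g x = x → x = 0) →
      (∃ (f : F[X]) (k : ℕ) (v : V), CPiece B g f k v) ∨ ∃ (f : F[X]) (k : ℕ) (v w : V), PPiece B g f k v w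

section

variable {F : Type v} [Field F]

/-- the induction, for a property `C` of elements inherited by restrictions -/
theorem isVert_aux (C : ∀ (V : Type u) [AddCommGroup V] [Module F V], (V ≃ₗ[F] V) → Prop)
    (hC : ∀ (V : Type u) [AddCommGroup V] [Module F V] (g : V ≃ₗ[F] V) (U : Submodule F V)
      (h : ∀ x, g x ∈ U ↔ x ∈ U), C V g → C ↥U (res g U h))
    (hP : ∀ (V : Type u) [AddCommGroup V] [Module F V] [FiniteDimensional F V] [Nontrivial V]
      (B : V →ₗ[F] V →ₗ[F] F) (ε : F) (g : V ≃ₗ[F] V), St B ε g → C V g →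
      (∃ (f : F[X]) (k : ℕ) (v : V), CPiece B g f k v) ∨ ∃ (f : F[X]) (k : ℕ) (v w : V), PPiece B g f k v w)
    (n : ℕ) : ∀ (V : Type u) [AddCommGroup V] [Module F V] [FiniteDimensional F V]
      (B : V →ₗ[F] V →ₗ[F] F) (ε : F) (g : V ≃ₗ[F] V), finrank F V = n → St B ε g → C V g →
      ∃ h : V ≃ₗ[F] V, h * h = 1 ∧ h * g * h⁻¹ = g⁻¹ ∧ ∀ x y, B (h x) (h y) = ε * B x y := by
  induction n using Nat.strong_induction_on with
  | _ n ih =>
    intro V _ _ _ B ε g hn hS hCg
    rcases subsingleton_or_nontrivial V with hsub | hnt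
    · refine ⟨1, one_mul 1, ?_, fun x y => ?_⟩
      · ext x
        exact Subsingleton.elim _ _
      · have hx : x = 0 := Subsingleton.elim _ _
        subst hx
        simp
    · -- a nondegenerate invariant subspace with an inverter
      obtain ⟨U, hU0, hgU, hU, hh, hh2, hhg, hhB⟩ : ∃ (U : Submodule F V) (_ : U ≠ ⊥) (hgU : ∀ x, g x ∈ U ↔ x ∈ U)
          (_ : NdOn B U) (hh : ↥U ≃ₗ[F] ↥U), hh * hh = 1 ∧ hh * res g U hgU * hh⁻¹ = (res g U hgU)⁻¹ ∧
          ∀ x y : U, B (hh x) (hh y) = ε * B x y := by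
        rcases hP V B ε g hS hCg with ⟨f, k, v, hp⟩ | ⟨f, k, v, w, hp⟩
        · obtain ⟨h, h1, h2, -, h3⟩ := inv_cyc hS hp.nd
          exact ⟨_, cyc_ne_bot (ann_ne_zero hp.irr hp.pos hp.ann), _, hp.nd, h, h1, h2, h3⟩
        · obtain ⟨h, h1, h2, -, -, h3⟩ := inv_pair hS hp.isov hp.isow hp.nd
          refine ⟨_, ?_, _, hp.nd, h, h1, h2, h3⟩
          intro h0
          apply cyc_ne_bot (g := g) (ann_ne_zero hp.irr hp.pos hp.annv)
          rw [eq_bot_iff, ← h0]
          exact le_sup_left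
      have hc := isCompl_perp hS hU
      have hgW := perp_iff hS hgU
      have hWnd := ndOn_perp hS hU
      have hlt : finrank F ↥(perp B U) < n := by
        have h1 := Submodule.finrank_add_eq_of_isCompl hc
        have h2 : 0 < finrank F U := by
          rw [Nat.pos_iff_ne_zero]
          intro h0
          exact hU0 (Submodule.finrank_eq_zero.1 h0)
        omega
      obtain ⟨k, hk1, hk2, hk3⟩ := ih _ hlt ↥(perp B U) (rB B (perp B U)) ε (res g (perp B U) hgW) rfl
        (St.restrict hS hgW hWnd) (hC V g _ hgW hCg)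
      obtain ⟨h, h1, h2, h3, -, -⟩ := glue hS hc (fun x hx y hy => hy x hx) hgU hgW hh2 hk1 hhg hk2 hhB
        (fun x y => hk3 x y)
      exact ⟨h, h1, h2, h3⟩

/-- **Every isometry is inverted by an involutory `ε`-similitude** (given THEOREM PIECE). -/
theorem isVert (hP : Pieces.{u} F) {V : Type u} [AddCommGroup V] [Module F V] [FiniteDimensional F V]
    {B : V →ₗ[F] V →ₗ[F] F} {ε : F} {g : V ≃ₗ[F] V} (hS : St B ε g)
    (hg : (2 : F) ≠ 0 ∨ ∀ x, g x = x → x = 0) :
    ∃ h : V ≃ₗ[F] V, h * h = 1 ∧ h * g * h⁻¹ = g⁻¹ ∧ ∀ x y, B (h x) (h y) = ε * B x y :=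
  isVert_aux (fun V _ _ g => (2 : F) ≠ 0 ∨ ∀ x, g x = x → x = 0)
    (fun _ _ _ _ _ _ hg => hg.imp_right fun h1 x hx => Subtype.ext (h1 x (congrArg Subtype.val hx)))
    (fun V _ _ _ _ B ε g hS hg => hP V B ε g hS hg) _ V B ε g rfl hS hg

end

end Cfsg.Agent.H575.SR
end

-- part: H575/SR/Pieces
section
/-!
# Team SR (S4971): THEOREM PIECE assembled; the inverter of Theorem V without hypotheses (helper575)

* `pieces : Pieces F`, `pieces' : Pieces' F` for every field `F`;
* `isVert_all`, `isVert_half_all`.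
-/

set_option autoImplicit false

namespace Cfsg.Agent.H575.SR

open Cfsg.Agent.H721.SR Polynomial Module

universe u v

/-- **THEOREM PIECE** -/
theorem pieces (F : Type v) [Field F] : Pieces.{u} F := by
  intro V _ _ _ _ B ε g hS hg
  have hint : IsIntegral F (g : V →ₗ[F] V) := Algebra.IsIntegral.isIntegral _
  have hnu : ¬ IsUnit (minpoly F (g : V →ₗ[F] V)) := minpoly.not_isUnit F _
  obtain ⟨f, hf, hd⟩ := WfDvdMonoid.exists_irreducible_factor hnu (minpoly.ne_zero hint)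
  by_cases hr : Associated f f.reverse
  · by_cases h1 : Associated f (X - C 1)
    · have hd1 : (X - C 1 : F[X]) ∣ minpoly F (g : V →ₗ[F] V) := h1.symm.dvd.trans hd
      rcases hg with h2 | h2
      · rcases Cfsg.Agent.H388.SR.g1c h2 hS (Or.inl rfl) hd1 with ⟨k, v, h, -⟩ | ⟨k, v, w, h, -⟩
        · exact Or.inl ⟨_, k, v, h⟩
        · exact Or.inr ⟨_, k, v, w, h⟩
      · exfalso
        have h3 : Module.End.HasEigenvalue (g : V →ₗ[F] V) 1 :=
          Module.End.hasEigenvalue_of_isRoot (dvd_iff_isRoot.1 hd1)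
        obtain ⟨x, hx⟩ := h3.exists_hasEigenvector
        have h4 : g x = x := by
          have := hx.apply_eq_smul
          rw [one_smul] at this
          exact this
        exact hx.2 (h2 x h4)
    · by_cases h1' : Associated f (X - C (-1))
      · have hd1 : (X - C (-1) : F[X]) ∣ minpoly F (g : V →ₗ[F] V) := h1'.symm.dvd.trans hd
        by_cases h2 : (2 : F) = 0
        · exfalso
          apply h1
          have h3 : (-1 : F) = 1 := by
            have h4 : (1 : F) + 1 = 0 := by rw [← h2]; norm_num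
            exact neg_eq_of_add_eq_zero_left h4
          rwa [h3] at h1'
        · rcases Cfsg.Agent.H388.SR.g1c h2 hS (Or.inr rfl) hd1 with ⟨k, v, h, -⟩ | ⟨k, v, w, h, -⟩
          · exact Or.inl ⟨_, k, v, h⟩
          · exact Or.inr ⟨_, k, v, w, h⟩
      · left
        refine ⟨f, Cfsg.Agent.H559.SR.exists_cpiece hS hf hd hr ?_ ?_⟩
        · rwa [C_1] at h1
        · rwa [C_neg, C_1, sub_neg_eq_add] at h1'
  · right
    exact ⟨f, Cfsg.Agent.H807.SR.exists_ppiece hS hf hd hr⟩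

variable {F : Type v} [Field F] {V : Type u} [AddCommGroup V] [Module F V] [FiniteDimensional F V]
  {B : V →ₗ[F] V →ₗ[F] F} {ε : F} {g : V ≃ₗ[F] V}

/-- **the inverter**, without hypotheses -/
theorem isVert_all (hS : St B ε g) (hg : (2 : F) ≠ 0 ∨ ∀ x, g x = x → x = 0) :
    ∃ h : V ≃ₗ[F] V, h * h = 1 ∧ h * g * h⁻¹ = g⁻¹ ∧ ∀ x y, B (h x) (h y) = ε * B x y :=
  isVert (pieces F) hS hg

end Cfsg.Agent.H575.SR
end
end

-- part: H581/SR/JOne_mg
section
prune_inst 0x40000180001400200000105168000004006000002004b800009a002000680880a000282202c20011200000004003c0048110000000240000004000400011901a09082d0000209000406000f000000000000000000020000000000000000000000000000000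
set_option linter.all false
open scoped Cfsg.Agent.FastGrp

-- part: H581/SR/Base
section
/-!
# Strongly real elements: reduction to centralisers of involutions (helper581, S4971)
-/

set_option autoImplicit false

namespace Cfsg.Agent.H581.SR

open Subgroup Cfsg.Agent.H721.SR

/-- a real element is strongly real, or commutes with an involution `y`; if its order is even one can take `y ∈ ⟨g⟩` -/
theorem sr_or {G : Type*} [Group G] [Finite G] {g : G} (hg : IsConj g g⁻¹)
    (h : ∀ y : G, orderOf y = 2 → y * g = g * y → (Odd (orderOf g) ∨ y ∈ zpowers g) → SR g) : SR g := by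
  by_cases h1 : g = 1
  · rw [h1]; exact sr_one
  rcases Nat.even_or_odd (orderOf g) with he | ho
  · obtain ⟨k, hk⟩ := he.two_dvd
    have hpos := orderOf_pos g
    have h2 : orderOf (g ^ k) = 2 := by
      rw [orderOf_pow_of_dvd (by rintro rfl; omega) (by rw [hk]; exact dvd_mul_left _ _), hk,
        Nat.mul_div_cancel _ (by omega)]
    exact h (g ^ k) h2 ((Commute.refl g).pow_left k) (Or.inr ⟨k, by simp⟩)
  · rcases Nat.even_or_odd (Nat.card (centralizer ({g} : Set G))) with he' | ho'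
    · have : Fact (Nat.Prime 2) := ⟨Nat.prime_two⟩
      obtain ⟨y, hy⟩ := exists_prime_orderOf_dvd_card' (G := centralizer ({g} : Set G)) 2 he'.two_dvd
      exact h y (by rw [orderOf_coe]; exact hy) (mem_centralizer_singleton_iff.1 y.2) (Or.inl ho)
    · obtain ⟨t, ht, h3⟩ := S0241.result g h1 hg ho'
      exact ⟨t, by rw [← pow_two, ← ht, pow_orderOf_eq_one], h3⟩

/-- the alternating group of degree 5 is strongly real -/
theorem sr_alt5 : ∀ g : alternatingGroup (Fin 5), SR g := by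
  unfold SR
  (set_option synthInstance.maxSize 9000 in open scoped Cfsg.Agent.Lib.FastPerm in decide +kernel)

theorem sr_prod {A B : Type*} [Group A] [Group B] {a : A} {b : B} (ha : a * a = 1) (hb : SR b) :
    SR ((a, b) : A × B) := by
  obtain ⟨t, h1, h2⟩ := hb
  refine ⟨(1, t), by rw [Prod.mk_mul_mk, h1, one_mul]; rfl, ?_⟩
  rw [Prod.inv_mk, Prod.mk_mul_mk, Prod.inv_mk, Prod.mk_mul_mk, h2, inv_one, one_mul, mul_one,
    inv_eq_of_mul_eq_one_left ha]

end Cfsg.Agent.H581.SR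
end

-- part: H581/SR/JOne
section
/-!
# `J₁` : real elements are strongly real (helper581, task SR-SPJ12)
-/

set_option autoImplicit false

namespace Cfsg.Agent.H581.SR

open Subgroup Cfsg.Agent.H721.SR

theorem real_j1 {g : Cfsg.Spor.J1} (hg : IsConj g g⁻¹) : SR g := by
  have hfin : Finite Cfsg.Spor.J1 :=
    Nat.finite_of_card_ne_zero (by rw [H413.JOneLocal.card_J1]; norm_num)
  refine sr_or hg fun y hy hc _ => ?_
  obtain ⟨e⟩ := H413.JOneLocal.isLocal.cent y hy
  have hmem : g ∈ centralizer ({y} : Set Cfsg.Spor.J1) := mem_centralizer_singleton_iff.2 hc.symm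
  have h1 : SR (e ⟨g, hmem⟩) := by
    refine sr_prod (a := (e ⟨g, hmem⟩).1) (b := (e ⟨g, hmem⟩).2) ?_ (sr_alt5 _)
    generalize (e ⟨g, hmem⟩).1 = a
    revert a
    decide
  have h2 := (h1.map e.symm.toMonoidHom).map (centralizer ({y} : Set Cfsg.Spor.J1)).subtype
  simpa using h2

/-- **the row of `J₁`** -/
theorem rr_j1 {K : Type*} [Group K] (h : Cfsg.Spor.IsoJ1 K) : RR K := by
  obtain ⟨e⟩ := h
  exact RR.congr e.symm (RR.of_real fun _ hg => real_j1 hg)

end Cfsg.Agent.H581.SR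
end

-- part: H581/SR/JTwoC
section
/-!
# The centraliser `2^{1+4}:A₅` in `J₂`: strongly real elements (helper581, task SR-SPJ12)
-/

set_option autoImplicit false

namespace Cfsg.Agent.H581.SR.JTwoC

open Cfsg.Agent.H721.SR Subgroup
open Cfsg.Agent.J2Type.Model Cfsg.Agent.J2Type.SPFacts Cfsg.Agent.J2Type.CStruct Cfsg.Agent.J2Type.COdd

variable {C : Type*} [Group C] {Q : Subgroup C} {z : C} {v : Fin 5 → C} {ρ : C →* SP}

/-- elements of `Q` -/
theorem sr_Q (M : IsModel Q z v ρ) {q : C} (hq : q ∈ Q) : SR q := by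
  rcases M.cover q hq with ⟨a, h⟩ | ⟨a, i, h⟩ | ⟨a, i, j, -, h⟩
  · rw [h]; exact sr_of_sq (zp_sq M a)
  · rw [h]; exact sr_of_sq (zv_sq M a i)
  · rw [h, ← mul_assoc]
    exact sr_of_mul (zv_sq M a i) (M.v_sq j)

theorem pow_four_Q (M : IsModel Q z v ρ) {q : C} (hq : q ∈ Q) : q ^ 4 = 1 := by
  have key : q ^ 2 = 1 ∨ q ^ 2 = z := by
    rcases M.cover q hq with ⟨a, h⟩ | ⟨a, i, h⟩ | ⟨a, i, j, hij, h⟩
    · left; rw [h, pow_two]; exact zp_sq M a
    · left; rw [h, pow_two]; exact zv_sq M a i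
    · right; rw [h, pow_two, sq_zp_mul M, vv_sq M hij.ne]
  rw [show 4 = 2 * 2 by norm_num, pow_mul]
  rcases key with h | h
  · rw [h, one_pow]
  · rw [h, pow_two, M.z_sq]

theorem mem_zpowers_conj (M : IsModel Q z v ρ) {g k : C} (h : z ∈ zpowers g) : z ∈ zpowers (k * g * k⁻¹) := by
  obtain ⟨n, hn⟩ := mem_zpowers_iff.1 h
  refine mem_zpowers_iff.2 ⟨n, ?_⟩
  rw [conj_zpow, hn, M.z_comm k, mul_assoc, mul_inv_cancel, mul_one]

theorem orderOf_conj' (g k : C) : orderOf (k * g * k⁻¹) = orderOf g :=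
  (MulAut.conj k).orderOf_eq g

/-- the facts on `T3` -/
theorem T3_facts : ∀ x ∈ T3, (d3 * x * d3⁻¹ = x⁻¹ ∧ (x * x * x = 1 ∨ x * x * x = ⟨1, fun i => if i = 3 ∨ i = 4 then 1 else 0⟩)) ∨
    (x * x * x = ⟨1, fun j => if j = 3 then 0 else 1⟩ ∨ x * x * x = ⟨1, fun j => if j = 4 then 0 else 1⟩) := by
  decide +kernel

theorem T5_facts : ∀ x ∈ T5, d5 * x * d5⁻¹ = x⁻¹ ∧ x * x * x * x * x = 1 := by
  decide +kernel

theorem rho_v34 (M : IsModel Q z v ρ) : ρ (v 3 * v 4) = ⟨1, fun i => if i = 3 ∨ i = 4 then 1 else 0⟩ := by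
  rw [map_mul, rho_v M, rho_v M]
  apply SP.ext
  · rfl
  · funext j
    rw [mul_s]
    show (if j = 4 then (0 : ZMod 2) else 1) + (if j = 3 then 0 else 1) = if j = 3 ∨ j = 4 then 1 else 0
    revert j; decide

/-- sign of the inverter -/
theorem sign_zero (M : IsModel Q z v ρ) {D g : C} {n : ℕ} (hn : Odd n) (h1 : ρ (D * g * D⁻¹) = ρ g⁻¹)
    (h2 : D * g ^ n * D⁻¹ = (g ^ n)⁻¹) : D * g * D⁻¹ = g⁻¹ := by
  obtain ⟨a, ha⟩ := eq_of_rho_eq M h1
  rcases zmod2_cases a with rfl | rfl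
  · rw [ha, zp_zero, one_mul]
  · exfalso
    rw [zp_one] at ha
    have h3 : Commute z g⁻¹ := (M.z_comm g⁻¹).symm
    have h4 : D * g ^ n * D⁻¹ = z ^ n * (g⁻¹) ^ n := by
      rw [← h3.mul_pow, ← ha, conj_pow]
    have h5 : z ^ n = z := by
      obtain ⟨k, rfl⟩ := hn
      rw [pow_succ, pow_mul, pow_two, M.z_sq, one_pow, one_mul]
    rw [h2, h5, inv_pow] at h4
    apply M.z_ne
    have h6 : z * (g ^ n)⁻¹ = 1 * (g ^ n)⁻¹ := by rw [one_mul]; exact h4.symm
    exact mul_right_cancel h6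

/-- **elements of `C` above elements of order 3 of `A₅`** -/
theorem sr_three (M : IsModel Q z v ρ) [Finite C] (hcard : Nat.card C = 1920) {u : C} (hu : u * u = 1) (huQ : u ∉ Q)
    {g : C} (hσ : (ρ g).σ ≠ 1) (h3 : (ρ g).σ ^ 3 = 1) (hz : Odd (orderOf g) ∨ z ∈ zpowers g) : SR g := by
  have hpow : ∀ n : ℕ, (ρ (g ^ n)).σ = (ρ g).σ ^ n := by
    intro n
    induction n with
    | zero => simp [one_σ]
    | succ n ih => rw [pow_succ, map_mul, mul_σ, ih, pow_succ]
  have hQ : g ^ 3 ∈ Q := (M.mem_Q _).2 (by rw [hpow, h3])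
  have h12 : g ^ 12 = 1 := by
    rw [show 12 = 3 * 4 by norm_num, pow_mul]; exact pow_four_Q M hQ
  have hs : orderOf (g ^ 4) = 3 := by
    have : Fact (Nat.Prime 3) := ⟨by norm_num⟩
    apply orderOf_eq_prime
    · rw [← pow_mul, h12]
    · intro h
      apply hσ
      have h4 : (ρ (g ^ 4)).σ = (ρ g).σ ^ 4 := hpow 4
      rw [h, map_one, one_σ, pow_succ, h3, one_mul] at h4
      exact h4.symm
  obtain ⟨c3, hc3, hc33⟩ := exists_odd_lift M (n := 3) (by decide) g3_E g3_pow3
  obtain ⟨k, hk⟩ := conj_three M hcard hs hc3 hc33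
  -- move `g`
  have key : SR (k * g * k⁻¹) := by
    set g' := k * g * k⁻¹ with hg'
    have hz' : Odd (orderOf g') ∨ z ∈ zpowers g' := by
      rcases hz with h | h
      · left; rw [hg', orderOf_conj']; exact h
      · right; exact mem_zpowers_conj M h
    have h4 : g' ^ 4 = c3 := by rw [hg', conj_pow, hk]
    have h12' : g' ^ 12 = 1 := by rw [hg', conj_pow, h12]; group
    have hcomm : g' * c3 = c3 * g' := by rw [← h4]; exact (Commute.self_pow g' 4).eq
    rw [comm_iff_odd M (n := 3) (by decide) hc33, hc3] at hcomm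
    have hE := (M.range (ρ g')).1 ⟨g', rfl⟩
    have hT := cent_g3 _ hE.1 hE.2 hcomm
    have hρ3 : ρ (g' ^ 3) = ρ g' * ρ g' * ρ g' := by rw [map_pow, pow_succ, pow_two]
    obtain ⟨D, hD⟩ := (M.range d3).2 d3_E
    have hD2 : D * D = 1 := by
      apply sq_of_rho_sq M hu huQ
      · rw [hD]; decide +kernel
      · rw [hD]; decide +kernel
    rcases T3_facts _ hT with ⟨h5, h6⟩ | h6
    · refine ⟨D, hD2, sign_zero M (n := 3) (by decide) ?_ ?_⟩
      · rw [map_mul, map_mul, map_inv, map_inv, hD]; exact h5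
      · rcases h6 with h6 | h6
        · rcases (M.ker (g' ^ 3)).1 (by rw [hρ3]; exact h6) with h7 | h7
          · rw [h7]; group
          · rw [h7, M.z_comm, mul_assoc, mul_inv_cancel, mul_one]
            exact (inv_eq_of_mul_eq_one_left M.z_sq).symm
        · obtain ⟨a, ha⟩ := eq_of_rho_eq M (x := g' ^ 3) (y := v 3 * v 4) (by rw [hρ3, rho_v34 M]; exact h6)
          have h7 : D * (v 3 * v 4) * D⁻¹ = v 4 * v 3 := by
            calc D * (v 3 * v 4) * D⁻¹ = (D * v 3 * D⁻¹) * (D * v 4 * D⁻¹) := by group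
              _ = _ := by
                rw [M.conj, M.conj, hD]
                show zp z 0 * v (d3.σ 3) * (zp z 0 * v (d3.σ 4)) = v 4 * v 3
                rw [zp_zero, one_mul, one_mul, show d3.σ 3 = 4 by decide, show d3.σ 4 = 3 by decide]
          have h8 : (v 3 * v 4)⁻¹ = v 4 * v 3 := by
            rw [mul_inv_rev, inv_eq_of_mul_eq_one_left (M.v_sq 3), inv_eq_of_mul_eq_one_left (M.v_sq 4)]
          rw [ha, mul_inv_rev, h8, inv_eq_of_mul_eq_one_left (zp_sq M a), zp_comm' M, ← h7]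
          calc D * (zp z a * (v 3 * v 4)) * D⁻¹ = (D * zp z a) * (v 3 * v 4) * D⁻¹ := by group
            _ = (zp z a * D) * (v 3 * v 4) * D⁻¹ := by rw [zp_comm' M]
            _ = _ := by group
    · -- `g'³ = ± v i`, impossible
      exfalso
      obtain ⟨i, hi⟩ : ∃ i, ρ (g' ^ 3) = ρ (v i) := by
        rcases h6 with h6 | h6
        · exact ⟨3, by rw [hρ3, rho_v M]; exact h6⟩
        · exact ⟨4, by rw [hρ3, rho_v M]; exact h6⟩
      obtain ⟨a, ha⟩ := eq_of_rho_eq M hi
      have h7 : g' ^ 3 * g' ^ 3 = 1 := by rw [ha]; exact zv_sq M a i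
      have h8 : g' ^ 3 ≠ 1 := by rw [ha]; exact v_ne_one M i a
      have h9 : g' ^ 3 ≠ z := by rw [ha]; exact zv_ne_z M a i
      have h6' : g' ^ 6 = 1 := by rw [show 6 = 3 + 3 by norm_num, pow_add]; exact h7
      rcases hz' with h | h
      · apply h8
        have h10 : orderOf g' ∣ 6 := orderOf_dvd_of_pow_eq_one h6'
        rw [← orderOf_dvd_iff_pow_eq_one]
        have h11 : Nat.Coprime (orderOf g') 2 := by
          rw [Nat.coprime_two_right]; exact h
        exact h11.dvd_of_dvd_mul_right (by simpa using h10)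
      · obtain ⟨n, hn⟩ := mem_zpowers_iff.1 h
        have h10 : z = (g' ^ 3) ^ n := by
          have e1 : z = z ^ (3 : ℕ) := by rw [pow_succ, pow_two, M.z_sq, one_mul]
          rw [e1, ← hn, ← zpow_natCast, ← zpow_mul, ← zpow_natCast, ← zpow_mul, mul_comm]
        rcases Int.even_or_odd n with ⟨m, hm⟩ | ⟨m, hm⟩
        · apply M.z_ne
          rw [h10, hm, zpow_add, ← (Commute.refl (g' ^ 3)).mul_zpow, h7, one_zpow]
        · apply h9
          rw [h10, hm, zpow_add, zpow_mul, zpow_one]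
          have : (g' ^ 3) ^ (2 : ℤ) = 1 := by rw [zpow_two]; exact h7
          rw [this, one_zpow, one_mul]
  have := key.conj k⁻¹
  have e : k⁻¹ * (k * g * k⁻¹) * k⁻¹⁻¹ = g := by group
  rwa [e] at this

/-- **elements of `C` above elements of order 5 of `A₅`** -/
theorem sr_five (M : IsModel Q z v ρ) [Finite C] (hcard : Nat.card C = 1920) {u : C} (hu : u * u = 1) (huQ : u ∉ Q)
    {g : C} (hσ : (ρ g).σ ≠ 1) (h5 : (ρ g).σ ^ 5 = 1) : SR g := by
  have hpow : ∀ n : ℕ, (ρ (g ^ n)).σ = (ρ g).σ ^ n := by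
    intro n
    induction n with
    | zero => simp [one_σ]
    | succ n ih => rw [pow_succ, map_mul, mul_σ, ih, pow_succ]
  have hQ : g ^ 5 ∈ Q := (M.mem_Q _).2 (by rw [hpow, h5])
  have h20 : g ^ 20 = 1 := by
    rw [show 20 = 5 * 4 by norm_num, pow_mul]; exact pow_four_Q M hQ
  have hs : orderOf (g ^ 16) = 5 := by
    have : Fact (Nat.Prime 5) := ⟨by norm_num⟩
    apply orderOf_eq_prime
    · rw [← pow_mul, show 16 * 5 = 20 * 4 by norm_num, pow_mul, h20, one_pow]
    · intro h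
      apply hσ
      have h4 : (ρ (g ^ 16)).σ = (ρ g).σ ^ 16 := hpow 16
      rw [h, map_one, one_σ, show 16 = 5 * 3 + 1 by norm_num, pow_succ, pow_mul, h5, one_pow, one_mul] at h4
      exact h4.symm
  obtain ⟨c5, hc5, hc55⟩ := exists_odd_lift M (n := 5) (by decide) g5_E g5_pow5
  obtain ⟨k, hk⟩ := conj_five M hcard hs hc5 hc55
  have key : SR (k * g * k⁻¹) := by
    set g' := k * g * k⁻¹ with hg'
    have hcomm : g' * c5 = c5 * g' := by
      rcases hk with hk | hk
      · have h4 : g' ^ 16 = c5 := by rw [hg', conj_pow, hk]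
        rw [← h4]; exact (Commute.self_pow g' 16).eq
      · have h4 : g' ^ 48 = c5 := by
          have h6 : c5 ^ 6 = c5 := by rw [show 6 = 5 + 1 by norm_num, pow_succ, hc55, one_mul]
          rw [show 48 = 16 * 3 by norm_num, pow_mul, hg', conj_pow, hk, ← pow_mul]
          exact h6
        rw [← h4]; exact (Commute.self_pow g' 48).eq
    rw [comm_iff_odd M (n := 5) (by decide) hc55, hc5] at hcomm
    have hE := (M.range (ρ g')).1 ⟨g', rfl⟩
    have hT := cent_g5 _ hE.1 hE.2 hcomm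
    obtain ⟨D, hD⟩ := (M.range d5).2 d5_E
    have hD2 : D * D = 1 := by
      apply sq_of_rho_sq M hu huQ
      · rw [hD]; decide +kernel
      · rw [hD]; decide +kernel
    obtain ⟨h6, h7⟩ := T5_facts _ hT
    refine ⟨D, hD2, sign_zero M (n := 5) (by decide) ?_ ?_⟩
    · rw [map_mul, map_mul, map_inv, map_inv, hD]; exact h6
    · have hρ5 : ρ (g' ^ 5) = 1 := by
        rw [map_pow, pow_succ, pow_succ, pow_succ, pow_two]; exact h7
      rcases (M.ker (g' ^ 5)).1 hρ5 with h8 | h8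
      · rw [h8]; group
      · rw [h8, M.z_comm, mul_assoc, mul_inv_cancel, mul_one]
        exact (inv_eq_of_mul_eq_one_left M.z_sq).symm
  have := key.conj k⁻¹
  have e : k⁻¹ * (k * g * k⁻¹) * k⁻¹⁻¹ = g := by group
  rwa [e] at this

theorem pair_cases : ∀ i j : Fin 5, i < j → j = 4 ∨ (i = 0 ∧ j = 1) ∨ (i = 2 ∧ j = 3) ∨
    ((i = 0 ∨ i = 1) ∧ (j = 2 ∨ j = 3)) := by decide

/-- **elements of `C` above involutions of `A₅`** -/
theorem sr_two (M : IsModel Q z v ρ) {u : C} (hu : u * u = 1) (huQ : u ∉ Q)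
    {g : C} (hσ : (ρ g).σ ≠ 1) (h2 : (ρ g).σ * (ρ g).σ = 1) (hz : Odd (orderOf g) ∨ z ∈ zpowers g) : SR g := by
  have hE := (M.range (ρ g)).1 ⟨g, rfl⟩
  obtain ⟨τ, hτ1, hτ⟩ := conj_g0_aux1 (ρ g).σ hE.1 h2 hσ
  obtain ⟨k, hk⟩ := (M.range ⟨τ, fun _ => 0⟩).2 ⟨hτ1, by simp⟩
  have key : SR (k * g * k⁻¹) := by
    set g' := k * g * k⁻¹ with hg'
    have hz' : Odd (orderOf g') ∨ z ∈ zpowers g' := by
      rcases hz with h | h
      · left; rw [hg', orderOf_conj']; exact h
      · right; exact mem_zpowers_conj M h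
    have hσ' : (ρ g').σ = σ0 := by
      rw [hg', map_mul, map_mul, map_inv, mul_σ, mul_σ, inv_σ, hk]
      show τ * (ρ g).σ * τ⁻¹ = σ0
      rw [hτ]; group
    obtain ⟨x0, h0⟩ := (M.range g0).2 g0_E
    have h00 : x0 * x0 = 1 := by
      apply sq_of_rho_sq M hu huQ
      · rw [h0]; exact g0_sq
      · rw [h0]; exact g0_σ_ne
    have hq : x0 * g' ∈ Q := by
      rw [M.mem_Q, map_mul, mul_σ, h0, hσ']
      decide +kernel
    have hg0 : g' = x0 * (x0 * g') := by rw [← mul_assoc, h00, one_mul]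
    have hx : ∀ i, x0 * v i = v (σ0 i) * x0 := by
      intro i
      have h4 := M.conj x0 i
      rw [h0] at h4
      have h5 : zp z (g0.s i) * v (g0.σ i) = v (σ0 i) := by
        show zp z 0 * v (σ0 i) = _
        rw [zp_zero, one_mul]
      rw [h5] at h4
      exact mul_inv_eq_iff_eq_mul.1 h4
    rcases M.cover _ hq with ⟨a, h⟩ | ⟨a, i, h⟩ | ⟨a, i, j, hij, h⟩
    · rw [hg0, h]; exact sr_of_mul h00 (zp_sq M a)
    · rw [hg0, h]; exact sr_of_mul h00 (zv_sq M a i)
    · have hx4 : (x0 * v 4) * (x0 * v 4) = 1 := by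
        have h5 := hx 4
        rw [show σ0 4 = 4 by decide] at h5
        calc (x0 * v 4) * (x0 * v 4) = (x0 * v 4) * (v 4 * x0) := by rw [← h5]
          _ = x0 * (v 4 * v 4) * x0 := by group
          _ = 1 := by rw [M.v_sq, mul_one, h00]
      have e : g' = zp z a * (v (σ0 i) * (x0 * v j)) := by
        rw [hg0, h]
        calc x0 * (zp z a * (v i * v j)) = (x0 * zp z a) * v i * v j := by group
          _ = (zp z a * x0) * v i * v j := by rw [zp_comm' M]
          _ = zp z a * (x0 * v i) * v j := by group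
          _ = zp z a * (v (σ0 i) * x0) * v j := by rw [hx]
          _ = _ := by group
      rcases pair_cases i j hij with rfl | ⟨rfl, rfl⟩ | ⟨rfl, rfl⟩ | ⟨hi, hj⟩
      · rw [e, ← mul_assoc]
        exact sr_of_mul (zv_sq M a _) hx4
      · apply sr_of_sq
        rw [e, sq_zp_mul M, show σ0 0 = 1 by decide]
        calc v 1 * (x0 * v 1) * (v 1 * (x0 * v 1)) = v 1 * x0 * (v 1 * v 1) * x0 * v 1 := by group
          _ = v 1 * (x0 * x0) * v 1 := by rw [M.v_sq, mul_one]; group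
          _ = 1 := by rw [h00, mul_one, M.v_sq]
      · apply sr_of_sq
        rw [e, sq_zp_mul M, show σ0 2 = 3 by decide]
        calc v 3 * (x0 * v 3) * (v 3 * (x0 * v 3)) = v 3 * x0 * (v 3 * v 3) * x0 * v 3 := by group
          _ = v 3 * (x0 * x0) * v 3 := by rw [M.v_sq, mul_one]; group
          _ = 1 := by rw [h00, mul_one, M.v_sq]
      · -- `g'² = ± v 4`
        exfalso
        have h5 : ρ (g' * g') = ρ (v 4) := by
          have e1 : ρ g' = g0 * (ρ (v i) * ρ (v j)) := by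
            rw [hg0, h, map_mul, map_mul, map_mul, rho_zp M, one_mul, h0]
          rw [map_mul, e1, rho_v M, rho_v M, rho_v M]
          rcases hi with rfl | rfl <;> rcases hj with rfl | rfl <;> decide +kernel
        obtain ⟨b, hb⟩ := eq_of_rho_eq M h5
        have h7 : (g' * g') * (g' * g') = 1 := by rw [hb]; exact zv_sq M b 4
        have h8 : g' * g' ≠ 1 := by rw [hb]; exact v_ne_one M 4 b
        have h9 : g' * g' ≠ z := by rw [hb]; exact zv_ne_z M b 4
        rcases hz' with h | h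
        · have h10 : g' ^ 4 = 1 := by
            rw [show 4 = 2 + 2 by norm_num, pow_add, pow_two]; exact h7
          have h11 : orderOf g' ∣ 4 := orderOf_dvd_of_pow_eq_one h10
          have h12 : Nat.Coprime (orderOf g') 4 := by
            rw [show 4 = 2 ^ 2 by norm_num]
            exact Nat.Coprime.pow_right 2 (Nat.coprime_two_right.2 h)
          have h13 : orderOf g' = 1 := by
            have := Nat.dvd_gcd dvd_rfl h11
            rw [h12] at this
            exact Nat.dvd_one.1 this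
          apply h8
          rw [orderOf_eq_one_iff.1 h13, mul_one]
        · obtain ⟨n, hn⟩ := mem_zpowers_iff.1 h
          rcases Int.even_or_odd n with ⟨m, hm⟩ | ⟨m, hm⟩
          · have h10 : z = (g' * g') ^ m := by
              rw [← hn, hm, zpow_add, ← (Commute.refl g').mul_zpow]
            rcases Int.even_or_odd m with ⟨l, hl⟩ | ⟨l, hl⟩
            · apply M.z_ne
              rw [h10, hl, zpow_add, ← (Commute.refl (g' * g')).mul_zpow, h7, one_zpow]
            · apply h9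
              rw [h10, hl, zpow_add, zpow_mul, zpow_one]
              have : (g' * g') ^ (2 : ℤ) = 1 := by rw [zpow_two]; exact h7
              rw [this, one_zpow, one_mul]
          · -- `n` odd
            have h10 : (ρ g').σ = 1 := by
              have h11 : ρ (g' ^ n) = 1 := by rw [hn]; exact rho_z M
              have h12 : (ρ (g' ^ n)).σ = (ρ g').σ ^ n := by
                let f : SP →* Equiv.Perm (Fin 5) := { toFun := SP.σ, map_one' := rfl, map_mul' := fun _ _ => rfl }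
                have : f (ρ (g' ^ n)) = (f (ρ g')) ^ n := by rw [map_zpow, map_zpow]
                exact this
              rw [h11, hσ', one_σ, hm, zpow_add, zpow_mul, zpow_one] at h12
              have h13 : σ0 ^ (2 : ℤ) = 1 := by decide +kernel
              rw [h13, one_zpow, one_mul] at h12
              rw [hσ', ← h12]
            rw [hσ'] at h10
            exact absurd h10 (by decide)
  have := key.conj k⁻¹
  have e : k⁻¹ * (k * g * k⁻¹) * k⁻¹⁻¹ = g := by group
  rwa [e] at this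

theorem perm_cases : ∀ σ : Equiv.Perm (Fin 5), Equiv.Perm.sign σ = 1 → σ = 1 ∨ σ * σ = 1 ∨ σ ^ 3 = 1 ∨ σ ^ 5 = 1 := by
  (set_option synthInstance.maxSize 9000 in open scoped Cfsg.Agent.Lib.FastPerm in decide +kernel)

/-- **all elements of `C` of odd order or with `z` among their powers** -/
theorem sr_C (M : IsModel Q z v ρ) [Finite C] (hcard : Nat.card C = 1920) {u : C} (hu : u * u = 1) (huQ : u ∉ Q)
    {g : C} (hz : Odd (orderOf g) ∨ z ∈ zpowers g) : SR g := by
  have hE := (M.range (ρ g)).1 ⟨g, rfl⟩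
  by_cases h1 : (ρ g).σ = 1
  · exact sr_Q M ((M.mem_Q g).2 h1)
  rcases perm_cases _ hE.1 with h | h | h | h
  · exact absurd h h1
  · exact sr_two M hu huQ h1 h hz
  · exact sr_three M hcard hu huQ h1 h hz
  · exact sr_five M hcard hu huQ h1 h

end Cfsg.Agent.H581.SR.JTwoC
end

-- part: H581/SR/JTwo
section
/-!
# `J₂` : real elements are strongly real (helper581, task SR-SPJ12)
-/

set_option autoImplicit false

namespace Cfsg.Agent.H581.SR.JTwo

open Subgroup Cfsg.Agent.H721.SR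
open Cfsg.Agent.J2Type.Model Cfsg.Agent.J2Type.Base Cfsg.Agent.J2Type.CentU Cfsg.Agent.J2Type.Cent5
open Cfsg.Agent.KFacts.J2.Basic

variable {X : Type*} [Group X] {t u : X}

/-- elements commuting with `u` -/
theorem sr_u [Finite X] (h : Fus t u) {g : X} (hg : g * u = u * g) : SR g := by
  obtain ⟨f, U, V, H0, F⟩ := Cfsg.Agent.J2Type.CentU.main h
  have h60 := Cfsg.Agent.J2Type.ThreeA.card_H0 h F
  obtain ⟨e⟩ := exists_equiv h F h60
  obtain ⟨a, ha, b, hb, rfl⟩ := _root_.Cfsg.Agent.J2Type.Cent5.exists_mul F (mem_centralizer_singleton_iff.2 hg)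
  obtain ⟨s, hs, hsb⟩ := ((sr_alt5 (e ⟨b, hb⟩)).map e.symm.toMonoidHom)
  have hsb' : (s : X) * b * (s : X)⁻¹ = b⁻¹ := by
    have := congrArg Subtype.val hsb
    simpa only [_root_.MulEquiv.toMonoidHom_eq_coe, _root_.MonoidHom.coe_coe, _root_.MulEquiv.symm_apply_apply, _root_.Subgroup.coe_mul, _root_.InvMemClass.coe_inv] using this
  have hs' : (s : X) * s = 1 := congrArg Subtype.val hs
  refine ⟨s, hs', ?_⟩
  have h1 : a * (s : X) = s * a := V_comm h F h60 ha s.2
  have h2 : a * b = b * a := V_comm h F h60 ha hb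
  have h3 : a⁻¹ = a := inv_V h F ha
  calc (s : X) * (a * b) * (s : X)⁻¹ = (s * a) * b * (s : X)⁻¹ := by group
    _ = a * (s * b * (s : X)⁻¹) := by rw [← h1]; group
    _ = a * b⁻¹ := by rw [hsb']
    _ = (a * b)⁻¹ := by rw [h2, mul_inv_rev, h3]

/-- elements of `C(t)` -/
theorem sr_t [Finite X] {Q : Subgroup (centralizer ({t} : Set X))} {v : Fin 5 → centralizer ({t} : Set X)}
    {ρ : centralizer ({t} : Set X) →* SP} (D : Dat t u Q v ρ) {g : X} (hg : g * t = t * g)
    (h : Odd (orderOf g) ∨ t ∈ zpowers g) : SR g := by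
  have hmem : g ∈ centralizer ({t} : Set X) := mem_centralizer_singleton_iff.2 hg
  have h1 : SR (⟨g, hmem⟩ : centralizer ({t} : Set X)) := by
    refine JTwoC.sr_C D.M D.F.cardC (u := ⟨u, D.u_mem⟩) (Subtype.ext D.uu) D.u_notMem ?_
    rcases h with h | h
    · left
      have : orderOf (⟨g, hmem⟩ : centralizer ({t} : Set X)) = orderOf g := (Subgroup.orderOf_mk g hmem)
      rwa [this]
    · right
      obtain ⟨n, hn⟩ := mem_zpowers_iff.1 h
      exact mem_zpowers_iff.2 ⟨n, Subtype.ext hn⟩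
  exact h1.map (centralizer ({t} : Set X)).subtype

/-- **real elements of a group with the data of `J₂`** -/
theorem sr_real [Finite X] {Q : Subgroup (centralizer ({t} : Set X))} {v : Fin 5 → centralizer ({t} : Set X)}
    {ρ : centralizer ({t} : Set X) →* SP} (D : Dat t u Q v ρ) {g : X} (hg : IsConj g g⁻¹) : SR g := by
  refine sr_or hg fun y hy hc hz => ?_
  rcases D.F.cover y hy with h | h
  · obtain ⟨x, rfl⟩ := isConj_iff.1 h
    have h1 : SR (x⁻¹ * g * x) := by
      apply sr_t D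
      · calc x⁻¹ * g * x * t = x⁻¹ * (g * (x * t * x⁻¹)) * x := by group
          _ = x⁻¹ * ((x * t * x⁻¹) * g) * x := by rw [hc]
          _ = t * (x⁻¹ * g * x) := by group
      · rcases hz with hz | hz
        · left
          have : orderOf (x⁻¹ * g * x) = orderOf g := by
            have := JTwoC.orderOf_conj' g x⁻¹
            rwa [inv_inv] at this
          rwa [this]
        · right
          obtain ⟨n, hn⟩ := mem_zpowers_iff.1 hz
          refine mem_zpowers_iff.2 ⟨n, ?_⟩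
          have h2 : (x⁻¹ * g * x) ^ n = x⁻¹ * g ^ n * x := by
            have := conj_zpow (i := n) (a := x⁻¹) (b := g)
            rwa [inv_inv] at this
          rw [h2, hn]; group
    have h2 := h1.conj x
    have e : x * (x⁻¹ * g * x) * x⁻¹ = g := by group
    rwa [e] at h2
  · obtain ⟨x, rfl⟩ := isConj_iff.1 h
    have h1 : SR (x⁻¹ * g * x) := by
      apply sr_u D.F
      calc x⁻¹ * g * x * u = x⁻¹ * (g * (x * u * x⁻¹)) * x := by group
          _ = x⁻¹ * ((x * u * x⁻¹) * g) * x := by rw [hc]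
          _ = u * (x⁻¹ * g * x) := by group
    have h2 := h1.conj x
    have e : x * (x⁻¹ * g * x) * x⁻¹ = g := by group
    rwa [e] at h2

end Cfsg.Agent.H581.SR.JTwo

namespace Cfsg.Agent.H581.SR

open Subgroup Cfsg.Agent.H721.SR

open JTwo Cfsg.Agent.KFacts.J2.Basic in
/-- **the row of `J₂`** -/
theorem rr_j2 {K : Type*} [Group K] (h : Cfsg.Spor.IsoJ2 K) : RR K := by
  obtain ⟨e⟩ := h
  have hfin : Finite Cfsg.Spor.J2 :=
    Nat.finite_of_card_ne_zero (by rw [Cfsg.Agent.S1619.result.2.2.2]; norm_num)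
  obtain ⟨t, u, Q, v, ρ, D⟩ := exists_dat
  exact RR.congr e.symm (RR.of_real fun _ hg => sr_real D hg)

end Cfsg.Agent.H581.SR
end

-- part: H84/SR/Even
section
/-!
# TEAM SR (S4971): orthogonal groups in characteristic two

`good_all` : every `g ∈ O Q` is inverted by an isometry of order at most two with a fixed space of half the dimension
(`H892.FSUni.Good`), from THEOREM PIECE in characteristic two (`Pieces F`).
-/

set_option autoImplicit false
set_option linter.unusedSectionVars false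

namespace Cfsg.Agent.H84.SREven

open Module QuadraticMap
open Cfsg.Agent.LieClassical.OrthCore Cfsg.Agent.H892.FSUni
open Cfsg.Agent.H955 hiding cyc NdOn
open Cfsg.Agent.H721.SR (St cyc CPiece PPiece Iso0 Ann)

universe u v

/-- THEOREM PIECE in characteristic two, for isometries without fixed vectors -/
def Pieces (F : Type u) [Field F] : Prop :=
  ∀ (V : Type v) [AddCommGroup V] [Module F V] [FiniteDimensional F V] (B : V →ₗ[F] V →ₗ[F] F) (g : V ≃ₗ[F] V),
    St B 1 g → (∀ v, g v = v → v = 0) → (∃ v : V, v ≠ 0) →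
    (∃ (f : Polynomial F) (k : ℕ) (v : V), CPiece B g f k v) ∨
      (∃ (f : Polynomial F) (k : ℕ) (v w : V), PPiece B g f k v w)

variable {F : Type u} [Field F] {V : Type v} [AddCommGroup V] [Module F V] {Q : QuadraticForm F V}

/-! ### the cyclic subspaces -/

theorem mem_cyc (g : V ≃ₗ[F] V) (v : V) (i : ℤ) : (g ^ i) v ∈ cyc g v := Submodule.subset_span ⟨i, rfl⟩

theorem self_mem_cyc (g : V ≃ₗ[F] V) (v : V) : v ∈ cyc g v := mem_cyc g v 0

theorem cyc_inv [CharP F 2] (g : V ≃ₗ[F] V) (v : V) : _root_.Cfsg.Agent.H955.Inv g (cyc g v) := span_zpow_inv g v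

section Restr

variable [CharP F 2] [FiniteDimensional F V]

theorem coe_resT_zpow (T : V ≃ₗ[F] V) (W : Submodule F V) (h : _root_.Cfsg.Agent.H955.Inv T W) (n : ℤ) (w : W) :
    ((resT T W h ^ n) w : V) = (T ^ n) (w : V) := by
  obtain ⟨n, rfl | rfl⟩ := n.eq_nat_or_neg
  · rw [zpow_natCast, zpow_natCast]
    exact coe_resT_pow T W h n w
  · rw [zpow_neg, zpow_neg, zpow_natCast, zpow_natCast]
    have h1 : (resT T W h ^ n) (((resT T W h ^ n)⁻¹) w) = w := LinearEquiv.apply_symm_apply _ _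
    have h2 : (T ^ n) ((((resT T W h ^ n)⁻¹) w : W) : V) = w :=
      (coe_resT_pow T W h n _).symm.trans (congrArg Subtype.val h1)
    have h3 : (T ^ n) (((T ^ n)⁻¹) (w : V)) = (w : V) := LinearEquiv.apply_symm_apply _ _
    exact (T ^ n).injective (h2.trans h3.symm)

theorem coe_mem_cyc {g : V ≃ₗ[F] V} {W : Submodule F V} (h : _root_.Cfsg.Agent.H955.Inv g W) (v : W) {x : W}
    (hx : x ∈ cyc (resT g W h) v) : (x : V) ∈ cyc g (v : V) := by
  have h1 : cyc (resT g W h) v ≤ (cyc g (v : V)).comap W.subtype := by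
    rw [cyc, Submodule.span_le]
    rintro _ ⟨i, rfl⟩
    show (((resT g W h ^ i) v : W) : V) ∈ cyc g (v : V)
    rw [coe_resT_zpow]
    exact mem_cyc g _ i
  exact h1 hx

/-- restriction of a vector generating `W` -/
theorem cyc_resT_top {g : V ≃ₗ[F] V} {W : Submodule F V} (h : _root_.Cfsg.Agent.H955.Inv g W) (v : W) (hW : cyc g (v : V) = W) :
    cyc (resT g W h) v = ⊤ := by
  apply span_range_subtype
  simp only [coe_resT_zpow]
  exact hW

theorem cyc_sup_resT_top {g : V ≃ₗ[F] V} {W : Submodule F V} (h : _root_.Cfsg.Agent.H955.Inv g W) (v w : W)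
    (hW : cyc g (v : V) ⊔ cyc g (w : V) = W) : cyc (resT g W h) v ⊔ cyc (resT g W h) w = ⊤ := by
  rw [cyc, cyc, ← Submodule.span_union, ← Set.Sum.elim_range]
  apply span_range_subtype
  refine Eq.trans ?_ hW
  rw [cyc, cyc, ← Submodule.span_union, ← Set.Sum.elim_range]
  congr 1
  congr 1
  funext s
  cases s
  · exact coe_resT_zpow g W h _ v
  · exact coe_resT_zpow g W h _ w

end Restr

section Two

variable [CharP F 2] [FiniteDimensional F V]

theorem exists_nl {g : V ≃ₗ[F] V} (hfree : ∀ v, g v = v → v = 0) {W : Submodule F V} (hW : _root_.Cfsg.Agent.H955.Inv g W) {x : V}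
    (hx : x ∈ W) : ∃ y ∈ W, nl g y = x := by
  have h1 : ∀ y ∈ W, nl g y ∈ W := fun y hy => by
    rw [nl_apply]
    exact W.add_mem (hW y hy) hy
  let f : W →ₗ[F] W := (nl g).restrict h1
  have hf : Function.Injective f := by
    rw [← LinearMap.ker_eq_bot, LinearMap.ker_eq_bot']
    intro y hy
    have h2 : nl g (y : V) = 0 := congrArg Subtype.val hy
    rw [nl_apply] at h2
    exact Subtype.ext (hfree _ (eq_of_add F h2))
  obtain ⟨y, hy⟩ := (LinearMap.injective_iff_surjective.1 hf) ⟨x, hx⟩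
  exact ⟨y, y.2, congrArg Subtype.val hy⟩

/-- a totally isotropic invariant subspace is totally singular if there are no fixed vectors -/
theorem sing_of_iso {g : V ≃ₗ[F] V} (hg : g ∈ O Q) (hfree : ∀ v, g v = v → v = 0) {W : Submodule F V}
    (hW : _root_.Cfsg.Agent.H955.Inv g W) (hiso : ∀ x ∈ W, ∀ y ∈ W, polar Q x y = 0) {x : V} (hx : x ∈ W) : Q x = 0 := by
  obtain ⟨y, hy, rfl⟩ := exists_nl hfree hW hx
  rw [Q_nl hg]
  refine hiso y hy _ ?_
  rw [nl_apply]
  exact W.add_mem (hW y hy) hy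

/-- **pair pieces** -/
theorem good_pair (hQ : Nondeg Q) {g : V ≃ₗ[F] V} (hg : g ∈ O Q) (hfree : ∀ v, g v = v → v = 0) (v w : V)
    (hv : ∀ x ∈ cyc g v, ∀ y ∈ cyc g v, polar Q x y = 0) (hw : ∀ x ∈ cyc g w, ∀ y ∈ cyc g w, polar Q x y = 0)
    (hs : cyc g v ⊔ cyc g w = ⊤) : Good Q g := by
  classical
  let X : ℤ ⊕ ℤ → V := Sum.elim (fun i => (g ^ i) v) (fun i => (g ^ i) w)
  let Y : ℤ ⊕ ℤ → V := Sum.elim (fun i => (g ^ (-i)) w) (fun i => (g ^ (-i)) v)
  have hneg : ∀ u : V, Set.range (fun i : ℤ => (g ^ (-i)) u) = Set.range (fun i : ℤ => (g ^ i) u) := by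
    intro u
    ext x
    constructor
    · rintro ⟨i, rfl⟩
      exact ⟨-i, rfl⟩
    · rintro ⟨i, rfl⟩
      exact ⟨-i, by show (g ^ (- -i)) u = (g ^ i) u; rw [neg_neg]⟩
  have hX : Submodule.span F (Set.range X) = ⊤ := by
    rw [Set.Sum.elim_range, Submodule.span_union]
    exact hs
  have hY : Submodule.span F (Set.range Y) = ⊤ := by
    rw [Set.Sum.elim_range, hneg, hneg, Submodule.span_union, sup_comm]
    exact hs
  have hQv : ∀ x ∈ cyc g v, Q x = 0 := fun x hx => sing_of_iso hg hfree (cyc_inv g v) hv hx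
  have hQw : ∀ x ∈ cyc g w, Q x = 0 := fun x hx => sing_of_iso hg hfree (cyc_inv g w) hw hx
  obtain ⟨h, hh, hhX⟩ := exists_isometry hQ X Y hX hY
    (by
      rintro (i | i)
      · show Q ((g ^ i) v) = Q ((g ^ (-i)) w)
        rw [hQv _ (mem_cyc g v i), hQw _ (mem_cyc g w _)]
      · show Q ((g ^ i) w) = Q ((g ^ (-i)) v)
        rw [hQw _ (mem_cyc g w i), hQv _ (mem_cyc g v _)])
    (by
      rintro (i | i) (j | j)
      · show polar Q ((g ^ i) v) ((g ^ j) v) = polar Q ((g ^ (-i)) w) ((g ^ (-j)) w)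
        rw [hv _ (mem_cyc g v i) _ (mem_cyc g v j), hw _ (mem_cyc g w _) _ (mem_cyc g w _)]
      · show polar Q ((g ^ i) v) ((g ^ j) w) = polar Q ((g ^ (-i)) w) ((g ^ (-j)) v)
        rw [polar_zpow hg, polar_zpow hg, polar_zpow_symm hg]
        congr 3
        ring
      · show polar Q ((g ^ i) w) ((g ^ j) v) = polar Q ((g ^ (-i)) v) ((g ^ (-j)) w)
        rw [polar_zpow hg, polar_zpow hg, polar_zpow_symm hg]
        congr 3
        ring
      · show polar Q ((g ^ i) w) ((g ^ j) w) = polar Q ((g ^ (-i)) v) ((g ^ (-j)) v)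
        rw [hw _ (mem_cyc g w i) _ (mem_cyc g w j), hv _ (mem_cyc g v _) _ (mem_cyc g v _)])
  have hhv : ∀ i : ℤ, h ((g ^ i) v) = (g ^ (-i)) w := fun i => hhX (Sum.inl i)
  have hhw : ∀ i : ℤ, h ((g ^ i) w) = (g ^ (-i)) v := fun i => hhX (Sum.inr i)
  have hext : ∀ a b : V ≃ₗ[F] V, (∀ i : ℤ, a ((g ^ i) v) = b ((g ^ i) v)) → (∀ i : ℤ, a ((g ^ i) w) = b ((g ^ i) w)) →
      a = b := by
    intro a b h1 h2
    apply LinearEquiv.toLinearMap_injective
    apply LinearMap.ext_on_range hX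
    rintro (i | i)
    · exact h1 i
    · exact h2 i
  have hinvol : h * h = 1 := by
    apply hext
    · intro i
      rw [LinearEquiv.mul_apply, hhv, hhw, neg_neg]
      rfl
    · intro i
      rw [LinearEquiv.mul_apply, hhw, hhv, neg_neg]
      rfl
  have hgz : ∀ (i : ℤ) (u : V), g ((g ^ i) u) = (g ^ (i + 1)) u := by
    intro i u
    rw [add_comm, zpow_add, zpow_one, LinearEquiv.mul_apply]
  have hgz' : ∀ (i : ℤ) (u : V), g⁻¹ ((g ^ (-i)) u) = (g ^ (-(i + 1))) u := by
    intro i u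
    rw [neg_add_rev, zpow_add, zpow_neg_one, LinearEquiv.mul_apply]
  refine ⟨h, hh, hinvol, ?_, ?_⟩
  · apply hext
    · intro i
      rw [LinearEquiv.mul_apply, LinearEquiv.mul_apply, hhv, hgz, hhv, hgz']
    · intro i
      rw [LinearEquiv.mul_apply, LinearEquiv.mul_apply, hhw, hgz, hhw, hgz']
  · refine finrank_fixS_of_swap hinvol (W := cyc g v) ?_ ?_
    · rw [eq_top_iff, ← hs]
      refine sup_le_sup le_rfl ?_
      rw [cyc, Submodule.span_le]
      rintro _ ⟨i, rfl⟩
      refine ⟨(g ^ (-i)) v, mem_cyc g v _, ?_⟩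
      show h ((g ^ (-i)) v) = (g ^ i) w
      rw [hhv, neg_neg]
    · have h1 := finrank_add_perp hQ (cyc g v)
      have h2 : cyc g v ≤ perp Q (cyc g v) := fun x hx y hy => hv y hy x hx
      have h3 := Submodule.finrank_mono h2
      omega

theorem nl_pow_mem_span (N : Module.End F V) (v : V) :
    (N ^ (finrank F V)) v ∈ Submodule.span F (Set.range fun i : Fin (finrank F V) => (N ^ (i : ℕ)) v) := by
  have h1 := LinearMap.aeval_self_charpoly N
  rw [(LinearMap.charpoly_monic N).as_sum, LinearMap.charpoly_natDegree, map_add, map_sum, map_pow,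
    Polynomial.aeval_X] at h1
  have h2 := LinearMap.congr_fun h1 v
  rw [LinearMap.add_apply, LinearMap.zero_apply, LinearMap.sum_apply] at h2
  rw [eq_neg_of_add_eq_zero_left h2]
  refine Submodule.neg_mem _ (Submodule.sum_mem _ fun i hi => ?_)
  rw [map_mul, Polynomial.aeval_C, map_pow, Polynomial.aeval_X, Module.End.mul_apply, Module.algebraMap_end_apply]
  exact Submodule.smul_mem _ _ (Submodule.subset_span ⟨⟨i, Finset.mem_range.1 hi⟩, rfl⟩)

/-- **cyclic pieces** -/
theorem good_cyc (hQ : Nondeg Q) {g : V ≃ₗ[F] V} (hg : g ∈ O Q) (v : V) (hs : cyc g v = ⊤) : Good Q g := by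
  obtain ⟨n, hn⟩ := Cfsg.Agent.H646.FSGlue.even_finrank_of_nondeg hQ
  refine good_cyclic hQ hg hn v ?_
  rw [← hn]
  set S := Submodule.span F (Set.range fun i : Fin (finrank F V) => (nl g ^ (i : ℕ)) v) with hS
  rcases Nat.eq_zero_or_pos (finrank F V) with h0 | h0
  · have : Subsingleton V := Module.finrank_zero_iff.1 h0
    exact Subsingleton.elim _ _
  have hnl : ∀ x ∈ S, nl g x ∈ S := by
    intro x hx
    have h1 : S ≤ S.comap (nl g) := by
      rw [hS, Submodule.span_le]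
      rintro _ ⟨i, rfl⟩
      show nl g ((nl g ^ (i : ℕ)) v) ∈ S
      rw [← Module.End.mul_apply, ← pow_succ']
      rcases Nat.lt_or_ge ((i : ℕ) + 1) (finrank F V) with h | h
      · exact Submodule.subset_span ⟨⟨(i : ℕ) + 1, h⟩, rfl⟩
      · have h2 : (i : ℕ) + 1 = finrank F V := by have := i.2; omega
        rw [h2]
        exact nl_pow_mem_span (nl g) v
    exact h1 hx
  have hgS : ∀ x ∈ S, g x ∈ S := fun x hx => by
    rw [map_eq]
    exact S.add_mem (hnl x hx) hx
  rw [eq_top_iff, ← hs, cyc, Submodule.span_le]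
  rintro _ ⟨i, rfl⟩
  exact zpow_mem_of_inv hgS i (Submodule.subset_span ⟨⟨0, h0⟩, rfl⟩)

/-! ### pieces of `V` -/

theorem ne_zero_of_ann {g : V ≃ₗ[F] V} {v : V} {f : Polynomial F} {k : ℕ} (hf : Irreducible f) (hk : 0 < k)
    (h : Ann g v (f ^ k)) : v ≠ 0 := by
  rintro rfl
  have h1 : f ^ k ∣ 1 := (h 1).1 (map_zero _)
  exact hf.not_isUnit (isUnit_of_dvd_one ((dvd_pow_self f hk.ne').trans h1))

theorem finrank_pos_of_mem {W : Submodule F V} {v : V} (hv : v ∈ W) (h0 : v ≠ 0) : 0 < finrank F W := by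
  have : Nontrivial W := ⟨⟨⟨v, hv⟩, 0, fun h => h0 (congrArg Subtype.val h)⟩⟩
  exact Module.finrank_pos

theorem free_resT {g : V ≃ₗ[F] V} (hfree : ∀ v, g v = v → v = 0) {W : Submodule F V} (h : _root_.Cfsg.Agent.H955.Inv g W) (v : W)
    (hv : resT g W h v = v) : v = 0 :=
  Subtype.ext (hfree v (congrArg Subtype.val hv))

theorem good_cpiece {g : V ≃ₗ[F] V} (hg : g ∈ O Q) {f : Polynomial F} {k : ℕ} {v : V}
    (h : CPiece (polarBilin Q) g f k v) :
    ∃ W : Submodule F V, 0 < finrank F W ∧ Nondeg (res Q W) ∧ ∃ hW : _root_.Cfsg.Agent.H955.Inv g W, Good (res Q W) (resT g W hW) := by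
  have hnd : Nondeg (res Q (cyc g v)) := nondeg_res_iff.2 h.nd
  exact ⟨cyc g v, finrank_pos_of_mem (self_mem_cyc g v) (ne_zero_of_ann h.irr h.pos h.ann), hnd, cyc_inv g v,
    good_cyc hnd (resT_mem_O hg (cyc_inv g v)) ⟨v, self_mem_cyc g v⟩ (cyc_resT_top (cyc_inv g v) _ rfl)⟩

theorem good_ppiece {g : V ≃ₗ[F] V} (hg : g ∈ O Q) (hfree : ∀ v, g v = v → v = 0) {f : Polynomial F} {k : ℕ}
    {v w : V} (h : PPiece (polarBilin Q) g f k v w) :
    ∃ W : Submodule F V, 0 < finrank F W ∧ Nondeg (res Q W) ∧ ∃ hW : _root_.Cfsg.Agent.H955.Inv g W, Good (res Q W) (resT g W hW) := by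
  have hnd : Nondeg (res Q (cyc g v ⊔ cyc g w)) := nondeg_res_iff.2 h.nd
  have hv : v ∈ cyc g v ⊔ cyc g w := Submodule.mem_sup_left (self_mem_cyc g v)
  have hw : w ∈ cyc g v ⊔ cyc g w := Submodule.mem_sup_right (self_mem_cyc g w)
  have hinv : _root_.Cfsg.Agent.H955.Inv g (cyc g v ⊔ cyc g w) := (cyc_inv g v).sup (cyc_inv g w)
  refine ⟨cyc g v ⊔ cyc g w, finrank_pos_of_mem hv (ne_zero_of_ann h.irr h.pos h.annv), hnd, hinv, ?_⟩
  refine good_pair hnd (resT_mem_O hg hinv) (free_resT hfree hinv) ⟨v, hv⟩ ⟨w, hw⟩ ?_ ?_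
    (cyc_sup_resT_top hinv ⟨v, hv⟩ ⟨w, hw⟩ rfl)
  · intro x hx y hy
    exact h.isov _ (coe_mem_cyc hinv ⟨v, hv⟩ hx) _ (coe_mem_cyc hinv ⟨v, hv⟩ hy)
  · intro x hx y hy
    exact h.isow _ (coe_mem_cyc hinv ⟨w, hw⟩ hx) _ (coe_mem_cyc hinv ⟨w, hw⟩ hy)

theorem st_polar (hQ : Nondeg Q) {g : V ≃ₗ[F] V} (hg : g ∈ O Q) : St (polarBilin Q) 1 g where
  eps := Or.inl rfl
  symm x y := by
    rw [one_mul]
    exact polar_comm Q x y
  nondeg x hx := hQ x hx
  isom x y := polar_map hg x y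

end Two

/-! ### The induction -/

theorem good_subsingleton [CharP F 2] [FiniteDimensional F V] (h : finrank F V = 0) (g : V ≃ₗ[F] V) : Good Q g := by
  have hs : Subsingleton V := Module.finrank_zero_iff.1 h
  have hall : ∀ a b : V ≃ₗ[F] V, a = b := fun a b => by
    ext x
    exact Subsingleton.elim _ _
  refine ⟨1, one_mem _, hall _ _, hall _ _, ?_⟩
  have := Submodule.finrank_le (fixS (1 : V ≃ₗ[F] V))
  omega

/-- **isometries without fixed vectors** -/
theorem good_of_free [CharP F 2] (hP : Pieces.{u, v} F) (d : ℕ) : ∀ {V : Type v} [AddCommGroup V] [Module F V]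
    [FiniteDimensional F V] (Q : QuadraticForm F V), Nondeg Q → finrank F V = d →
    ∀ (g : V ≃ₗ[F] V), g ∈ O Q → (∀ v, g v = v → v = 0) → Good Q g := by
  induction d using Nat.strong_induction_on with
  | _ d ih =>
    intro V _ _ _ Q hQ hd g hg hfree
    rcases Nat.eq_zero_or_pos d with h0 | h0
    · subst h0
      exact good_subsingleton hd g
    · have hnt : Nontrivial V := (Module.finrank_pos_iff (R := F)).1 (by omega)
      obtain ⟨W, hW0, hWn, hWi, hWg⟩ : ∃ W : Submodule F V, 0 < finrank F W ∧ Nondeg (res Q W) ∧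
          ∃ hW : _root_.Cfsg.Agent.H955.Inv g W, Good (res Q W) (resT g W hW) := by
        rcases hP V (polarBilin Q) g (st_polar hQ hg) hfree (exists_ne 0) with ⟨f, k, v, h⟩ | ⟨f, k, v, w, h⟩
        · exact good_cpiece hg h
        · exact good_ppiece hg hfree h
      have hpi : _root_.Cfsg.Agent.H955.Inv g (perp Q W) := inv_perp hg hWi
      have hfr := finrank_add_perp hQ W
      refine good_glue hWn hWi hpi hWg ?_
      exact ih (finrank F (perp Q W)) (by omega) (res Q (perp Q W)) (nondeg_perp hQ hWn) rfl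
        (resT g (perp Q W) hpi) (resT_mem_O hg hpi) (free_resT hfree hpi)

/-- the generalised eigenspace of `1` is orthogonal to the image of the nilpotent part -/
theorem polar_nl_pow [CharP F 2] {g : V ≃ₗ[F] V} (hg : g ∈ O Q) (m : ℕ) :
    ∀ x y : V, (nl g ^ m) x = 0 → polar Q x ((nl g ^ m) y) = 0 := by
  induction m with
  | zero =>
    intro x y hx
    have : x = 0 := hx
    rw [this, polar_zero_left]
  | succ m ih =>
    intro x y hx
    have h1 : (nl g ^ (m + 1)) y = nl g ((nl g ^ m) y) := by rw [pow_succ', Module.End.mul_apply]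
    have h2 : g ((nl g ^ m) y) = (nl g ^ m) (g y) := by
      rw [map_eq g ((nl g ^ m) y), map_eq g y, map_add, ← Module.End.mul_apply, ← Module.End.mul_apply, ← pow_succ,
        ← pow_succ']
    rw [h1, polar_nl hg, ← polar_add_right, add_comm ((nl g ^ m) y), ← map_eq, h2]
    refine ih _ _ ?_
    rw [← Module.End.mul_apply, ← pow_succ, hx]

/-- **every isometry** -/
theorem good_all [Finite F] [CharP F 2] (hP : Pieces.{u, v} F) {V : Type v} [AddCommGroup V] [Module F V]
    [FiniteDimensional F V] {Q : QuadraticForm F V} (hQ : Nondeg Q) {g : V ≃ₗ[F] V} (hg : g ∈ O Q) : Good Q g := by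
  obtain ⟨m, hm, hm1⟩ := ((LinearMap.eventually_isCompl_ker_pow_range_pow (nl g)).and
    (Filter.eventually_ge_atTop 1)).exists
  set W := LinearMap.ker (nl g ^ m) with hWdef
  have hort : ∀ x ∈ W, ∀ y ∈ LinearMap.range (nl g ^ m), polar Q x y = 0 := by
    rintro x hx _ ⟨y, rfl⟩
    exact polar_nl_pow hg m x y hx
  have hWn : Nondeg (res Q W) := by
    rw [nondeg_res_iff]
    intro x hx hxy
    refine hQ x fun y => ?_
    have h1 : y ∈ W ⊔ LinearMap.range (nl g ^ m) := by rw [hm.sup_eq_top]; trivial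
    obtain ⟨a, ha, b, hb, rfl⟩ := Submodule.mem_sup.1 h1
    rw [polar_add_right, hxy a ha, hort x hx b hb, add_zero]
  have hcomm : ∀ x, (nl g ^ m) (g x) = g ((nl g ^ m) x) := by
    intro x
    rw [map_eq g ((nl g ^ m) x), map_eq g x, map_add, ← Module.End.mul_apply, ← Module.End.mul_apply, ← pow_succ,
        ← pow_succ']
  have hWi : _root_.Cfsg.Agent.H955.Inv g W := by
    intro x hx
    rw [hWdef, LinearMap.mem_ker] at hx ⊢
    rw [hcomm, hx, map_zero]
  have hpi : _root_.Cfsg.Agent.H955.Inv g (perp Q W) := inv_perp hg hWi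
  refine good_glue hWn hWi hpi ?_ ?_
  · refine good_of_nilpotent (finrank F W) (res Q W) hWn rfl _ (resT_mem_O hg hWi) ⟨m, ?_⟩
    ext x
    rw [coe_nl_resT hWi]
    exact x.2
  · refine good_of_free hP (finrank F (perp Q W)) (res Q (perp Q W)) (nondeg_perp hQ hWn) rfl
      (resT g (perp Q W) hpi) (resT_mem_O hg hpi) ?_
    intro v hv
    have h1 : g (v : V) = v := congrArg Subtype.val hv
    have h2 : nl g (v : V) = 0 := by rw [nl_apply, h1]; exact add_self' F _
    have h3 : (v : V) ∈ W := by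
      obtain ⟨j, rfl⟩ : ∃ j, m = j + 1 := ⟨m - 1, by omega⟩
      show (nl g ^ (j + 1)) (v : V) = 0
      rw [pow_succ, Module.End.mul_apply, h2, map_zero]
    exact Subtype.ext (nondeg_res_iff.1 hWn _ h3 fun y hy => by rw [polar_comm]; exact v.2 y hy)

end Cfsg.Agent.H84.SREven
end

-- part: H84/SR/EvenPieces
section
/-!
# TEAM SR (S4971): `Pieces F` from the two parts of THEOREM PIECE
-/

set_option autoImplicit false

namespace Cfsg.Agent.H84.SREven

open Module Polynomial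
open Cfsg.Agent.H721.SR (St CPiece PPiece)

universe u v

/-- part (i): factors which are not self-reciprocal -/
def PieceA (F : Type u) [Field F] : Prop :=
  ∀ (V : Type v) [AddCommGroup V] [Module F V] [FiniteDimensional F V] (B : V →ₗ[F] V →ₗ[F] F) (g : V ≃ₗ[F] V),
    St B 1 g → ∀ f : F[X], Irreducible f → f ∣ minpoly F (g : V →ₗ[F] V) → ¬ Associated f f.reverse →
    ∃ (f : F[X]) (k : ℕ) (v w : V), PPiece B g f k v w

/-- part (ii): self-reciprocal factors -/
def PieceB (F : Type u) [Field F] : Prop :=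
  ∀ (V : Type v) [AddCommGroup V] [Module F V] [FiniteDimensional F V] (B : V →ₗ[F] V →ₗ[F] F) (g : V ≃ₗ[F] V),
    St B 1 g → ∀ f : F[X], Irreducible f → f ∣ minpoly F (g : V →ₗ[F] V) → Associated f f.reverse →
    ¬ Associated f (X - 1) → ¬ Associated f (X + 1) → ∃ (f : F[X]) (k : ℕ) (v : V), CPiece B g f k v

theorem exists_fixed_of_dvd {F : Type u} [Field F] {V : Type v} [AddCommGroup V] [Module F V]
    [FiniteDimensional F V] (g : V ≃ₗ[F] V) (h : (X - 1 : F[X]) ∣ minpoly F (g : V →ₗ[F] V)) :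
    ∃ v : V, v ≠ 0 ∧ g v = v := by
  have h1 : (minpoly F (g : V →ₗ[F] V)).IsRoot 1 := by
    rw [← dvd_iff_isRoot, C_1]
    exact h
  obtain ⟨v, hv⟩ := (Module.End.hasEigenvalue_of_isRoot h1).exists_hasEigenvector
  refine ⟨v, hv.2, ?_⟩
  have := hv.apply_eq_smul
  rwa [one_smul] at this

theorem pieces_of {F : Type u} [Field F] [CharP F 2] (hA : PieceA.{u, v} F) (hB : PieceB.{u, v} F) :
    Pieces.{u, v} F := by
  intro V _ _ _ B g hS hfree hne
  obtain ⟨v0, hv0⟩ := hne
  have hnt : Nontrivial V := ⟨⟨v0, 0, hv0⟩⟩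
  have hint : IsIntegral F (g : V →ₗ[F] V) := Algebra.IsIntegral.isIntegral _
  obtain ⟨f, hf, hfd⟩ := WfDvdMonoid.exists_irreducible_factor (minpoly.not_isUnit F (g : V →ₗ[F] V))
    (minpoly.ne_zero hint)
  have key : ¬ Associated f (X - 1) := by
    intro h
    obtain ⟨v, hv, hgv⟩ := exists_fixed_of_dvd g (h.symm.dvd.trans hfd)
    exact hv (hfree v hgv)
  have h2 : (X - 1 : F[X]) = X + 1 := by
    rw [sub_eq_add_neg]
    congr 1
    exact CharTwo.neg_eq 1
  by_cases hr : Associated f f.reverse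
  · exact Or.inl (hB V B g hS f hf hfd hr key (by rwa [← h2]))
  · exact Or.inr (hA V B g hS f hf hfd hr)

end Cfsg.Agent.H84.SREven
end

-- part: H84/SR/EvenRows
section
/-!
# TEAM SR (S4971): the simple orthogonal groups of dimension `4 m` in characteristic two
-/

set_option autoImplicit false
set_option linter.unusedSectionVars false

namespace Cfsg.Agent.H84.SREven

open Module QuadraticMap Cfsg
open Cfsg.Agent.LieClassical.OrthCore Cfsg.Agent.LieClassical.OrthForms Cfsg.Agent.LieClassical.OrthFinite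
open Cfsg.Agent.H892.FSUni
open Cfsg.Agent.H646.FSGlue (fxd mem_ker_sub_id)
open Cfsg.Agent.H646.FSOmega (mem_commutator)
open Cfsg.Agent.H955 hiding cyc NdOn
open Cfsg.Agent.H721.SR (SR RR)

universe u v

/-- **the inverting involution**, `dim V = 2 n` -/
theorem exists_inv {F : Type u} [Field F] [Finite F] [CharP F 2] (hP : Pieces.{u, v} F) {V : Type v}
    [AddCommGroup V] [Module F V] [FiniteDimensional F V] {Q : QuadraticForm F V} (hQ : Nondeg Q) {n : ℕ}
    (hn : finrank F V = 2 * n) {g : V ≃ₗ[F] V} (hg : g ∈ O Q) :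
    ∃ h ∈ O Q, h * h = 1 ∧ h * g * h⁻¹ = g⁻¹ ∧
      finrank F (LinearMap.ker ((h : V →ₗ[F] V) - LinearMap.id)) = n ∧
      finrank F (LinearMap.range ((h : V →ₗ[F] V) - LinearMap.id)) = n := by
  obtain ⟨h, hO, h2, hinv, hd⟩ := good_all hP hQ hg
  have h3 : finrank F (LinearMap.ker ((h : V →ₗ[F] V) - LinearMap.id)) = n := by
    have h4 : fixS h = LinearMap.ker ((h : V →ₗ[F] V) - LinearMap.id) := rfl
    rw [h4] at hd
    omega
  refine ⟨h, hO, h2, ?_, h3, ?_⟩
  · rw [hinv, mul_assoc, mul_inv_cancel, mul_one]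
  · have h5 := LinearMap.finrank_range_add_finrank_ker ((h : V →ₗ[F] V) - LinearMap.id)
    (clear * - hn h3 h5; omega)

section Matrix

variable {F : Type u} [Field F] [Finite F] [CharP F 2] {ι : Type} [Fintype ι] [DecidableEq ι]
  (Q : QuadraticForm F (ι → F))

theorem sr_omega (hP : Pieces.{u, u} F) (hQ : Nondeg Q) {m : ℕ} (hm : 2 ≤ m) (hι : Fintype.card ι = 4 * m)
    (g : commutator (Cfsg.isometryGroup F ⇑Q)) : SR g := by
  have hn : finrank F (ι → F) = 2 * (2 * m) := by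
    rw [Module.finrank_fintype_fun_eq_card, hι]
    ring
  obtain ⟨h, hO, h2, hinv, hfx, -⟩ := exists_inv hP hQ hn (isometryEquiv Q g).2
  let H : Cfsg.isometryGroup F ⇑Q := (isometryEquiv Q).symm ⟨h, hO⟩
  have hH : isometryEquiv Q H = ⟨h, hO⟩ := (isometryEquiv Q).apply_symm_apply _
  have hH0 : H * H = 1 := by
    apply (isometryEquiv Q).injective
    rw [map_mul, map_one, hH]
    exact Subtype.ext h2
  have hH1 : H * (g : Cfsg.isometryGroup F ⇑Q) * H⁻¹ = (g : Cfsg.isometryGroup F ⇑Q)⁻¹ := by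
    apply (isometryEquiv Q).injective
    rw [map_mul, map_mul, map_inv, map_inv, hH]
    exact Subtype.ext hinv
  have hH2 : H ∈ commutator (Cfsg.isometryGroup F ⇑Q) := by
    refine mem_commutator Q hQ hm hι H ?_
    rw [hH]
    show Even (fxd h)
    rw [show fxd h = 2 * m from hfx]
    exact even_two_mul m
  exact ⟨⟨H, hH2⟩, Subtype.ext hH0, Subtype.ext hH1⟩

end Matrix

/-- elements of the quotient by the centre -/
theorem sr_quot {G : Type*} [Group G] (h : ∀ g : G, SR g) (x : G ⧸ Subgroup.center G) : SR x := by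
  obtain ⟨g, rfl⟩ := QuotientGroup.mk'_surjective (Subgroup.center G) x
  exact (h g).map (QuotientGroup.mk' (Subgroup.center G))

variable {F : Type u} [Field F] [Finite F] [CharP F 2]

/-- **`Ω⁺_{4m}(q)`, `q` even** -/
theorem sr_omega_plus (hP : Pieces.{u, u} F) {m : ℕ} (hm : 2 ≤ m) (g : Cfsg.Omega F (Cfsg.quadFormPlus (2 * m) F)) :
    SR g := by
  revert g
  rw [← coe_plusForm]
  intro g
  refine sr_omega (plusForm (2 * m) F) hP (nondeg_plusForm (2 * m) F) hm ?_ g
  rw [Fintype.card_sum, Fintype.card_fin]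
  ring

/-- **`Ω⁻_{4m}(q)`, `q` even** -/
theorem sr_omega_minus (hP : Pieces.{u, u} F) {m : ℕ} (hm : 2 ≤ m) {a b : F}
    (hab : ∀ z₁ z₂ : F, z₁ ^ 2 + a * z₁ * z₂ + b * z₂ ^ 2 = 0 → z₁ = 0 ∧ z₂ = 0)
    (g : Cfsg.Omega F (Cfsg.quadFormMinus (2 * m - 1) F a b)) : SR g := by
  revert g
  rw [← coe_minusForm]
  intro g
  refine sr_omega (minusForm (2 * m - 1) F a b) hP (nondeg_minusForm (2 * m - 1) F a b hab) hm ?_ g
  rw [Fintype.card_sum, Fintype.card_sum, Fintype.card_fin, Fintype.card_fin]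
  omega

/-- **`PΩ⁺_{4m}(q)`, `q` even** -/
theorem sr_pomega_plus (hP : Pieces.{u, u} F) {m : ℕ} (hm : 2 ≤ m)
    (x : Cfsg.POmega F (Cfsg.quadFormPlus (2 * m) F)) : SR x :=
  sr_quot (sr_omega_plus hP hm) x

/-- **`PΩ⁻_{4m}(q)`, `q` even** -/
theorem sr_pomega_minus (hP : Pieces.{u, u} F) {m : ℕ} (hm : 2 ≤ m) {a b : F}
    (hab : ∀ z₁ z₂ : F, z₁ ^ 2 + a * z₁ * z₂ + b * z₂ ^ 2 = 0 → z₁ = 0 ∧ z₂ = 0)
    (x : Cfsg.POmega F (Cfsg.quadFormMinus (2 * m - 1) F a b)) : SR x :=
  sr_quot (sr_omega_minus hP hm hab) x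

end Cfsg.Agent.H84.SREven
end

-- part: H84/SR/EvenFinal
section
/-!
# TEAM SR (S4971): the orthogonal and symplectic groups in characteristic two, no hypotheses
-/

set_option autoImplicit false

namespace Cfsg.Agent.H84.SREven

open Module QuadraticMap Cfsg
open Cfsg.Agent.LieClassical.OrthCore
open Cfsg.Agent.H721.SR (SR RR)

universe u v

/-- THEOREM PIECE in characteristic two -/
theorem pieces (F : Type u) [Field F] [CharP F 2] : Pieces.{u, v} F := by
  refine pieces_of ?_ ?_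
  · intro V _ _ _ B g hS f hf hd hna
    obtain ⟨k, v, w, h⟩ := Cfsg.Agent.H807.SR.exists_ppiece hS hf hd hna
    exact ⟨f, k, v, w, h⟩
  · intro V _ _ _ B g hS f hf hd hr h1 h2
    obtain ⟨k, v, h⟩ := Cfsg.Agent.H559.SR.exists_cpiece hS hf hd hr h1 h2
    exact ⟨f, k, v, h⟩

/-- **Every isometry of a nondegenerate quadratic form over a finite field of characteristic two is inverted by an
isometry of order at most two with a fixed space of half the dimension.** -/
theorem good {F : Type u} [Field F] [Finite F] [CharP F 2] {V : Type v} [AddCommGroup V] [Module F V]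
    [FiniteDimensional F V] {Q : QuadraticForm F V} (hQ : Nondeg Q) {g : V ≃ₗ[F] V} (hg : g ∈ O Q) :
    Cfsg.Agent.H892.FSUni.Good Q g := good_all (pieces F) hQ hg

theorem exists_inv' {F : Type u} [Field F] [Finite F] [CharP F 2] {V : Type v}
    [AddCommGroup V] [Module F V] [FiniteDimensional F V] {Q : QuadraticForm F V} (hQ : Nondeg Q) {n : ℕ}
    (hn : finrank F V = 2 * n) {g : V ≃ₗ[F] V} (hg : g ∈ O Q) :
    ∃ h ∈ O Q, h * h = 1 ∧ h * g * h⁻¹ = g⁻¹ ∧
      finrank F (LinearMap.ker ((h : V →ₗ[F] V) - LinearMap.id)) = n ∧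
      finrank F (LinearMap.range ((h : V →ₗ[F] V) - LinearMap.id)) = n := exists_inv (pieces F) hQ hn hg

variable {F : Type u} [Field F] [Finite F] [CharP F 2]

/-- the orthogonal input of helper686 -/
theorem inp (m : ℕ) : Cfsg.Agent.H686.SR.Dye.Inp F m := by
  intro Q hQ g hg
  obtain ⟨h, hO, h2, hinv, -⟩ := good (Q := Q) hQ hg
  exact ⟨h, hO, h2, by rw [hinv, mul_assoc, mul_inv_cancel, mul_one]⟩

/-- **`PΩ⁺_{4m}(q)`, `q` even** -/
theorem sr_plus {m : ℕ} (hm : 2 ≤ m) (x : Cfsg.POmega F (Cfsg.quadFormPlus (2 * m) F)) : SR x :=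
  sr_pomega_plus (pieces F) hm x

/-- **`PΩ⁻_{4m}(q)`, `q` even** -/
theorem sr_minus {m : ℕ} (hm : 2 ≤ m) {a b : F}
    (hab : ∀ z₁ z₂ : F, z₁ ^ 2 + a * z₁ * z₂ + b * z₂ ^ 2 = 0 → z₁ = 0 ∧ z₂ = 0)
    (x : Cfsg.POmega F (Cfsg.quadFormMinus (2 * m - 1) F a b)) : SR x :=
  sr_pomega_minus (pieces F) hm hab x

/-- **`PSp_{2m}(q)`, `q` even** -/
theorem sr_psp {m : ℕ} (x : Cfsg.PSp m F) : SR x := Cfsg.Agent.H686.SR.Dye.sr_psp_two (inp m) x

end Cfsg.Agent.H84.SREven
end

private theorem dce_fd00d5abf713 : _root_.True := by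
  try have : _root_.True := by simp only [_root_.Cfsg.Agent.H721.SR.cyc.eq_1]
  exact _root_.True.intro
end
end
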